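import Groth.Agent.SemiFact.K794.Nodal
import Groth.Agent.LabGraph.K794.Congruence0
import Groth.Prelude.Def_Formal2

/-!
# Nodal families over a discrete valuation ring: extension of invertible modules from the generic fibre
-/

set_option autoImplicit false
set_option linter.unusedSectionVars false
universe u v
open CategoryTheory CategoryTheory.Limits AlgebraicGeometry IsLocalRing TopologicalSpace Opposite
open Groth.Agent.Fdesc.LocGen

namespace K794.Glob.Sit

variable {X Z : Scheme.{u}} {i : Z ⟶ X} {t : Γ(X, ⊤)} {ι : Type*} {ξ : ι → X} (H : Sit i t ξ)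
  {L : Z.Modules} (hL : PicF.IsInvertible L)

include H hL in
/-- local generators at the generic points of `V(t)` -/
theorem exists_gens [Finite ι] : ∃ (U₀ : ι → X.Opens) (G : ∀ v, Γ(L, i ⁻¹ᵁ (U₀ v))), ∀ v, GenAt i (ξ v) (G v) := by
  have h : ∀ v, ∃ (U : X.Opens) (G : Γ(L, i ⁻¹ᵁ U)), GenAt i (ξ v) G := by
    intro v
    obtain ⟨V, hV, hv⟩ := exists_affine (ξ v)
    let _ := algV i V
    let _ := modV i L V
    have haw := H.away hV
    have hinv := H.inv hL hV
    obtain ⟨g, hg⟩ := K794.Lat.exists_gen (H.sys hV) (K := Γ(Z, i ⁻¹ᵁ V)) (L := Γ(L, i ⁻¹ᵁ V)) ⟨v, hv⟩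
    obtain ⟨h, hh, hgen⟩ := H.exists_isGen hL hV hv g (by
      intro u
      obtain ⟨k, a, ha, b, hab⟩ := hg.exists_le u
      refine ⟨a, ha, k, b, ?_⟩
      rw [mul_smul]
      exact hab)
    exact ⟨V, g, X.basicOpen h, X.basicOpen_le h, notMem_qi.1 hh, hgen⟩
  choose U₀ G hG using h
  exact ⟨U₀, G, hG⟩

end K794.Glob.Sit

namespace K794.Nodal

open K794.Glob K793.Basic

variable {R : Type u} [CommRing R] [IsDomain R] [IsDiscreteValuationRing R]
    {X : Scheme.{u}} (f : X ⟶ Spec (CommRingCat.of R))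
    {V E : Type v} [Fintype V] [Fintype E]
    {cv : V → Set ↥(f.fiber (IsLocalRing.closedPoint R))} {ce : E → ↥(f.fiber (IsLocalRing.closedPoint R))}
    {ends : E → V × V} {ϖ : R} (hϖ : Irreducible ϖ) {l : E → ℕ}
    (hΓ : DualGr.IsLabelledDualGraph R f cv ce ends (fun e => if l e = 0 then 0 else ϖ ^ l e))

section Main

variable [Flat f] [IsReduced (f.fiber (closedPoint R))] [IsLocallyNoetherian X]
    {L : (pullback f (Neron.genPt R)).Modules} (hL : PicF.IsInvertible L)
    {U₀ : V → X.Opens} {G : ∀ v, Γ(L, (pullback.fst f (Neron.genPt R)) ⁻¹ᵁ (U₀ v))}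
    (hG : ∀ v, GenAt (pullback.fst f (Neron.genPt R)) (xi f hΓ.isDualGraph v) (G v))

include hL hG in
/-- the local class at the nodes -/
theorem exists_class (e : E) : ∃ m : ℤ, ∀ φ : V → ℤ,
    (sit f hΓ.isDualGraph hϖ).Pr G φ (f.fiberι (closedPoint R) (ce e)) ↔
      (l e : ℤ) ∣ m - (φ (ends e).2 - φ (ends e).1) := by
  set x := f.fiberι (closedPoint R) (ce e) with hx
  have hfx : f x = (closedPoint R : PrimeSpectrum R) :=
    Groth.Agent.CycB.FiberStalk.fiberι_mem f (closedPoint R) _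
  have hmem : DualGr.stalkHom f x ϖ ∈ maximalIdeal (X.presheaf.stalk x) := by
    rw [mem_maximalIdeal, mem_nonunits_iff, isUnit_stalkHom_iff_ne f x hϖ, not_not]
    exact hfx
  obtain ⟨y, z, N⟩ := K794.NodeCpl.exists_nodeData hϖ (DualGr.stalkHom f x) hmem
    (stalkHom_mem_nonZeroDivisors f x hϖ.ne_zero) (l e) (hΓ.thick e)
  have hNC : IsNoetherianRing (Curv2.cpl (X.presheaf.stalk x)) := Groth.Agent.Ega4A.CplQuot.isNoetherianRing_cpl _
  have hff : Module.FaithfullyFlat (X.presheaf.stalk x) (Curv2.cpl (X.presheaf.stalk x)) :=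
    Groth.Agent.Ega4A.CplQuot.faithfullyFlat_cpl _
  have hmax : (maximalIdeal (X.presheaf.stalk x)).map (algebraMap (X.presheaf.stalk x)
      (Curv2.cpl (X.presheaf.stalk x))) = maximalIdeal (Curv2.cpl (X.presheaf.stalk x)) :=
    AdicCompletion.maximalIdeal_eq_map.symm
  refine (sit f hΓ.isDualGraph hϖ).exists_class hL hG x (B := Curv2.cpl (X.presheaf.stalk x)) N hmax
    (ends e).1 (ends e).2 fun v => ?_
  rw [hx, xi_specializes, ← hΓ.isDualGraph.incidence]

include hL hG in
/-- a solution of the congruences at the nodes gives local generators everywhere. -/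
theorem pr_of_forall (hf : Curv2.IsNodalFamily f) (φ : V → ℤ)
    (h : ∀ e, (sit f hΓ.isDualGraph hϖ).Pr G φ (f.fiberι (closedPoint R) (ce e))) (x : X) :
    (sit f hΓ.isDualGraph hϖ).Pr G φ x := by
  by_cases hx : x ∈ X.basicOpen (gl f ϖ)
  · exact Sit.Pr.of_mem_basicOpen _ hL hx
  · have hx' := hx
    rw [mem_basicOpen_iff f hϖ, not_not] at hx'
    obtain ⟨y, rfl⟩ := exists_fiber_point f x hx'
    by_cases hy : y ∈ DualGr.nonsmoothPts (f.fiberToSpecResidueField (closedPoint R))
    · obtain ⟨e, rfl⟩ := hΓ.isDualGraph.pt_surjective y hy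
      exact h e
    · obtain ⟨hp, z, hz, hm⟩ := smooth_point f hf hϖ y hy
      exact (sit f hΓ.isDualGraph hϖ).pr_of_prime hL hG _ hx hp z hz hm φ

end Main

include hϖ hΓ in
theorem picPullbackSurjective [IsProper f] (hf : Curv2.IsNodalFamily f) [DecidableEq V] [DecidableEq E]
    (hcop : LabGraph.IsCircuitCoprime ends l) :
    Formal2.PicPullbackSurjective (pullback.fst f (Neron.genPt R)) := by
  have hflat : Flat f := hf.1
  have hred := K793.NodalFib.isReduced_fiber f hf (closedPoint R)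
  have hN : IsLocallyNoetherian X := LocallyOfFiniteType.isLocallyNoetherian f
  intro L hL
  let H := sit f hΓ.isDualGraph hϖ
  obtain ⟨U₀, G, hG⟩ := H.exists_gens hL
  choose m hm using exists_class f hϖ hΓ hL hG
  obtain ⟨φ, hφ⟩ := K794.Congruence0.exists_congruence ends l hcop m
  exact H.exists_glue (pr_of_forall f hϖ hΓ hL hG hf φ fun e => (hm e φ).2 (hφ e))

end K794.Nodal
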