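import Groth.Agent.SemiFact.K794.NodeAlg
import Groth.Agent.DualGr.K934.Unique
import Groth.Agent.Ega4A.CplQuot

/-!
# The completion of the local ring of a thick node over a discrete valuation ring is a node ring
-/

set_option autoImplicit false
set_option linter.unusedSectionVars false

open IsLocalRing

namespace K794.NodeCpl

open K794.NodeAlg K934.Node

universe u

section

variable {R : Type u} [CommRing R] [IsDomain R] [IsDiscreteValuationRing R] {ϖ : R} (hϖ : Irreducible ϖ)

/-- the coefficients of a power series killed by restriction to an axis modulo `ϖ`. -/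
theorem mem_span_of_al_eq_zero (F : MvPowerSeries (Fin 2) (Curv2.cpl R)) (P : Ideal (Curv2.cpl R)) (c : Curv2.cpl R)
    (hP : P = Ideal.span {c}) (i j : Fin 2) (hij : i ≠ j)
    (hF : (PowerSeries.map (Ideal.Quotient.mk P)).comp (axis (Curv2.cpl R) i) F = 0) :
    F ∈ Ideal.span {(MvPowerSeries.X j : MvPowerSeries (Fin 2) (Curv2.cpl R)), MvPowerSeries.C c} := by
  classical
  have h1 : ∀ n : ℕ, ∃ d, MvPowerSeries.coeff (Finsupp.single i n) F = c * d := by
    intro n
    have := congrArg (PowerSeries.coeff n) hF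
    rw [RingHom.comp_apply, PowerSeries.coeff_map, coeff_axis, map_zero, Ideal.Quotient.eq_zero_iff_mem, hP,
      Ideal.mem_span_singleton] at this
    exact this
  choose d hd using h1
  let G : MvPowerSeries (Fin 2) (Curv2.cpl R) := fun m => d (m i)
  have h2 : MvPowerSeries.X j ∣ F - MvPowerSeries.C c * G := by
    rw [MvPowerSeries.X_dvd_iff]
    intro m hm
    have hmi : m = Finsupp.single i (m i) := by
      ext k
      by_cases hk : k = i
      · subst hk; simp
      · have hkj : k = j := by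
          fin_cases i <;> fin_cases j <;> fin_cases k <;> simp_all
        subst hkj
        rw [hm, Finsupp.single_apply, if_neg hij]
    rw [map_sub, MvPowerSeries.coeff_C_mul, hmi, hd]
    have : MvPowerSeries.coeff (Finsupp.single i (m i)) G = d (m i) := by
      change d ((Finsupp.single i (m i)) i) = d (m i)
      rw [Finsupp.single_eq_same]
    rw [this, sub_self]
  obtain ⟨H, hH⟩ := h2
  refine Ideal.mem_span_pair.2 ⟨H, G, ?_⟩
  rw [mul_comm H, mul_comm G, ← hH]
  ring

/-- restriction to the `i`-th axis modulo `P`. -/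
noncomputable def al (P : Ideal (Curv2.cpl R)) (i : Fin 2) :
    MvPowerSeries (Fin 2) (Curv2.cpl R) →+* PowerSeries (Curv2.cpl R ⧸ P) :=
  (PowerSeries.map (Ideal.Quotient.mk P)).comp (axis (Curv2.cpl R) i)

theorem al_C (P : Ideal (Curv2.cpl R)) (i : Fin 2) (c : Curv2.cpl R) : al P i (MvPowerSeries.C c) =
    PowerSeries.C (Ideal.Quotient.mk P c) := by
  rw [al, RingHom.comp_apply, axis_C, PowerSeries.map_C]

theorem al_X_self (P : Ideal (Curv2.cpl R)) (i : Fin 2) : al P i (MvPowerSeries.X i) = PowerSeries.X := by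
  rw [al, RingHom.comp_apply, axis_X_self, PowerSeries.map_X]

theorem al_X_ne (P : Ideal (Curv2.cpl R)) {i j : Fin 2} (h : i ≠ j) : al P i (MvPowerSeries.X j) = 0 := by
  rw [al, RingHom.comp_apply, axis_X_ne h, map_zero]

theorem al_rel (a : R) (P : Ideal (Curv2.cpl R)) (ha : algebraMap R (Curv2.cpl R) a ∈ P) (i : Fin 2) : al P i
    (MvPowerSeries.X 0 * MvPowerSeries.X 1 - MvPowerSeries.C (algebraMap R (Curv2.cpl R) a)) = 0 := by
  have h0 : Ideal.Quotient.mk P (algebraMap R (Curv2.cpl R) a) = 0 :=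
    Ideal.Quotient.eq_zero_iff_mem.mpr ha
  rw [map_sub, map_mul, al_C, h0, map_zero, sub_zero]
  fin_cases i
  · change al P 0 (MvPowerSeries.X 0) * al P 0 (MvPowerSeries.X 1) = 0
    rw [al_X_ne P (i := 0) (j := 1) (by decide), mul_zero]
  · change al P 1 (MvPowerSeries.X 0) * al P 1 (MvPowerSeries.X 1) = 0
    rw [al_X_ne P (i := 1) (j := 0) (by decide), zero_mul]

/-- the map from the node ring. -/
noncomputable def nal (a : R) (P : Ideal (Curv2.cpl R)) (ha : algebraMap R (Curv2.cpl R) a ∈ P) (i : Fin 2) :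
    DualGr.nodeRing R a →+* PowerSeries (Curv2.cpl R ⧸ P) :=
  Ideal.Quotient.lift _ (al P i) (by
    intro x hx
    rw [Ideal.mem_span_singleton'] at hx
    obtain ⟨t, rfl⟩ := hx
    rw [map_mul, al_rel a P ha, mul_zero])

theorem nal_mk (a : R) (P : Ideal (Curv2.cpl R)) (ha : algebraMap R (Curv2.cpl R) a ∈ P) (i : Fin 2)
    (F : MvPowerSeries (Fin 2) (Curv2.cpl R)) :
    nal a P ha i (Ideal.Quotient.mk _ F) = al P i F := rfl

/-- the label as an element of the completion. -/
theorem label_mem (l : ℕ) : algebraMap R (Curv2.cpl R) (if l = 0 then 0 else ϖ ^ l) ∈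
    Ideal.span {algebraMap R (Curv2.cpl R) ϖ} := by
  split_ifs with h
  · rw [map_zero]; exact Ideal.zero_mem _
  · rw [map_pow]
    exact Ideal.pow_mem_of_mem _ (Ideal.mem_span_singleton_self _) _ (Nat.pos_of_ne_zero h)

include hϖ in
theorem maximalIdeal_cpl : maximalIdeal (Curv2.cpl R) = Ideal.span {algebraMap R (Curv2.cpl R) ϖ} := by
  have h : (maximalIdeal R).map (algebraMap R (Curv2.cpl R)) = maximalIdeal (Curv2.cpl R) :=
    AdicCompletion.maximalIdeal_eq_map.symm
  have h2 : (maximalIdeal R).map (algebraMap R (Curv2.cpl R)) = Ideal.span {algebraMap R (Curv2.cpl R) ϖ} := by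
    conv_lhs => arg 2; rw [hϖ.maximalIdeal_eq]
    rw [Ideal.map_span, Set.image_singleton]
  rw [← h, h2]

variable {C : Type u} [CommRing C] [IsLocalRing C] [IsNoetherianRing C] (φ : R →+* C)

include hϖ in
theorem exists_nodeData_aux (hφ : φ ϖ ∈ maximalIdeal C) (hnzd : φ ϖ ∈ nonZeroDivisors C) (l : ℕ) (a : R)
    (haP : algebraMap R (Curv2.cpl R) a ∈ Ideal.span {algebraMap R (Curv2.cpl R) ϖ})
    (ha : algebraMap C (Curv2.cpl C) (φ a) = if l = 0 then 0 else (algebraMap C (Curv2.cpl C) (φ ϖ)) ^ l)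
    (h : DualGr.IsThickNode φ a) :
    ∃ x y : Curv2.cpl C, NodeData (algebraMap C (Curv2.cpl C) (φ ϖ)) x y l := by
  obtain ⟨e, he⟩ := h
  have hNC : IsNoetherianRing (Curv2.cpl C) := Groth.Agent.Ega4A.CplQuot.isNoetherianRing_cpl C
  have hff : Module.FaithfullyFlat C (Curv2.cpl C) := Groth.Agent.Ega4A.CplQuot.faithfullyFlat_cpl C
  obtain ⟨x, hex⟩ : ∃ x : Fin 2 → Curv2.cpl C, ∀ i, e (x i) = Ideal.Quotient.mk _ (MvPowerSeries.X i) :=
    ⟨fun i => e.symm (Ideal.Quotient.mk _ (MvPowerSeries.X i)), fun i => e.apply_symm_apply _⟩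
  have hmR := maximalIdeal_cpl hϖ
  have ham : algebraMap R (Curv2.cpl R) a ∈ maximalIdeal (Curv2.cpl R) := by rw [hmR]; exact haP
  have hP : (Ideal.span {algebraMap R (Curv2.cpl R) ϖ}).IsPrime := by
    rw [← hmR]; exact (maximalIdeal.isMaximal _).isPrime
  have hmem : ∀ i, x i ∈ maximalIdeal (Curv2.cpl C) := by
    intro i
    rw [mem_maximalIdeal, mem_nonunits_iff]
    intro hu
    exact not_isUnit_mk_X _ ham i (by rw [← hex]; exact hu.map e)
  have hπmem : algebraMap C (Curv2.cpl C) (φ ϖ) ∈ maximalIdeal (Curv2.cpl C) := by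
    have h1 : (maximalIdeal C).map (algebraMap C (Curv2.cpl C)) = maximalIdeal (Curv2.cpl C) :=
      AdicCompletion.maximalIdeal_eq_map.symm
    rw [← h1]
    exact Ideal.mem_map_of_mem _ hφ
  -- the map to the axis
  set P : Ideal (Curv2.cpl R) := Ideal.span {algebraMap R (Curv2.cpl R) ϖ} with hPdef
  let Θ : Fin 2 → (Curv2.cpl C →+* PowerSeries (Curv2.cpl R ⧸ P)) :=
    fun i => (nal a P haP i).comp (e : Curv2.cpl C →+* DualGr.nodeRing R a)
  have hΘx : ∀ i, Θ i (x i) = PowerSeries.X := by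
    intro i
    change nal a P haP i (e (x i)) = _
    rw [hex, nal_mk, al_X_self]
  have hΘy : ∀ i j, i ≠ j → Θ i (x j) = 0 := by
    intro i j hij
    change nal a P haP i (e (x j)) = _
    rw [hex, nal_mk, al_X_ne P hij]
  have hΘπ : ∀ i, Θ i (algebraMap C (Curv2.cpl C) (φ ϖ)) = 0 := by
    intro i
    change nal a P haP i (e (algebraMap C (Curv2.cpl C) (φ ϖ))) = _
    rw [he, nal_mk, al_C, Ideal.Quotient.eq_zero_iff_mem.2 (Ideal.mem_span_singleton_self _), map_zero]
  have hker : ∀ i j, i ≠ j → RingHom.ker (Θ i) = Ideal.span {x j, algebraMap C (Curv2.cpl C) (φ ϖ)} := by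
    intro i j hij
    apply le_antisymm
    · intro z hz
      obtain ⟨F, hF⟩ := Ideal.Quotient.mk_surjective (e z)
      have h1 : al P i F = 0 := by
        have h2 : nal a P haP i (e z) = 0 := hz
        rwa [← hF, nal_mk] at h2
      obtain ⟨u, v, huv⟩ := Ideal.mem_span_pair.1 (mem_span_of_al_eq_zero F P _ hPdef i j hij h1)
      refine Ideal.mem_span_pair.2 ⟨e.symm (Ideal.Quotient.mk _ u), e.symm (Ideal.Quotient.mk _ v), ?_⟩
      apply e.injective
      rw [map_add, map_mul, map_mul, e.apply_symm_apply, e.apply_symm_apply, hex, he, ← hF, ← huv, map_add,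
        map_mul, map_mul]
    · rw [Ideal.span_le]
      rintro z (rfl | rfl)
      · exact hΘy i j hij
      · exact hΘπ i
  have hprime : ∀ i j, i ≠ j → (Ideal.span {x j, algebraMap C (Curv2.cpl C) (φ ϖ)}).IsPrime := by
    intro i j hij
    rw [← hker i j hij]
    exact RingHom.ker_isPrime _
  have hnot : ∀ i j, i ≠ j → x i ∉ Ideal.span {x j, algebraMap C (Curv2.cpl C) (φ ϖ)} := by
    intro i j hij hmem
    rw [← hker i j hij, RingHom.mem_ker, hΘx] at hmem
    exact PowerSeries.X_ne_zero hmem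
  refine ⟨x 0, x 1, ?_, ?_, hprime 1 0 (by decide), hprime 0 1 (by decide), hnot 1 0 (by decide),
    hnot 0 1 (by decide), ?_, hmem 0, hmem 1, hπmem⟩
  · have h1 : IsSMulRegular C (φ ϖ) := by
      rw [isSMulRegular_iff_right_eq_zero_of_smul]
      intro z hz
      rw [smul_eq_mul, mul_comm] at hz
      exact (mem_nonZeroDivisors_iff_right.1 hnzd) z hz
    have h2 : IsSMulRegular (Curv2.cpl C) (algebraMap C (Curv2.cpl C) (φ ϖ)) := h1.of_flat
    rw [isSMulRegular_iff_right_eq_zero_of_smul] at h2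
    rw [mem_nonZeroDivisors_iff_right]
    intro z hz
    exact h2 z (by rw [smul_eq_mul, mul_comm]; exact hz)
  · have h1 : x 0 * x 1 = algebraMap C (Curv2.cpl C) (φ a) := by
      apply e.injective
      rw [he, map_mul, hex, hex, ← map_mul, Ideal.Quotient.eq]
      exact Ideal.mem_span_singleton_self _
    rw [h1, ha]
  · intro z hz
    obtain ⟨H, hH⟩ := Ideal.Quotient.mk_surjective (e z)
    have hHu : ¬ IsUnit H := by
      intro hu
      rw [mem_maximalIdeal, mem_nonunits_iff] at hz
      apply hz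
      have h1 : IsUnit (e z) := by rw [← hH]; exact hu.map _
      exact (MulEquiv.isUnit_map e).1 h1
    have h2 := mem_of_nonunit H hHu
    rw [hmR, Ideal.map_span, Set.image_singleton, Submodule.mem_sup] at h2
    obtain ⟨u, hu, v, hv, huv⟩ := h2
    obtain ⟨c, rfl⟩ := Ideal.mem_span_singleton'.1 hu
    obtain ⟨v0, v1, rfl⟩ := Ideal.mem_span_pair.1 hv
    have h3 : z = e.symm (Ideal.Quotient.mk _ v0) * x 0 + e.symm (Ideal.Quotient.mk _ v1) * x 1 +
        e.symm (Ideal.Quotient.mk _ c) * algebraMap C (Curv2.cpl C) (φ ϖ) := by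
      apply e.injective
      rw [map_add, map_add, map_mul, map_mul, map_mul, e.apply_symm_apply, e.apply_symm_apply,
        e.apply_symm_apply, hex, hex, he, ← hH, ← huv, map_add, map_add, map_mul, map_mul, map_mul]
      ring
    rw [h3]
    refine Ideal.add_mem _ (Ideal.add_mem _ ?_ ?_) ?_
    · exact Ideal.mul_mem_left _ _ (Ideal.subset_span (by simp))
    · exact Ideal.mul_mem_left _ _ (Ideal.subset_span (by simp))
    · exact Ideal.mul_mem_left _ _ (Ideal.subset_span (by simp))

include hϖ in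
/-- **A thick node is a node ring.** -/
theorem exists_nodeData (hφ : φ ϖ ∈ maximalIdeal C) (hnzd : φ ϖ ∈ nonZeroDivisors C) (l : ℕ)
    (h : DualGr.IsThickNode φ (if l = 0 then 0 else ϖ ^ l)) :
    ∃ x y : Curv2.cpl C, NodeData (algebraMap C (Curv2.cpl C) (φ ϖ)) x y l := by
  refine exists_nodeData_aux hϖ φ hφ hnzd l _ (label_mem l) ?_ h
  split_ifs with hl
  · rw [map_zero, map_zero]
  · rw [map_pow, map_pow]

end

end K794.NodeCpl
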