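import Groth.Agent.SemiFact.K794.Descent

/-!
# Invertible modules at a thick node: the local class modulo the thickness
-/

set_option autoImplicit false
set_option linter.unusedSectionVars false

open IsLocalRing TensorProduct

namespace K794.NodeLoc

open K794.Lat K794.NodeAlg K794.Base K794.Descent

section Main

variable {C B : Type*} [CommRing C] [CommRing B] [IsLocalRing C] [IsLocalRing B] [IsNoetherianRing C]
  [IsNoetherianRing B] [Algebra C B] [Module.FaithfullyFlat C B]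
  {ϖ : C} {x y : B} {l : ℕ} (N : NodeData (algebraMap C B ϖ) x y l)
  {K : Type*} [CommRing K] [Algebra C K] [IsLocalization.Away ϖ K]
  {L : Type*} [AddCommGroup L] [Module C L] [Module K L] [IsScalarTower C K L] [Module.Invertible K L]

attribute [local instance] Algebra.TensorProduct.rightAlgebra

/-- **The local class of an invertible `C[1/ϖ]`-module at a node of thickness `l`.** -/
theorem exists_order (hmax : (maximalIdeal C).map (algebraMap C B) = maximalIdeal B)
    {g₀ g₁ : L} (h0 : Gen ϖ (Q N 0) g₀) (h1 : Gen ϖ (Q N 1) g₁) : ∃ n : ℤ,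
    (∀ a b : ℤ, (l : ℤ) ∣ a - b - n → (Q N 0 = Q N 1 → Eqv (Q N 0) ((pu ϖ K) ^ a • g₀) ((pu ϖ K) ^ b • g₁)) →
      ∃ s : L, IsGenerator ϖ s ∧ Eqv (Q N 0) ((pu ϖ K) ^ a • g₀) s ∧ Eqv (Q N 1) ((pu ϖ K) ^ b • g₁) s) ∧
    (∀ (a b : ℤ) (s : L), IsGenerator ϖ s → Eqv (Q N 0) ((pu ϖ K) ^ a • g₀) s →
      Eqv (Q N 1) ((pu ϖ K) ^ b • g₁) s → (l : ℤ) ∣ a - b - n) := by
  have hloc := isLocalization_tensor B ϖ K
  have G0 := gen_inc (K := K) N.sys 0 (g := g₀) h0
  have G1 := gen_inc (K := K) N.sys 1 (g := g₁) h1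
  obtain ⟨n, t, ht, ht0, ht1⟩ := exists_generator (K := B ⊗[C] K) N G0 G1
  refine ⟨n, fun a b hab hQ => ?_, fun a b s hs hs0 hs1 => ?_⟩
  · obtain ⟨t', ht', ht0', ht1'⟩ := exists_generator_of_dvd N n (a - b) hab t ht ht0 ht1
    have e0 : Eqv (Ideal.span {x, algebraMap C B ϖ}) (inc (B := B) (K := K) ((pu ϖ K) ^ a • g₀))
        ((pu (algebraMap C B ϖ) (B ⊗[C] K)) ^ b • t') := by
      have := ht0'.unit_smul ((pu (algebraMap C B ϖ) (B ⊗[C] K)) ^ b)
      rw [smul_smul, ← zpow_add, add_sub_cancel] at this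
      rw [inc_zpow]
      exact this
    have e1 : Eqv (Ideal.span {y, algebraMap C B ϖ}) (inc (B := B) (K := K) ((pu ϖ K) ^ b • g₁))
        ((pu (algebraMap C B ϖ) (B ⊗[C] K)) ^ b • t') := by
      rw [inc_zpow]
      exact ht1'.unit_smul _
    have hp0 := (sysC N).prime 0
    have hp1 := (sysC N).prime 1
    obtain ⟨s, hs, hs'⟩ := descend N hmax ![(pu ϖ K) ^ a • g₀, (pu ϖ K) ^ b • g₁] (by
        intro i
        fin_cases i
        · exact h0.unit_smul _
        · exact h1.unit_smul _) (by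
        intro i j hij
        fin_cases i <;> fin_cases j
        · exact Eqv.refl (Q N 0) _
        · exact hQ hij
        · have := (hQ hij.symm).symm
          change Eqv (Q N 1) ((pu ϖ K) ^ b • g₁) ((pu ϖ K) ^ a • g₀)
          rw [show Q N 1 = Q N 0 from hij]
          exact this
        · exact Eqv.refl (Q N 1) _) _ (IsGenerator.unit_smul ht' _) e0 e1
    exact ⟨s, hs, hs' 0, hs' 1⟩
  · have e0 := eqv_inc (B := B) (K := K) (P := Ideal.span {x, algebraMap C B ϖ}) hs0
    have e1 := eqv_inc (B := B) (K := K) (P := Ideal.span {y, algebraMap C B ϖ}) hs1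
    rw [inc_zpow] at e0 e1
    have e0' := e0.unit_smul ((pu (algebraMap C B ϖ) (B ⊗[C] K)) ^ (-b))
    have e1' := e1.unit_smul ((pu (algebraMap C B ϖ) (B ⊗[C] K)) ^ (-b))
    rw [smul_smul, ← zpow_add] at e0' e1'
    rw [neg_add_cancel, zpow_zero, one_smul] at e1'
    have := f4 (K := B ⊗[C] K) N n (-b + a) t _ ht (IsGenerator.unit_smul (isGenerator_inc hs) _) ht0 ht1 e0' e1'
    rwa [neg_add_eq_sub] at this

end Main

end K794.NodeLoc
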