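import Groth.Agent.SemiFact.K794.Glue
import Groth.Agent.SemiFact.K794.NodeLoc

/-!
# Generators of an invertible module on `Z = D(t)` near a point of `V(t)`
-/

set_option autoImplicit false
set_option linter.unusedSectionVars false
set_option linter.dupNamespace false
universe u
open CategoryTheory CategoryTheory.Limits AlgebraicGeometry IsLocalRing TopologicalSpace Opposite
open Groth.Agent.Fdesc.LocGen
open scoped TensorProduct

theorem K794.Lat.Sys.exists_le {C : Type*} [CommRing C] {ϖ : C} {ι κ : Type*} [Finite ι] {p : ι → Ideal C}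
    {p' : κ → Ideal C} (S : K794.Lat.Sys ϖ p) (S' : K794.Lat.Sys ϖ p') (j : κ) : ∃ i, p i ≤ p' j := by
  classical
  have := Fintype.ofFinite ι
  have hj := S'.prime j
  have h1 : Finset.univ.inf p ≤ p' j := by
    intro c hc
    obtain ⟨d, rfl⟩ := S.dvd c (fun i => Finset.inf_le (f := p) (Finset.mem_univ i) hc)
    exact Ideal.mul_mem_right _ _ (S'.mem j)
  obtain ⟨i, -, hi⟩ := (Ideal.IsPrime.inf_le' hj).1 h1
  exact ⟨i, hi⟩

theorem K794.Lat.Sys.exists_eq {C : Type*} [CommRing C] {ϖ : C} {ι κ : Type*} [Finite ι] {p : ι → Ideal C}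
    {p' : κ → Ideal C} (S : K794.Lat.Sys ϖ p) (S' : K794.Lat.Sys ϖ p') [Finite κ] (j : κ) : ∃ i, p i = p' j := by
  obtain ⟨i, hi⟩ := S.exists_le S' j
  obtain ⟨j', hj'⟩ := S'.exists_le S i
  have := S'.incomp j' j (hj'.trans hi)
  exact ⟨i, le_antisymm hi (this ▸ hj')⟩

namespace K794.Glob

section Stalk

variable {X : Scheme.{u}}

/-- the prime of the local ring at `x` defined by a generization `z` -/
noncomputable def sp (x z : X) (h : z ⤳ x) : Ideal (X.presheaf.stalk x) :=
  (maximalIdeal (X.presheaf.stalk z)).comap (X.presheaf.stalkSpecializes h).hom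

instance sp_isPrime (x z : X) (h : z ⤳ x) : (sp x z h).IsPrime :=
  Ideal.comap_isPrime _ _

/-- the stalk as an algebra over the sections -/
@[reducible] noncomputable def algS (V : X.Opens) (x : X) (hx : x ∈ V) : Algebra Γ(X, V) (X.presheaf.stalk x) :=
  (X.presheaf.germ V x hx).hom.toAlgebra

theorem comap_sp {V : X.Opens} (x z : X) (h : z ⤳ x) (hx : x ∈ V) :
    (sp x z h).comap (X.presheaf.germ V x hx).hom = qi V z (h.mem_open V.2 hx) := by
  unfold sp qi
  rw [Ideal.comap_comap]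
  congr 1
  rw [← CommRingCat.hom_comp, TopCat.Presheaf.germ_stalkSpecializes]

/-- `t` in the local ring -/
noncomputable def ts (t : Γ(X, ⊤)) (x : X) : X.presheaf.stalk x := X.presheaf.germ ⊤ x trivial t

theorem germ_tr (t : Γ(X, ⊤)) {V : X.Opens} (x : X) (hx : x ∈ V) :
    X.presheaf.germ V x hx (tr t V) = ts t x :=
  X.presheaf.germ_res_apply (homOfLE (le_top : V ≤ ⊤)) x hx t

theorem exists_affine (x : X) : ∃ V : X.Opens, IsAffineOpen V ∧ x ∈ V := by
  obtain ⟨_, ⟨W, hW, rfl⟩, hxW, -⟩ := (X.isBasis_affineOpens).exists_subset_of_mem_open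
    (Set.mem_univ x) isOpen_univ
  exact ⟨W, hW, hxW⟩

end Stalk

namespace Sit

variable {X Z : Scheme.{u}} {i : Z ⟶ X} {t : Γ(X, ⊤)} {ι : Type*} {ξ : ι → X} (H : Sit i t ξ)

include H in
/-- the primes of the local ring at `x` over `t` -/
theorem sysStalk (x : X) : K794.Lat.Sys (ts t x) (fun v : {v : ι // ξ v ⤳ x} => sp x (ξ v) v.2) := by
  obtain ⟨V, hV, hx⟩ := exists_affine x
  let _ := algS V x hx
  have hloc : IsLocalization.AtPrime (X.presheaf.stalk x) (qi V x hx) := isLocalization_stalk hV x hx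
  have halg : ∀ a, algebraMap Γ(X, V) (X.presheaf.stalk x) a = X.presheaf.germ V x hx a := fun _ => rfl
  have hS := H.sys hV
  have hnum : ∀ c : X.presheaf.stalk x, ∃ s, s ∉ qi V x hx ∧ ∃ a : Γ(X, V),
      algebraMap Γ(X, V) (X.presheaf.stalk x) s * c = algebraMap Γ(X, V) (X.presheaf.stalk x) a :=
    fun c => K794.Base.exists_num (X.presheaf.stalk x) (qi V x hx) c
  have hunit : ∀ s, s ∉ qi V x hx → IsUnit (algebraMap Γ(X, V) (X.presheaf.stalk x) s) := fun s hs =>
    K794.Base.isUnit_of_notMem (qi V x hx) hs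
  have ht : algebraMap Γ(X, V) (X.presheaf.stalk x) (tr t V) = ts t x := germ_tr t x hx
  refine ⟨?_, fun v => inferInstance, ?_, ?_, ?_⟩
  · rw [← ht]
    exact IsLocalization.map_nonZeroDivisors_le (qi V x hx).primeCompl (X.presheaf.stalk x)
      (Submonoid.mem_map_of_mem _ hS.nzd)
  · rintro ⟨v, hv⟩
    rw [← ht]
    change tr t V ∈ (sp x (ξ v) hv).comap (X.presheaf.germ V x hx).hom
    rw [comap_sp]
    exact hS.mem ⟨v, hv.mem_open V.2 hx⟩
  · intro c hc
    obtain ⟨s, hs, a, ha⟩ := hnum c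
    have h1 : algebraMap Γ(X, V) (X.presheaf.stalk x) a ∈ (Ideal.span {ts t x}).radical := by
      rw [Ideal.radical_eq_sInf, Submodule.mem_sInf]
      rintro P ⟨hP1, hP2⟩
      have hPc : (Ideal.comap (algebraMap Γ(X, V) (X.presheaf.stalk x)) P).IsPrime := Ideal.comap_isPrime _ _
      obtain ⟨z, hz, hzP⟩ := exists_eq_qi hV (Ideal.comap (algebraMap Γ(X, V) (X.presheaf.stalk x)) P)
      have h2 : tr t V ∈ qi V z hz := by
        rw [← hzP, Ideal.mem_comap, ht]
        exact hP1 (Ideal.mem_span_singleton_self _)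
      have h3 : z ∉ X.basicOpen t := by
        rw [mem_qi, basicOpen_tr] at h2
        exact fun h => h2 ⟨hz, h⟩
      have h4 : z ⤳ x := by
        apply specializes_of_qi_le hV hz hx
        rw [← hzP]
        intro b hb
        by_contra hb'
        exact hP2.ne_top (Ideal.eq_top_of_isUnit_mem _ hb (hunit b hb'))
      obtain ⟨v, hv⟩ := H.exists_specializes z h3
      have h5 : a ∈ qi V (ξ v) (hv.mem_open V.2 hz) := by
        rw [← comap_sp x (ξ v) (hv.trans h4) hx, Ideal.mem_comap]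
        change algebraMap Γ(X, V) (X.presheaf.stalk x) a ∈ _
        rw [← ha]
        exact Ideal.mul_mem_left _ _ (hc ⟨v, hv.trans h4⟩)
      have h6 := qi_mono hv hz h5
      rw [← hzP] at h6
      exact h6
    obtain ⟨n, hn⟩ := h1
    obtain ⟨b, hb⟩ := Ideal.mem_span_singleton'.1 hn
    obtain ⟨s', hs', b', hb'⟩ := hnum b
    have h7 : algebraMap Γ(X, V) (X.presheaf.stalk x) (s' * a ^ n) =
        algebraMap Γ(X, V) (X.presheaf.stalk x) (b' * tr t V) := by
      rw [map_mul, map_mul, map_pow, ← hb, ← hb', ht, mul_assoc]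
    obtain ⟨⟨d, hd⟩, hd'⟩ := (IsLocalization.eq_iff_exists (qi V x hx).primeCompl (X.presheaf.stalk x)).1 h7
    have h8 : (d * s' * a) ^ (n + 1) ∈ Ideal.span {tr t V} := by
      have e : (d * s' * a) ^ (n + 1) = (d ^ n * s' ^ n * a) * (d * (s' * a ^ n)) := by ring
      rw [e]
      have hd'' : d * (s' * a ^ n) = d * (b' * tr t V) := hd'
      rw [hd'']
      exact Ideal.mul_mem_left _ _ (Ideal.mul_mem_left _ _ (Ideal.mul_mem_left _ _ (Ideal.mem_span_singleton_self _)))
    obtain ⟨e, he⟩ := Ideal.mem_span_singleton.1 (H.rad V hV _ _ h8)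
    have h9 : IsUnit (algebraMap Γ(X, V) (X.presheaf.stalk x) (d * s' * s)) :=
      hunit _ (K794.Lat.mul_notMem (K794.Lat.mul_notMem hd hs') hs)
    rw [← h9.dvd_mul_left]
    refine ⟨algebraMap Γ(X, V) (X.presheaf.stalk x) e, ?_⟩
    rw [map_mul, mul_assoc, ha, ← map_mul, he, map_mul, ht]
  · rintro ⟨v, hv⟩ ⟨w, hw⟩ h
    have h1 : qi V (ξ v) (hv.mem_open V.2 hx) ≤ qi V (ξ w) (hw.mem_open V.2 hx) := by
      rw [← comap_sp x (ξ v) hv hx, ← comap_sp x (ξ w) hw hx]
      exact Ideal.comap_mono h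
    have := H.incomp v w (specializes_of_qi_le hV _ _ h1)
    subst this
    rfl

include H in
theorem sp_injective {x : X} {v w : ι} (hv : ξ v ⤳ x) (hw : ξ w ⤳ x) (h : sp x (ξ v) hv = sp x (ξ w) hw) :
    v = w := by
  obtain ⟨V, hV, hx⟩ := exists_affine x
  have h1 : qi V (ξ v) (hv.mem_open V.2 hx) ≤ qi V (ξ w) (hw.mem_open V.2 hx) := by
    rw [← comap_sp x (ξ v) hv hx, ← comap_sp x (ξ w) hw hx]
    exact Ideal.comap_mono h.le
  exact H.incomp v w (specializes_of_qi_le hV _ _ h1)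

end Sit

end K794.Glob
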