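import Groth.Agent.SemiFact.K794.SecAlg
import Groth.Agent.SemiFact.K794.LocAt
import Groth.Agent.SemiFact.K793.Basic
import Groth.Agent.SemiFact.K793.NodeDesc
import Groth.Agent.Curves.K315.NodeEtale

/-!
# Sections of a family through a thick node
-/

set_option autoImplicit false
set_option linter.unusedSectionVars false
universe u v
open CategoryTheory CategoryTheory.Limits AlgebraicGeometry IsLocalRing TopologicalSpace Opposite

namespace K794.SecBase

open K794.NodeAlg K794.Glob

section Local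

variable {R : Type u} [CommRing R] [IsLocalRing R] {X : Scheme.{u}} (s : Spec (CommRingCat.of R) ⟶ X)

/-- the section on the local ring -/
noncomputable def rho : X.presheaf.stalk (s (closedPoint R)) →+* R := (Scheme.stalkClosedPointTo s).hom

/-- the section over a function from the base -/
theorem rho_stalkHom {A : Type u} [CommRing A] (g : X ⟶ Spec (CommRingCat.of A)) (φ : A →+* R)
    (h : s ≫ g = Spec.map (CommRingCat.ofHom φ)) (r : A) :
    rho s (DualGr.stalkHom g (s (closedPoint R)) r) = φ r := by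
  have h1 := Scheme.germ_stalkClosedPointTo s ⊤ trivial
  have h2 : DualGr.stalkHom g (s (closedPoint R)) r =
      X.presheaf.germ ⊤ (s (closedPoint R)) trivial (g.appTop ((Scheme.ΓSpecIso (CommRingCat.of A)).inv r)) := rfl
  have h3 : rho s (DualGr.stalkHom g (s (closedPoint R)) r) =
      (Scheme.ΓSpecIso (CommRingCat.of R)).hom (s.appTop (g.appTop ((Scheme.ΓSpecIso (CommRingCat.of A)).inv r))) := by
    rw [h2]
    have h4 := congrArg (fun ψ => ψ.hom (g.appTop ((Scheme.ΓSpecIso (CommRingCat.of A)).inv r))) h1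
    refine Eq.trans h4 ?_
    simp
  rw [h3]
  have h5 : s.appTop (g.appTop ((Scheme.ΓSpecIso (CommRingCat.of A)).inv r)) =
      (s ≫ g).appTop ((Scheme.ΓSpecIso (CommRingCat.of A)).inv r) := by
    simp
  rw [h5, h]
  have h6 := congrArg (fun ψ => ψ.hom ((Scheme.ΓSpecIso (CommRingCat.of A)).inv r))
    (Scheme.ΓSpecIso_naturality (CommRingCat.ofHom φ))
  refine Eq.trans h6 ?_
  change φ ((Scheme.ΓSpecIso (CommRingCat.of A)).hom ((Scheme.ΓSpecIso (CommRingCat.of A)).inv r)) = φ r
  rw [CategoryTheory.Iso.inv_hom_id_apply]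

/-- vanishing of a function at a point of the section -/
theorem mem_basicOpen_iff (V : X.Opens) (hV : s (closedPoint R) ∈ V) (a : Γ(X, V))
    (p : Spec (CommRingCat.of R)) : s p ∈ X.basicOpen a ↔
      rho s (X.presheaf.germ V (s (closedPoint R)) hV a) ∉ p.asIdeal := by
  have h1 := Scheme.Spec_stalkClosedPointTo_fromSpecStalk s
  have h2 : s p = X.fromSpecStalk (s (closedPoint R)) (Spec.map (Scheme.stalkClosedPointTo s) p) := by
    rw [← Scheme.Hom.comp_apply, h1]
  rw [h2]
  have h3 : ∀ q : Spec (X.presheaf.stalk (s (closedPoint R))),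
      X.fromSpecStalk (s (closedPoint R)) q ∈ X.basicOpen a ↔
        X.presheaf.germ V (s (closedPoint R)) hV a ∉ q.asIdeal := by
    intro q
    have h4 : X.fromSpecStalk (s (closedPoint R)) q ∈ X.basicOpen a ↔
        q ∈ X.fromSpecStalk (s (closedPoint R)) ⁻¹ᵁ X.basicOpen a := Iff.rfl
    have hqV : q ∈ X.fromSpecStalk (s (closedPoint R)) ⁻¹ᵁ V := by
      have : X.fromSpecStalk (s (closedPoint R)) q ⤳ s (closedPoint R) := by
        have h := Set.mem_range_self (f := X.fromSpecStalk (s (closedPoint R))) q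
        rwa [Scheme.range_fromSpecStalk] at h
      exact this.mem_open V.2 hV
    rw [h4, Scheme.preimage_basicOpen, Scheme.fromSpecStalk_app hV]
    have h5 : (Spec (X.presheaf.stalk (s (closedPoint R)))).basicOpen
        ((X.presheaf.germ V (s (closedPoint R)) hV ≫ (Scheme.ΓSpecIso (X.presheaf.stalk (s (closedPoint R)))).inv ≫
          (Spec (X.presheaf.stalk (s (closedPoint R)))).presheaf.map
            (homOfLE (le_top : X.fromSpecStalk (s (closedPoint R)) ⁻¹ᵁ V ≤ ⊤)).op) a) =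
        (X.fromSpecStalk (s (closedPoint R)) ⁻¹ᵁ V) ⊓ PrimeSpectrum.basicOpen (X.presheaf.germ V (s (closedPoint R)) hV a) := by
      have h6 := (Spec (X.presheaf.stalk (s (closedPoint R)))).basicOpen_res
        ((Scheme.ΓSpecIso (X.presheaf.stalk (s (closedPoint R)))).inv (X.presheaf.germ V (s (closedPoint R)) hV a))
        (homOfLE (le_top : X.fromSpecStalk (s (closedPoint R)) ⁻¹ᵁ V ≤ ⊤)).op
      rw [basicOpen_eq_of_affine] at h6
      exact h6
    rw [h5]
    exact ⟨fun h => h.2, fun h => ⟨hqV, h⟩⟩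
  rw [h3]
  rfl

end Local

section Spz

variable {R : Type u} [CommRing R] [IsDomain R] [IsLocalRing R] {U : Scheme.{u}} (s : Spec (CommRingCat.of R) ⟶ U)

/-- the generic point of the base -/
def eta : Spec (CommRingCat.of R) := (⊥ : PrimeSpectrum R)

theorem eta_specializes (p : Spec (CommRingCat.of R)) : eta (R := R) ⤳ p :=
  (PrimeSpectrum.le_iff_specializes (R := R) (⊥ : PrimeSpectrum R) p).1 bot_le

theorem sec_specializes : s eta ⤳ s (closedPoint R) := (eta_specializes (closedPoint R)).map s.continuous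

/-- specialization along the section -/
noncomputable def sps : U.presheaf.stalk (s (closedPoint R)) →+* U.presheaf.stalk (s eta) :=
  (U.presheaf.stalkSpecializes (sec_specializes s)).hom

theorem sps_germ (V : U.Opens) (hV : s (closedPoint R) ∈ V) (a : Γ(U, V)) :
    sps s (U.presheaf.germ V _ hV a) = U.presheaf.germ V (s eta) ((sec_specializes s).mem_open V.2 hV) a :=
  congrArg (fun φ => φ.hom a) (TopCat.Presheaf.germ_stalkSpecializes (F := U.presheaf) hV (sec_specializes s))

theorem isUnit_sps_iff (b : U.presheaf.stalk (s (closedPoint R))) : IsUnit (sps s b) ↔ rho s b ≠ 0 := by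
  obtain ⟨V, hV, a, rfl⟩ := U.presheaf.exists_germ_eq b
  rw [sps_germ, ← Scheme.mem_basicOpen U a (s eta) ((sec_specializes s).mem_open V.2 hV), mem_basicOpen_iff s V hV]
  rfl

end Spz

/-- An étale neighbourhood `U` of a point of `X` with node coordinates `u`, `v` of thickness `n` and a section `s` of
`U` over the base through the node with `u = ϖ`. -/
structure NSec {R : Type u} [CommRing R] [IsDomain R] [IsDiscreteValuationRing R] (ϖ : R) {X : Scheme.{u}}
    (f : X ⟶ Spec (CommRingCat.of R)) (n : ℕ) where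
  U : Scheme.{u}
  e : U ⟶ X
  [et : Etale e]
  [noeth : IsLocallyNoetherian U]
  s : Spec (CommRingCat.of R) ⟶ U
  hs : (s ≫ e) ≫ f = 𝟙 _
  u : U.presheaf.stalk (s (closedPoint R))
  v : U.presheaf.stalk (s (closedPoint R))
  N : NodeData (DualGr.stalkHom (e ≫ f) (s (closedPoint R)) ϖ) u v n
  hu : rho s u = ϖ
  hv : rho s v = if n = 0 then 0 else ϖ ^ (n - 1)
  hn : n ≠ 1

attribute [instance] NSec.et NSec.noeth

namespace NSec

variable {R : Type u} [CommRing R] [IsDomain R] [IsDiscreteValuationRing R] {ϖ : R} (hϖ : Irreducible ϖ)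
  {X : Scheme.{u}} {f : X ⟶ Spec (CommRingCat.of R)} {n : ℕ} (S : NSec ϖ f n)

/-- the node -/
noncomputable def pt0 : X := S.e (S.s (closedPoint R))

/-- the generic point of the section -/
noncomputable def pt1 : X := S.e (S.s eta)

theorem pt1_specializes : S.pt1 ⤳ S.pt0 := (sec_specializes S.s).map S.e.continuous

theorem rho_stalkHom' (r : R) : rho S.s (DualGr.stalkHom (S.e ≫ f) (S.s (closedPoint R)) r) = r := by
  have h := rho_stalkHom S.s (S.e ≫ f) (RingHom.id R) (by
    rw [← Category.assoc, S.hs]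
    exact (Spec.map_id (CommRingCat.of R)).symm) r
  exact h

/-- functions near the node as elements of the local ring of the étale neighbourhood -/
noncomputable def toB (V : X.Opens) (hV : S.pt0 ∈ V) : Γ(X, V) →+* S.U.presheaf.stalk (S.s (closedPoint R)) :=
  (S.e.stalkMap (S.s (closedPoint R))).hom.comp (X.presheaf.germ V S.pt0 hV).hom

theorem toB_sec (V : X.Opens) (hV : S.pt0 ∈ V) (r : R) :
    S.toB V hV (K793.Basic.sec f V r) = DualGr.stalkHom (S.e ≫ f) (S.s (closedPoint R)) r := by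
  have h1 : X.presheaf.germ V S.pt0 hV (K793.Basic.sec f V r) = DualGr.stalkHom f S.pt0 r :=
    K793.Basic.germ_sec f V _ hV r
  change (S.e.stalkMap (S.s (closedPoint R))).hom (X.presheaf.germ V S.pt0 hV (K793.Basic.sec f V r)) = _
  rw [h1, K793.Basic.stalkHom_eq_germ, K793.Basic.stalkHom_eq_germ]
  exact Scheme.Hom.germ_stalkMap_apply S.e ⊤ (S.s (closedPoint R)) trivial (show Γ(X, ⊤) from Coh.toGlobal f r)

theorem rho_toB (V : X.Opens) (hV : S.pt0 ∈ V) (a : Γ(X, V)) :
    rho S.s (S.toB V hV a) = rho (S.s ≫ S.e) (X.presheaf.germ V S.pt0 hV a) := by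
  have h := Scheme.stalkClosedPointTo_comp S.s S.e
  exact (congrArg (fun φ => φ.hom (X.presheaf.germ V S.pt0 hV a)) h).symm

theorem mem_qi_pt1 (V : X.Opens) (hV : S.pt0 ∈ V) (a : Γ(X, V)) :
    a ∈ qi V S.pt1 (S.pt1_specializes.mem_open V.2 hV) ↔ rho S.s (S.toB V hV a) = 0 := by
  rw [mem_qi, rho_toB]
  have h := mem_basicOpen_iff (S.s ≫ S.e) V hV a eta
  rw [show S.pt1 = (S.s ≫ S.e) eta from rfl, h]
  exact not_not

theorem max_eq (V : X.Opens) (hV : IsAffineOpen V) (hx : S.pt0 ∈ V) :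
    maximalIdeal (S.U.presheaf.stalk (S.s (closedPoint R))) = (qi V S.pt0 hx).map (S.toB V hx) := by
  have h1 := K315.NodeEtale.map_maximalIdeal_of_etale S.e (S.s (closedPoint R))
  rw [← h1]
  let _ := algS V S.pt0 hx
  have hloc : IsLocalization.AtPrime (X.presheaf.stalk S.pt0) (qi V S.pt0 hx) := isLocalization_stalk hV S.pt0 hx
  have h2 : (qi V S.pt0 hx).map (X.presheaf.germ V S.pt0 hx).hom = maximalIdeal (X.presheaf.stalk S.pt0) :=
    IsLocalization.AtPrime.map_eq_maximalIdeal (qi V S.pt0 hx) (X.presheaf.stalk S.pt0)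
  have h3 : (maximalIdeal (X.presheaf.stalk (S.e (S.s (closedPoint R))))) =
    (qi V S.pt0 hx).map (X.presheaf.germ V S.pt0 hx).hom := h2.symm
  rw [h3]
  exact Ideal.map_map (X.presheaf.germ V S.pt0 hx).hom (S.e.stalkMap (S.s (closedPoint R))).hom

include hϖ in
theorem map_comap_ker (V : X.Opens) (hV : IsAffineOpen V) (hx : S.pt0 ∈ V) :
    ((RingHom.ker (rho S.s)).comap (S.toB V hx)).map (S.toB V hx) = RingHom.ker (rho S.s) := by
  let _ := (S.toB V hx).toAlgebra
  refine K794.SecAlg.map_comap_ker (A := Γ(X, V)) (rho S.s) (K793.Basic.sec f V) ?_ hϖ ?_ (qi V S.pt0 hx)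
    (S.max_eq V hV hx) ?_
  · intro r
    change rho S.s (S.toB V hx (K793.Basic.sec f V r)) = r
    rw [S.toB_sec, S.rho_stalkHom']
  · intro r hr
    have h1 : r ∈ maximalIdeal R := hr
    rw [hϖ.maximalIdeal_eq] at h1
    exact Ideal.mem_span_singleton.1 h1
  · change S.toB V hx (K793.Basic.sec f V ϖ) ∈ _
    rw [S.toB_sec]
    exact S.N.pi_mem

theorem rho_pi_ne (hϖ : Irreducible ϖ) : rho S.s (DualGr.stalkHom (S.e ≫ f) (S.s (closedPoint R)) ϖ) ≠ 0 := by
  rw [S.rho_stalkHom']
  exact hϖ.ne_zero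

theorem rho_u : rho S.s S.u = rho S.s (DualGr.stalkHom (S.e ≫ f) (S.s (closedPoint R)) ϖ) := by
  rw [S.rho_stalkHom', S.hu]

theorem rho_v : rho S.s S.v = rho S.s (if n = 0 then 0 else
    (DualGr.stalkHom (S.e ≫ f) (S.s (closedPoint R)) ϖ) ^ (n - 1)) := by
  rw [S.hv]
  split_ifs
  · rw [map_zero]
  · rw [map_pow, S.rho_stalkHom']

/-- the equation of the section, at its generic point -/
noncomputable def eqn : S.U.presheaf.stalk (S.s eta) :=
  sps S.s (S.u - DualGr.stalkHom (S.e ≫ f) (S.s (closedPoint R)) ϖ)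

include hϖ in
theorem maximalIdeal_eq : maximalIdeal (S.U.presheaf.stalk (S.s eta)) = Ideal.span {S.eqn} := by
  apply le_antisymm
  · intro z hz
    obtain ⟨V, hV, hx⟩ := exists_affine (S.s (closedPoint R))
    have hx1 : S.s eta ∈ V := (sec_specializes S.s).mem_open V.2 hx
    let _ := algS V (S.s eta) hx1
    have hloc : IsLocalization.AtPrime (S.U.presheaf.stalk (S.s eta)) (qi V (S.s eta) hx1) :=
      isLocalization_stalk hV _ hx1
    obtain ⟨d, hd, a, ha⟩ := K794.Base.exists_num (S.U.presheaf.stalk (S.s eta)) (qi V (S.s eta) hx1) z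
    have hdu : IsUnit (S.U.presheaf.germ V (S.s eta) hx1 d) :=
      K794.Base.isUnit_of_notMem (C := S.U.presheaf.stalk (S.s eta)) (qi V (S.s eta) hx1) hd
    have ha' : S.U.presheaf.germ V (S.s eta) hx1 d * z = S.U.presheaf.germ V (S.s eta) hx1 a := ha
    have ham : ¬ IsUnit (S.U.presheaf.germ V (S.s eta) hx1 a) := by
      rw [← ha']
      intro h
      exact hz (isUnit_of_mul_isUnit_right h)
    have hk : S.U.presheaf.germ V _ hx a ∈ RingHom.ker (rho S.s) := by
      rw [RingHom.mem_ker]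
      by_contra hne
      rw [← Ne, ← isUnit_sps_iff, sps_germ] at hne
      exact ham hne
    obtain ⟨c, hc⟩ := K794.SecAlg.exists_mul_eq S.N S.hn (rho S.s) S.rho_u S.rho_v (S.rho_pi_ne hϖ) hk
    have h1 := congrArg (sps S.s) hc
    rw [map_mul, map_mul, sps_germ, ← ha'] at h1
    have hπu : IsUnit (sps S.s (DualGr.stalkHom (S.e ≫ f) (S.s (closedPoint R)) ϖ)) :=
      (isUnit_sps_iff S.s _).2 (S.rho_pi_ne hϖ)
    rw [← Ideal.unit_mul_mem_iff_mem _ hdu, ← Ideal.unit_mul_mem_iff_mem _ hπu, h1]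
    exact Ideal.mul_mem_left _ _ (Ideal.mem_span_singleton_self _)
  · rw [Ideal.span_singleton_le_iff_mem, mem_maximalIdeal, mem_nonunits_iff, eqn, isUnit_sps_iff, not_not, map_sub,
      S.rho_u, sub_self]

theorem eqn_mem_nonZeroDivisors : S.eqn ∈ nonZeroDivisors (S.U.presheaf.stalk (S.s eta)) := by
  rw [mem_nonZeroDivisors_iff_right]
  intro z hz
  obtain ⟨W, hW, w, hw⟩ := S.U.presheaf.exists_germ_eq
    (S.u - DualGr.stalkHom (S.e ≫ f) (S.s (closedPoint R)) ϖ)
  obtain ⟨_, ⟨V, hV, rfl⟩, hx, hVW⟩ := (S.U.isBasis_affineOpens).exists_subset_of_mem_open hW W.2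
  replace hx : S.s (closedPoint R) ∈ V := hx
  replace hV : IsAffineOpen V := hV
  replace hVW : V ≤ W := hVW
  have hx1 : S.s eta ∈ V := (sec_specializes S.s).mem_open V.2 hx
  obtain ⟨w', hw'⟩ : ∃ w' : Γ(S.U, V), S.U.presheaf.germ V _ hx w' =
      S.u - DualGr.stalkHom (S.e ≫ f) (S.s (closedPoint R)) ϖ :=
    ⟨Groth.Agent.Fdesc.LocGen.ores hVW w, (S.U.presheaf.germ_res_apply (homOfLE hVW) _ hx w).trans hw⟩
  let _ := algS V (S.s eta) hx1
  have hloc : IsLocalization.AtPrime (S.U.presheaf.stalk (S.s eta)) (qi V (S.s eta) hx1) :=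
    isLocalization_stalk hV _ hx1
  obtain ⟨d, hd, a, ha⟩ := K794.Base.exists_num (S.U.presheaf.stalk (S.s eta)) (qi V (S.s eta) hx1) z
  have hunit : ∀ b : Γ(S.U, V), b ∉ qi V (S.s eta) hx1 → IsUnit (S.U.presheaf.germ V (S.s eta) hx1 b) := fun b hb =>
    K794.Base.isUnit_of_notMem (C := S.U.presheaf.stalk (S.s eta)) (qi V (S.s eta) hx1) hb
  have ha' : S.U.presheaf.germ V (S.s eta) hx1 d * z = S.U.presheaf.germ V (S.s eta) hx1 a := ha
  have he : S.eqn = S.U.presheaf.germ V (S.s eta) hx1 w' := by rw [eqn, ← hw', sps_germ]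
  have h1 : algebraMap Γ(S.U, V) (S.U.presheaf.stalk (S.s eta)) (w' * a) =
      algebraMap Γ(S.U, V) (S.U.presheaf.stalk (S.s eta)) 0 := by
    change S.U.presheaf.germ V (S.s eta) hx1 (w' * a) = S.U.presheaf.germ V (S.s eta) hx1 0
    rw [map_mul, ← he, ← ha', map_zero]
    rw [mul_left_comm, mul_comm S.eqn z, hz, mul_zero]
  obtain ⟨⟨c, hc⟩, hc'⟩ := (IsLocalization.eq_iff_exists (qi V (S.s eta) hx1).primeCompl
    (S.U.presheaf.stalk (S.s eta))).1 h1
  have hc'' : c * (w' * a) = c * 0 := hc'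
  have h2 : (S.u - DualGr.stalkHom (S.e ≫ f) (S.s (closedPoint R)) ϖ) * S.U.presheaf.germ V _ hx (c * a) = 0 := by
    rw [← hw', ← map_mul]
    have : w' * (c * a) = 0 := by rw [mul_left_comm, hc'', mul_zero]
    rw [this, map_zero]
  have h3 := K794.SecAlg.eq_zero_of_mul S.N S.hn h2
  have h4 := congrArg (sps S.s) h3
  rw [sps_germ, map_zero, map_mul] at h4
  have h5 : S.U.presheaf.germ V (S.s eta) hx1 a = 0 := (hunit c hc).mul_right_eq_zero.1 h4
  rw [h5] at ha'
  exact (hunit d hd).mul_right_eq_zero.1 ha'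

include hϖ in
/-- **The section is a Cartier divisor at its generic point.** -/
theorem exists_gen_pt1 : ∃ g ∈ nonZeroDivisors (X.presheaf.stalk S.pt1),
    maximalIdeal (X.presheaf.stalk S.pt1) = Ideal.span {g} := by
  have h1 : (S.e.stalkMap (S.s eta)).hom.Flat := Flat.stalkMap S.e (S.s eta)
  let _ := (S.e.stalkMap (S.s eta)).hom.toAlgebra
  have h2 : Module.Flat (X.presheaf.stalk (S.e (S.s eta))) (S.U.presheaf.stalk (S.s eta)) := h1
  have h3 : IsLocalHom (algebraMap (X.presheaf.stalk (S.e (S.s eta))) (S.U.presheaf.stalk (S.s eta))) :=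
    inferInstanceAs (IsLocalHom (S.e.stalkMap (S.s eta)).hom)
  have h4 : Module.FaithfullyFlat (X.presheaf.stalk (S.e (S.s eta))) (S.U.presheaf.stalk (S.s eta)) :=
    Module.FaithfullyFlat.of_flat_of_isLocalHom
  refine K793.NodeDesc.exists_generator_of_map (A := X.presheaf.stalk (S.e (S.s eta)))
    S.eqn_mem_nonZeroDivisors ?_
  rw [← S.maximalIdeal_eq hϖ]
  exact K315.NodeEtale.map_maximalIdeal_of_etale S.e (S.s eta)

end NSec

end K794.SecBase
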