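import Groth.Agent.SemiFact.K794.NodeW
import Groth.Agent.SemiFact.K794.NodeCpl
import Groth.Agent.SemiFact.K794.SecBase
import Groth.Agent.Pi1C.StrictHensPoint
import Groth.Agent.SemiFact.K793.Chart
import Groth.Agent.SemiFact.K793.NodeFam
import Groth.Agent.Curves.K315.NodeEtale
import Groth.Agent.Ega4A.CplFlat

/-!
# The étale chart at a thick node
-/

set_option autoImplicit false
set_option linter.unusedSectionVars false

universe u

open CategoryTheory CategoryTheory.Limits AlgebraicGeometry IsLocalRing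

namespace K794.NodeChart

open K794.NodeAlg Groth.Agent.Models.NodeRing Groth.Agent.Models.NodeBlow

section Cpl

variable {C B : Type u} [CommRing C] [IsLocalRing C] [IsNoetherianRing C] [CommRing B] [IsLocalRing B]
  [IsNoetherianRing B] [Algebra C B] [IsLocalHom (algebraMap C B)]

/-- a node structure on the completion -/
def HasNode (B : Type u) [CommRing B] [IsLocalRing B] [IsNoetherianRing B] (π : B) (l : ℕ) : Prop :=
  ∃ x y : Curv2.cpl B, NodeData (algebraMap B (Curv2.cpl B) π) x y l

theorem HasNode.of_flat [Module.Flat C B] (hmax : (maximalIdeal C).map (algebraMap C B) = maximalIdeal B)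
    {π : C} {l : ℕ} (h : HasNode C π l) : HasNode B (algebraMap C B π) l := by
  obtain ⟨x, y, N⟩ := h
  have h1 := Groth.Agent.Ega4A.CplFlat.isLocalHom_cplMap C B
  have h2 : IsNoetherianRing (Curv2.cpl B) := Groth.Agent.Ega4A.CplQuot.isNoetherianRing_cpl B
  have h3 := Groth.Agent.Ega4A.CplFlat.flat_cplMap C B
  let _ : Algebra (Curv2.cpl C) (Curv2.cpl B) := (Groth.Agent.Ega4A.CplFlat.cplMap C B).toAlgebra
  have h4 : IsLocalHom (algebraMap (Curv2.cpl C) (Curv2.cpl B)) := h1
  have h5 : Module.Flat (Curv2.cpl C) (Curv2.cpl B) := h3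
  have h6 : Module.FaithfullyFlat (Curv2.cpl C) (Curv2.cpl B) := Module.FaithfullyFlat.of_flat_of_isLocalHom
  have h7 := N.of_flat (B' := Curv2.cpl B) (by
    change (maximalIdeal (Curv2.cpl C)).map (Groth.Agent.Ega4A.CplFlat.cplMap C B) = _
    rw [Groth.Agent.Ega4A.CplFlat.map_maximalIdeal_cplMap, hmax]
    exact AdicCompletion.maximalIdeal_eq_map.symm)
  refine ⟨algebraMap (Curv2.cpl C) (Curv2.cpl B) x, algebraMap (Curv2.cpl C) (Curv2.cpl B) y, ?_⟩
  · have h8 : algebraMap (Curv2.cpl C) (Curv2.cpl B) (algebraMap C (Curv2.cpl C) π) =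
      algebraMap B (Curv2.cpl B) (algebraMap C B π) := Groth.Agent.Ega4A.CplFlat.cplMap_algebraMap C B π
    rw [← h8]
    exact h7

theorem HasNode.dvd {π u v : B} {n l : ℕ} (h : HasNode B π l) (N : NodeData π u v n) : l ∣ n := by
  obtain ⟨x, y, N'⟩ := h
  have h2 : IsNoetherianRing (Curv2.cpl B) := Groth.Agent.Ega4A.CplQuot.isNoetherianRing_cpl B
  have h3 : Module.FaithfullyFlat B (Curv2.cpl B) := Groth.Agent.Ega4A.CplQuot.faithfullyFlat_cpl B
  exact N'.dvd_of_nodeData (N.of_flat (B' := Curv2.cpl B) AdicCompletion.maximalIdeal_eq_map.symm)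

theorem HasNode.not_principal {π h : B} {l : ℕ} (hN : HasNode B π l) (hh : h ∈ maximalIdeal B)
    (hm : maximalIdeal B ≤ Ideal.span {π, h}) : False := by
  obtain ⟨x, y, N'⟩ := hN
  have e : (maximalIdeal B).map (algebraMap B (Curv2.cpl B)) = maximalIdeal (Curv2.cpl B) :=
    AdicCompletion.maximalIdeal_eq_map.symm
  refine N'.not_principal (h := algebraMap B (Curv2.cpl B) h) (e ▸ Ideal.mem_map_of_mem _ hh) ?_
  rw [← e]
  refine (Ideal.map_mono hm).trans ?_
  rw [Ideal.map_span]
  apply Ideal.span_mono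
  rintro _ ⟨z, hz, rfl⟩
  rcases hz with rfl | rfl <;> simp

end Cpl

section Etale

variable {A : Type u} [CommRing A] {U : Scheme.{u}} (g : U ⟶ Spec (CommRingCat.of A)) [Etale g] (y : U)

/-- the stalk of `Spec A` as an `A`-algebra -/
noncomputable def toSt (s : Spec (CommRingCat.of A)) : A →+* (Spec (CommRingCat.of A)).presheaf.stalk s :=
  ((Spec (CommRingCat.of A)).presheaf.germ ⊤ s trivial).hom.comp (Scheme.ΓSpecIso (CommRingCat.of A)).inv.hom

theorem isLocalization_toSt (s : Spec (CommRingCat.of A)) :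
    @IsLocalization.AtPrime _ _ ((Spec (CommRingCat.of A)).presheaf.stalk s) _ (toSt s).toAlgebra s.asIdeal _ :=
  AlgebraicGeometry.StructureSheaf.IsLocalization.to_stalk A s

omit [Etale g] in
theorem stalkMap_toSt (r : A) : (g.stalkMap y).hom (toSt (g y) r) = DualGr.stalkHom g y r :=
  K793.Basic.stalkMap_germ g y r

theorem nodeData_of_etale [IsLocallyNoetherian U] {π x z : A} {n : ℕ}
    (N : NodeData (toSt (g y) π) (toSt (g y) x) (toSt (g y) z) n) :
    NodeData (DualGr.stalkHom g y π) (DualGr.stalkHom g y x) (DualGr.stalkHom g y z) n := by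
  have h1 : (g.stalkMap y).hom.Flat := Flat.stalkMap g y
  let _ := (g.stalkMap y).hom.toAlgebra
  have h2 : Module.Flat ((Spec (CommRingCat.of A)).presheaf.stalk (g y)) (U.presheaf.stalk y) := h1
  have h3 : IsLocalHom (algebraMap ((Spec (CommRingCat.of A)).presheaf.stalk (g y)) (U.presheaf.stalk y)) :=
    inferInstanceAs (IsLocalHom (g.stalkMap y).hom)
  have h4 : Module.FaithfullyFlat ((Spec (CommRingCat.of A)).presheaf.stalk (g y)) (U.presheaf.stalk y) :=
    Module.FaithfullyFlat.of_flat_of_isLocalHom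
  rw [← stalkMap_toSt, ← stalkMap_toSt, ← stalkMap_toSt]
  exact N.of_flat (K315.NodeEtale.map_maximalIdeal_of_etale g y)

end Etale

section NoPrincipal

variable {A : Type u} [CommRing A] {U : Scheme.{u}} [IsLocallyNoetherian U] (g : U ⟶ Spec (CommRingCat.of A))
  [Etale g] (y : U)

theorem not_principal_of_etale {π : A} {l : ℕ} (hN : HasNode (U.presheaf.stalk y) (DualGr.stalkHom g y π) l)
    {h : (Spec (CommRingCat.of A)).presheaf.stalk (g y)} (hh : h ∈ maximalIdeal _)
    (hle : maximalIdeal ((Spec (CommRingCat.of A)).presheaf.stalk (g y)) ≤ Ideal.span {toSt (g y) π, h}) : False := by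
  have e := K315.NodeEtale.map_maximalIdeal_of_etale g y
  refine hN.not_principal (h := (g.stalkMap y).hom h) (e ▸ Ideal.mem_map_of_mem _ hh) ?_
  rw [← e]
  refine (Ideal.map_mono hle).trans ?_
  rw [Ideal.map_span]
  apply Ideal.span_mono
  rintro _ ⟨z, hz, rfl⟩
  rcases hz with rfl | rfl
  · left; exact stalkMap_toSt g y π
  · right; rfl

end NoPrincipal

section Comp

theorem stalkHom_comp_specMap {A A' : Type u} [CommRing A] [CommRing A'] {U : Scheme.{u}}
    (g : U ⟶ Spec (CommRingCat.of A')) (φ : A →+* A') (y : U) (r : A) :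
    DualGr.stalkHom (g ≫ Spec.map (CommRingCat.ofHom φ)) y r = DualGr.stalkHom g y (φ r) := by
  have h1 : Coh.toGlobal (g ≫ Spec.map (CommRingCat.ofHom φ)) r = Coh.toGlobal g (φ r) := by
    have h2 : (Spec.map (CommRingCat.ofHom φ)).appTop ((Scheme.ΓSpecIso (CommRingCat.of A)).inv r) =
        (Scheme.ΓSpecIso (CommRingCat.of A')).inv (φ r) :=
      (congrArg (fun ψ => ψ.hom r) (Scheme.ΓSpecIso_inv_naturality (CommRingCat.ofHom φ))).symm
    have h3 : Coh.toGlobal (g ≫ Spec.map (CommRingCat.ofHom φ)) r =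
        g.appTop ((Spec.map (CommRingCat.ofHom φ)).appTop ((Scheme.ΓSpecIso (CommRingCat.of A)).inv r)) := rfl
    rw [h3, h2]
    rfl
  change U.presheaf.germ ⊤ y trivial (Coh.toGlobal (g ≫ Spec.map (CommRingCat.ofHom φ)) r) = _
  rw [h1]
  rfl

end Comp

section Sec

open K794.SecBase K793.Chart

variable {R : Type u} [CommRing R] [IsDomain R] [IsDiscreteValuationRing R] [HenselianLocalRing R]
  [IsSepClosed (ResidueField R)] {ϖ : R} (hϖ : Irreducible ϖ)

/-- an étale algebra which is a discrete valuation ring with the same uniformizer has a retraction. -/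
theorem exists_retraction (hϖ : Irreducible ϖ) (D : Type u) [CommRing D] [IsDomain D] [IsDiscreteValuationRing D]
    [Algebra R D] [Algebra.Etale R D] (hirr : Irreducible (algebraMap R D ϖ)) :
    ∃ φ : D →+* R, ∀ r, φ (algebraMap R D r) = r := by
  have het : Etale (Spec.map (CommRingCat.ofHom (algebraMap R D))) := by
    rw [HasRingHomProperty.Spec_iff (P := @Etale)]
    exact RingHom.etale_algebraMap.2 inferInstance
  have hc : (Spec.map (CommRingCat.ofHom (algebraMap R D))) (closedPoint D) = closedPoint R := by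
    apply PrimeSpectrum.ext
    symm
    apply (IsLocalRing.maximalIdeal.isMaximal R).eq_of_le
    · exact (Ideal.IsPrime.comap (algebraMap R D)).ne_top
    · rw [hϖ.maximalIdeal_eq, Ideal.span_singleton_le_iff_mem]
      exact hirr.not_isUnit
  obtain ⟨t, ht, -⟩ := Groth.Agent.Pi1C.StrictHensPoint.exists_lift_of_etale
    (Spec.map (CommRingCat.ofHom (algebraMap R D))) (closedPoint D) R (𝟙 _) hc.symm
  refine ⟨(Spec.preimage t).hom, fun r => ?_⟩
  have h1 : CommRingCat.ofHom (algebraMap R D) ≫ Spec.preimage t = 𝟙 _ := by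
    apply Spec.map_injective
    rw [Spec.map_comp, Spec.map_preimage, ht, Spec.map_id]
  exact congrArg (fun ψ => ψ.hom r) h1

include hϖ in
/-- **Sections through a thick node.** -/
theorem exists_nsec {X : Scheme.{u}} [IsLocallyNoetherian X] (f : X ⟶ Spec (CommRingCat.of R)) (x : X)
    (C : NChart R ϖ f x) {l : ℕ} (hl : l ≠ 1) (hx : f x = (closedPoint R : PrimeSpectrum R))
    (hN : HasNode (X.presheaf.stalk x) (DualGr.stalkHom f x ϖ) l) :
    ∃ n, l ∣ n ∧ ∃ S : NSec ϖ f n, S.pt0 = x := by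
  rcases C with @⟨D, cr, dom, dvr, alg, et, irr, a, ha, U, e, ete, y, hy, g, etg, w⟩
  subst hy
  have hU : IsLocallyNoetherian U := LocallyOfFiniteType.isLocallyNoetherian e
  set t := algebraMap R D ϖ with ht
  have hw : ∀ r : R, DualGr.stalkHom g y (algebraMap D (W D a) (algebraMap R D r)) = DualGr.stalkHom (e ≫ f) y r := by
    intro r
    rw [← w, ← stalkHom_comp_specMap g, ← stalkHom_comp_specMap, Category.assoc]
  -- the node structure on the local ring of `U`
  have hNB : HasNode (U.presheaf.stalk y) (DualGr.stalkHom g y (algebraMap D (W D a) t)) l := by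
    have h1 : (e.stalkMap y).hom.Flat := Flat.stalkMap e y
    let _ := (e.stalkMap y).hom.toAlgebra
    have h2 : Module.Flat (X.presheaf.stalk (e y)) (U.presheaf.stalk y) := h1
    have h3 : IsLocalHom (algebraMap (X.presheaf.stalk (e y)) (U.presheaf.stalk y)) :=
      inferInstanceAs (IsLocalHom (e.stalkMap y).hom)
    have h4 := hN.of_flat (B := U.presheaf.stalk y) (K315.NodeEtale.map_maximalIdeal_of_etale e y)
    rw [ht, hw]
    have h5 : algebraMap (X.presheaf.stalk (e y)) (U.presheaf.stalk y) (DualGr.stalkHom f (e y) ϖ) =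
        DualGr.stalkHom (e ≫ f) y ϖ := by
      rw [K793.Basic.stalkHom_eq_germ, K793.Basic.stalkHom_eq_germ]
      exact Scheme.Hom.germ_stalkMap_apply e ⊤ y trivial (show Γ(X, ⊤) from Coh.toGlobal f ϖ)
    rw [← h5]
    exact h4
  have htP : algebraMap D (W D a) t ∈ (g y).asIdeal := by
    by_contra h
    rw [← K793.Basic.isUnit_stalkHom_iff g y, ht, hw, K793.Basic.isUnit_stalkHom_iff_ne (e ≫ f) y hϖ] at h
    exact h hx
  let _ : Algebra (W D a) ((Spec (CommRingCat.of (W D a))).presheaf.stalk (g y)) := (toSt (g y)).toAlgebra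
  have hloc : IsLocalization.AtPrime ((Spec (CommRingCat.of (W D a))).presheaf.stalk (g y)) (g y).asIdeal :=
    isLocalization_toSt (g y)
  have hu : uu D a ∈ (g y).asIdeal := by
    by_contra h
    obtain ⟨h', hh', hle⟩ := K794.NodeW.exists_max_le irr (g y).asIdeal
      ((Spec (CommRingCat.of (W D a))).presheaf.stalk (g y)) h
    exact not_principal_of_etale g y hNB hh' hle
  have hv : vv D a ∈ (g y).asIdeal := by
    by_contra h
    obtain ⟨h', hh', hle⟩ := K794.NodeW.exists_max_le' irr (g y).asIdeal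
      ((Spec (CommRingCat.of (W D a))).presheaf.stalk (g y)) h
    exact not_principal_of_etale g y hNB hh' hle
  obtain ⟨n, hn⟩ : ∃ n : ℕ, a = if n = 0 then 0 else t ^ n := by
    rcases ha with ha | ⟨k, hk⟩
    · exact ⟨0, by rw [ha, if_pos rfl]⟩
    · refine ⟨k, ?_⟩
      rw [if_neg, hk]
      rintro rfl
      have h1 : uu D a * vv D a ∈ (g y).asIdeal := Ideal.mul_mem_right _ _ hu
      have h2 : uu D a * vv D a = 1 := by
        rw [uu_mul_vv]
        exact (congrArg (algebraMap D (W D a)) (hk.trans (pow_zero _))).trans (map_one _)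
      rw [h2] at h1
      exact (g y).isPrime.ne_top ((Ideal.eq_top_iff_one _).2 h1)
  have N := nodeData_of_etale g y (K794.NodeW.nodeData irr (g y).asIdeal
      ((Spec (CommRingCat.of (W D a))).presheaf.stalk (g y)) n hn hu hv htP)
  have hln : l ∣ n := hNB.dvd N
  have hn1 : n ≠ 1 := by
    rintro rfl
    exact hl (Nat.dvd_one.1 hln)
  -- the section
  obtain ⟨φ, hφ⟩ := exists_retraction hϖ D irr
  have hφa : ϖ * (if n = 0 then 0 else ϖ ^ (n - 1)) = φ a := by
    rw [hn]
    split_ifs with h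
    · rw [mul_zero, map_zero]
    · rw [map_pow, ht, hφ, ← pow_succ', Nat.sub_add_cancel (Nat.pos_of_ne_zero h)]
  let ψ : W D a →+* R := Groth.Agent.Models.NodeRing.lift φ ϖ (if n = 0 then 0 else ϖ ^ (n - 1)) hφa
  have hψ : (Spec.map (CommRingCat.ofHom ψ)) (closedPoint R) = g y := by
    apply PrimeSpectrum.ext
    have h1 : ((Spec.map (CommRingCat.ofHom ψ)) (closedPoint R)).asIdeal = (maximalIdeal R).comap ψ := rfl
    rw [h1, eq_span_of_mem D t irr (g y).asIdeal hu hv htP]
    have hp : ((maximalIdeal R).comap ψ).IsPrime := Ideal.comap_isPrime _ _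
    apply eq_span_of_mem D t irr
    · rw [Ideal.mem_comap, lift_uu]
      exact hϖ.not_isUnit
    · rw [Ideal.mem_comap, lift_vv]
      split_ifs with h
      · exact Ideal.zero_mem _
      · exact Ideal.pow_mem_of_mem _ hϖ.not_isUnit _ (by omega)
    · rw [Ideal.mem_comap, lift_algebraMap, ht, hφ]
      exact hϖ.not_isUnit
  obtain ⟨s, hs, hs'⟩ := Groth.Agent.Pi1C.StrictHensPoint.exists_lift_of_etale g y R
    (Spec.map (CommRingCat.ofHom ψ)) hψ
  subst hs'
  refine ⟨n, hln, @NSec.mk R _ _ _ ϖ X f n U e ete hU s ?_ (DualGr.stalkHom g _ (uu D a))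
    (DualGr.stalkHom g _ (vv D a)) ?_ ?_ ?_ hn1, rfl⟩
  · rw [Category.assoc, ← w, ← Category.assoc, hs, ← Spec.map_comp, ← Spec.map_comp]
    rw [← Spec.map_id]
    congr 1
    ext r
    change ψ (algebraMap D (W D a) (algebraMap R D r)) = r
    rw [lift_algebraMap, hφ]
  · rw [← hw]
    exact N
  · rw [rho_stalkHom s g ψ hs, lift_uu]
  · rw [rho_stalkHom s g ψ hs, lift_vv]

end Sec

end K794.NodeChart
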