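import Groth.Agent.SemiFact.K794.SecDiv
import Groth.Agent.SemiFact.K794.NodeChart
import Groth.Agent.LabGraph.K794.Congruence

/-!
# Semi-factorial nodal curves over a strictly henselian base have circuit-coprime dual graphs
-/

set_option autoImplicit false
set_option linter.unusedSectionVars false
universe u v
open CategoryTheory CategoryTheory.Limits AlgebraicGeometry IsLocalRing TopologicalSpace Opposite
open Groth.Agent.Fdesc.LocGen

namespace K794.SecThm

open K794.Glob K794.Nodal K794.SecBase K793.Basic K794.SecDiv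

variable {R : Type u} [CommRing R] [IsDomain R] [IsDiscreteValuationRing R] [HenselianLocalRing R]
  [IsSepClosed (ResidueField R)] {X : Scheme.{u}} (f : X ⟶ Spec (CommRingCat.of R)) [IsProper f]
  (hf : Curv2.IsNodalFamily f)
    {V E : Type v} [Fintype V] [Fintype E]
    {cv : V → Set ↥(f.fiber (IsLocalRing.closedPoint R))} {ce : E → ↥(f.fiber (IsLocalRing.closedPoint R))}
    {ends : E → V × V} {ϖ : R} (hϖ : Irreducible ϖ) {l : E → ℕ}
    (hΓ : DualGr.IsLabelledDualGraph R f cv ce ends (fun e => if l e = 0 then 0 else ϖ ^ l e))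
    (hsf : Formal2.PicPullbackSurjective (pullback.fst f (Neron.genPt R)))

include hf hϖ hΓ hsf in
theorem exists_potential (e : E) (hl : l e ≠ 1) : ∃ (φ : V → ℤ) (ε : ℤ), ε * ε = 1 ∧
    (l e : ℤ) ∣ ε - (φ (ends e).2 - φ (ends e).1) ∧
      ∀ e', e' ≠ e → (l e' : ℤ) ∣ φ (ends e').2 - φ (ends e').1 := by
  have hflat : Flat f := hf.1
  have hred := K793.NodalFib.isReduced_fiber f hf (closedPoint R)
  have hNX : IsLocallyNoetherian X := LocallyOfFiniteType.isLocallyNoetherian f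
  obtain ⟨x, hx⟩ : ∃ x, x = f.fiberι (closedPoint R) (ce e) := ⟨_, rfl⟩
  have hfx : f x = (closedPoint R : PrimeSpectrum R) := by
    rw [hx]
    exact Groth.Agent.CycB.FiberStalk.fiberι_mem f (closedPoint R) _
  have hmem : DualGr.stalkHom f x ϖ ∈ maximalIdeal (X.presheaf.stalk x) := by
    rw [mem_maximalIdeal, mem_nonunits_iff, isUnit_stalkHom_iff_ne f x hϖ, not_not]
    exact hfx
  have hth : DualGr.IsThickNode (DualGr.stalkHom f x) (if l e = 0 then 0 else ϖ ^ l e) := by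
    rw [hx]
    exact hΓ.thick e
  obtain ⟨y, z, N⟩ := K794.NodeCpl.exists_nodeData hϖ (DualGr.stalkHom f x) hmem
    (stalkHom_mem_nonZeroDivisors f x hϖ.ne_zero) (l e) hth
  obtain ⟨C⟩ := K793.Chart.exists_nchart hϖ f hf x hfx
  obtain ⟨n, hln, S, hS⟩ := K794.NodeChart.exists_nsec hϖ f x C hl hfx ⟨y, z, N⟩
  rw [← hS] at hx
  have H := sit f hΓ.isDualGraph hϖ
  have hop := isOpenImmersion_fst f
  have hNZ : IsLocallyNoetherian (pullback f (Neron.genPt R)) :=
    isLocallyNoetherian_of_isOpenImmersion (pullback.fst f (Neron.genPt R))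
  obtain ⟨δ, hδ⟩ := exists_delta hϖ S H
  have hcl := isClosed_delta hϖ S H hδ
  have hJ := Groth.Agent.Dix.IdealModCartier.isInvertible_idealMod (isEff hϖ S H hδ hcl)
  obtain ⟨M, hM, ⟨eM⟩⟩ := hsf _ hJ
  have hδU : δ ∉ (pullback.fst f (Neron.genPt R)) ⁻¹ᵁ (compl S) := by
    intro h
    have h1 : pullback.fst f (Neron.genPt R) δ ∈ compl S := h
    rw [hδ, mem_compl] at h1
    exact h1.2 rfl
  obtain ⟨s, hs, hsg⟩ := exists_one hcl _ hδU
  have hxi : ∀ v, xi f hΓ.isDualGraph v ∈ compl S := fun v =>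
    mem_compl_of_notMem S hϖ (H.mem v) (xi_ne_pt0 S H v)
  have hG : ∀ v : V, GenAt (pullback.fst f (Neron.genPt R)) (xi f hΓ.isDualGraph v) s := fun v =>
    GenAt.of_isGen (hxi v) hsg
  obtain ⟨φ, hφ⟩ := H.exists_pr (U₀ := fun _ : V => compl S) (G := fun _ => s) hJ hG hM eM
  obtain ⟨w₀, w₁, hw₀, hw₁, hw, hdvd⟩ := dvd_of_pr hϖ S H hδ hcl (U₀ := fun _ : V => compl S) (G := fun _ => s)
    (fun _ => hs) φ (hφ _)
  have hinc : ∀ v, xi f hΓ.isDualGraph v ⤳ S.pt0 ↔ ((ends e).1 = v ∨ (ends e).2 = v) := by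
    intro v
    rw [hx, xi_specializes, ← hΓ.isDualGraph.incidence]
  have hdvd' : (l e : ℤ) ∣ φ w₀ - φ w₁ - 1 := (Int.natCast_dvd_natCast.2 hln).trans hdvd
  refine ⟨φ, ?_⟩
  have hall : ∀ e', e' ≠ e → (l e' : ℤ) ∣ φ (ends e').2 - φ (ends e').1 := by
    intro e' he'
    obtain ⟨m, hm⟩ := exists_class f hϖ hΓ hJ (U₀ := fun _ : V => compl S) (G := fun _ => s) hG e'
    have h1 := (hm φ).1 (hφ _)
    have hU : f.fiberι (closedPoint R) (ce e') ∈ compl S := by
      apply mem_compl_of_notMem S hϖ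
      · rw [mem_basicOpen_iff f hϖ, not_not]
        exact Groth.Agent.CycB.FiberStalk.fiberι_mem f (closedPoint R) _
      · rw [hx]
        intro h
        exact he' (hΓ.isDualGraph.pt_injective ((f.fiberι (closedPoint R)).isEmbedding.injective h))
    have h2 := (hm 0).1 ⟨compl S, s, hU, hsg, fun v hv => by
      rw [Pi.zero_apply, zpow_zero, one_smul]
      exact EqvAt.refl hv s⟩
    have h3 := dvd_sub h2 h1
    have h4 : m - ((0 : V → ℤ) (ends e').2 - (0 : V → ℤ) (ends e').1) - (m - (φ (ends e').2 - φ (ends e').1)) =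
        φ (ends e').2 - φ (ends e').1 := by
      rw [Pi.zero_apply, Pi.zero_apply]; ring
    rw [h4] at h3
    exact h3
  have e0 := (hinc w₀).1 hw₀
  have e1 := (hinc w₁).1 hw₁
  have f1 := hw _ ((hinc (ends e).1).2 (Or.inl rfl))
  have f2 := hw _ ((hinc (ends e).2).2 (Or.inr rfl))
  have hcase : ((ends e).1 = w₀ ∧ (ends e).2 = w₁) ∨ ((ends e).1 = w₁ ∧ (ends e).2 = w₀) := by
    rcases f1 with f1 | f1 <;> rcases f2 with f2 | f2
    · rcases e1 with e1 | e1
      · exact Or.inl ⟨f1, f2.trans (f1.symm.trans e1)⟩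
      · exact Or.inl ⟨f1, e1⟩
    · exact Or.inl ⟨f1, f2⟩
    · exact Or.inr ⟨f1, f2⟩
    · rcases e0 with e0 | e0
      · exact Or.inr ⟨f1, f2.trans (f1.symm.trans e0)⟩
      · exact Or.inr ⟨f1, e0⟩
  rcases hcase with ⟨g1, g2⟩ | ⟨g1, g2⟩
  · refine ⟨-1, by ring, ?_, hall⟩
    rw [g1, g2]
    have : -1 - (φ w₁ - φ w₀) = φ w₀ - φ w₁ - 1 := by ring
    rw [this]
    exact hdvd'
  · refine ⟨1, by ring, ?_, hall⟩
    rw [g1, g2]
    have : 1 - (φ w₀ - φ w₁) = -(φ w₀ - φ w₁ - 1) := by ring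
    rw [this]
    exact (dvd_neg).2 hdvd'

end K794.SecThm

namespace K794.SecThm

open K794.Glob K794.Nodal

variable {R : Type u} [CommRing R] [IsDomain R] [IsDiscreteValuationRing R] [HenselianLocalRing R]
  [IsSepClosed (ResidueField R)] {X : Scheme.{u}} (f : X ⟶ Spec (CommRingCat.of R)) [IsProper f]
  (hf : Curv2.IsNodalFamily f)
    {V E : Type v} [Fintype V] [Fintype E] [DecidableEq V] [DecidableEq E]
    {cv : V → Set ↥(f.fiber (IsLocalRing.closedPoint R))} {ce : E → ↥(f.fiber (IsLocalRing.closedPoint R))}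
    {ends : E → V × V} {ϖ : R} (hϖ : Irreducible ϖ) {l : E → ℕ}
    (hΓ : DualGr.IsLabelledDualGraph R f cv ce ends (fun e => if l e = 0 then 0 else ϖ ^ l e))
    (hsf : Formal2.PicPullbackSurjective (pullback.fst f (Neron.genPt R)))

include hf hϖ hΓ hsf in
theorem isCircuitCoprime : LabGraph.IsCircuitCoprime ends l := by
  apply K794.Congruence.circuitCoprime_of_congruence
  -- solutions for the coordinate vectors
  have h1 : ∀ e : E, ∃ φ : V → ℤ, ∀ e', (l e' : ℤ) ∣ (if e' = e then (1 : ℤ) else 0) - (φ (ends e').2 - φ (ends e').1) := by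
    intro e
    by_cases hl : l e = 1
    · refine ⟨0, fun e' => ?_⟩
      by_cases h : e' = e
      · subst h
        rw [hl]
        simp
      · rw [if_neg h]
        simp
    · obtain ⟨φ, ε, hε, h2, h3⟩ := exists_potential f hf hϖ hΓ hsf e hl
      refine ⟨fun v => ε * φ v, fun e' => ?_⟩
      by_cases h : e' = e
      · subst h
        rw [if_pos rfl]
        have : 1 - (ε * φ (ends e').2 - ε * φ (ends e').1) = ε * (ε - (φ (ends e').2 - φ (ends e').1)) := by
          rw [mul_sub, mul_sub, hε]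
        rw [this]
        exact Dvd.dvd.mul_left h2 _
      · rw [if_neg h]
        have : 0 - (ε * φ (ends e').2 - ε * φ (ends e').1) = -ε * (φ (ends e').2 - φ (ends e').1) := by ring
        rw [this]
        exact Dvd.dvd.mul_left (h3 e' h) _
  choose ψ hψ using h1
  intro x
  refine ⟨fun v => ∑ e, x e * ψ e v, fun e' => ?_⟩
  have h2 : x e' - ((∑ e, x e * ψ e (ends e').2) - ∑ e, x e * ψ e (ends e').1) =
      ∑ e, x e * ((if e' = e then (1 : ℤ) else 0) - (ψ e (ends e').2 - ψ e (ends e').1)) := by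
    simp only [mul_sub, Finset.sum_sub_distrib, mul_ite, mul_one, mul_zero, Finset.sum_ite_eq, Finset.mem_univ,
      if_true]
  change (l e' : ℤ) ∣ x e' - ((∑ e, x e * ψ e (ends e').2) - ∑ e, x e * ψ e (ends e').1)
  rw [h2]
  exact Finset.dvd_sum fun e _ => Dvd.dvd.mul_left (hψ e e') _

end K794.SecThm
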