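import Groth.Agent.SemiFact.K794.Deform
import Groth.Agent.SemiFact.K794.Nodal2
import Mathlib.Topology.JacobsonSpace

/-!
# Labels exist; nodal curves of compact type
-/

set_option autoImplicit false
set_option linter.unusedSectionVars false
universe u v
open CategoryTheory CategoryTheory.Limits AlgebraicGeometry IsLocalRing TopologicalSpace

namespace K794.Nodal

open K793.Basic

/-- The points of a finite closed set of a Jacobson space are closed. -/
theorem isClosed_of_finite {Y : Type*} [TopologicalSpace Y] [JacobsonSpace Y] {N : Set Y} (hN : IsClosed N)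
    (hf : N.Finite) {y : Y} (hy : y ∈ N) : IsClosed ({y} : Set Y) := by
  have h1 : closure {y} ⊆ N := closure_minimal (Set.singleton_subset_iff.2 hy) hN
  have h2 : closure (closure {y} ∩ closedPoints Y) = closure {y} := closure_inter_closedPoints isClosed_closure
  have h3 : (closure {y} ∩ closedPoints Y).Finite := hf.subset (Set.inter_subset_left.trans h1)
  have h4 : IsClosed (closure {y} ∩ closedPoints Y) := by
    have : closure {y} ∩ closedPoints Y = ⋃ z ∈ closure {y} ∩ closedPoints Y, {z} :=
      (Set.biUnion_of_singleton _).symm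
    rw [this]
    exact h3.isClosed_biUnion fun z hz => hz.2
  have h5 : y ∈ closure {y} ∩ closedPoints Y := by
    rw [← h4.closure_eq, h2]
    exact subset_closure rfl
  exact h5.2

theorem notMem_nonsmoothPts {X S : Scheme.{u}} (g : X ⟶ S) [LocallyOfFinitePresentation g] (y : X) (W : X.Opens)
    (hyW : y ∈ W) (hW : Smooth (W.ι ≫ g)) : y ∉ DualGr.nonsmoothPts g := by
  intro h
  apply h
  change y ∈ g.smoothLocus
  have h1 : (⟨y, hyW⟩ : W) ∈ (W.ι ≫ g).smoothLocus := by
    rw [Scheme.Hom.smoothLocus_eq_top]; trivial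
  rw [← Scheme.Hom.preimage_smoothLocus_eq] at h1
  exact h1

variable {R : Type u} [CommRing R] [IsDomain R] [IsDiscreteValuationRing R]
    {X : Scheme.{u}} (f : X ⟶ Spec (CommRingCat.of R))

/-- the points of a finite non-smooth locus are closed. -/
theorem isClosed_of_mem_nonsmoothPts [LocallyOfFinitePresentation f]
    (hfin : (DualGr.nonsmoothPts (f.fiberToSpecResidueField (closedPoint R))).Finite)
    (y : ↥(f.fiber (closedPoint R))) (hy : y ∈ DualGr.nonsmoothPts (f.fiberToSpecResidueField (closedPoint R))) :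
    IsClosed ({y} : Set ↥(f.fiber (closedPoint R))) := by
  have hlfp' : LocallyOfFinitePresentation (f.fiberToSpecResidueField (closedPoint R)) :=
    MorphismProperty.pullback_snd _ _ inferInstance
  have hJ : JacobsonSpace ↥(f.fiber (closedPoint R)) :=
    LocallyOfFiniteType.jacobsonSpace (f.fiberToSpecResidueField (closedPoint R))
  refine isClosed_of_finite ?_ hfin hy
  have : DualGr.nonsmoothPts (f.fiberToSpecResidueField (closedPoint R)) =
      ((f.fiberToSpecResidueField (closedPoint R)).smoothLocus : Set _)ᶜ := rfl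
  rw [this]
  exact (f.fiberToSpecResidueField (closedPoint R)).smoothLocus.isOpen.isClosed_compl

/-- A non-smooth point of a split special fibre is a thick node. -/
theorem exists_thick [Flat f] [LocallyOfFinitePresentation f] [IsLocallyNoetherian X] {ϖ : R} (hϖ : Irreducible ϖ)
    (hsplit : ∀ y : ↥(f.fiber (IsLocalRing.closedPoint R)), IsClosed ({y} : Set ↥(f.fiber (IsLocalRing.closedPoint R))) →
        (∃ W : (f.fiber (IsLocalRing.closedPoint R)).Opens, y ∈ W ∧ Smooth (W.ι ≫ f.fiberToSpecResidueField (IsLocalRing.closedPoint R))) ∨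
        @Curv2.IsOrdDoublePt ((Spec (CommRingCat.of R)).residueField (IsLocalRing.closedPoint R)) _ ((f.fiber (IsLocalRing.closedPoint R)).presheaf.stalk y) _ (@Curv2.stalkAlgebra ((Spec (CommRingCat.of R)).residueField (IsLocalRing.closedPoint R)) _ (f.fiber (IsLocalRing.closedPoint R)) ⟨f.fiberToSpecResidueField (IsLocalRing.closedPoint R)⟩ y) _)
    (hfin : (DualGr.nonsmoothPts (f.fiberToSpecResidueField (closedPoint R))).Finite)
    (y : ↥(f.fiber (closedPoint R))) (hy : y ∈ DualGr.nonsmoothPts (f.fiberToSpecResidueField (closedPoint R))) :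
    ∃ l : ℕ, DualGr.IsThickNode (DualGr.stalkHom f (f.fiberι (closedPoint R) y)) (if l = 0 then 0 else ϖ ^ l) := by
  have hlfp' : LocallyOfFinitePresentation (f.fiberToSpecResidueField (closedPoint R)) :=
    MorphismProperty.pullback_snd _ _ inferInstance
  rcases hsplit y (isClosed_of_mem_nonsmoothPts f hfin y hy) with ⟨W, hyW, hW⟩ | h
  · exact absurd hy (notMem_nonsmoothPts _ y W hyW hW)
  · exact K794.Deform.exists_thick hϖ f y h

variable {V E : Type v} [Fintype V] [Fintype E]
    {cv : V → Set ↥(f.fiber (IsLocalRing.closedPoint R))} {ce : E → ↥(f.fiber (IsLocalRing.closedPoint R))}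
    {ends : E → V × V}
    (hΓ : DualGr.IsDualGraph (f.fiberToSpecResidueField (IsLocalRing.closedPoint R)) cv ce ends)

include hΓ in
/-- The dual graph of a split special fibre has labels. -/
theorem exists_labels [Flat f] [LocallyOfFinitePresentation f] [IsLocallyNoetherian X] {ϖ : R} (hϖ : Irreducible ϖ)
    (hsplit : ∀ y : ↥(f.fiber (IsLocalRing.closedPoint R)), IsClosed ({y} : Set ↥(f.fiber (IsLocalRing.closedPoint R))) →
        (∃ W : (f.fiber (IsLocalRing.closedPoint R)).Opens, y ∈ W ∧ Smooth (W.ι ≫ f.fiberToSpecResidueField (IsLocalRing.closedPoint R))) ∨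
        @Curv2.IsOrdDoublePt ((Spec (CommRingCat.of R)).residueField (IsLocalRing.closedPoint R)) _ ((f.fiber (IsLocalRing.closedPoint R)).presheaf.stalk y) _ (@Curv2.stalkAlgebra ((Spec (CommRingCat.of R)).residueField (IsLocalRing.closedPoint R)) _ (f.fiber (IsLocalRing.closedPoint R)) ⟨f.fiberToSpecResidueField (IsLocalRing.closedPoint R)⟩ y) _) :
    ∃ l : E → ℕ, DualGr.IsLabelledDualGraph R f cv ce ends (fun e => if l e = 0 then 0 else ϖ ^ l e) := by
  have hfin : (DualGr.nonsmoothPts (f.fiberToSpecResidueField (closedPoint R))).Finite := by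
    refine (Set.finite_range ce).subset ?_
    intro y hy
    obtain ⟨e, he⟩ := hΓ.pt_surjective y hy
    exact ⟨e, he⟩
  have h : ∀ e, ∃ l : ℕ, DualGr.IsThickNode (DualGr.stalkHom f (f.fiberι (closedPoint R) (ce e)))
      (if l = 0 then 0 else ϖ ^ l) := fun e => exists_thick f hϖ hsplit hfin (ce e) (hΓ.pt_mem e)
  choose l hl using h
  exact ⟨l, hΓ, hl⟩

end K794.Nodal
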