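import Groth.Agent.SemiFact.K794.LatGen
import Mathlib.RingTheory.Localization.BaseChange
import Mathlib.RingTheory.Flat.Basic

/-!
# Base change of an invertible `C[1/ϖ]`-module `L` to a `C`-algebra `B`

`LB C B K L = (B ⊗[C] K) ⊗[K] L`, `inc : L → LB C B K L`.
-/

set_option autoImplicit false
set_option linter.unusedSectionVars false

open TensorProduct

namespace K794.Base

open K794.Lat

section

variable {C B : Type*} [CommRing C] [CommRing B] [Algebra C B] {ϖ : C}
  {K : Type*} [CommRing K] [Algebra C K]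
  {L : Type*} [AddCommGroup L] [Module C L] [Module K L] [IsScalarTower C K L]

variable (B ϖ K) in
theorem isLocalization_tensor [IsLocalization.Away ϖ K] :
    IsLocalization.Away (algebraMap C B ϖ) (B ⊗[C] K) := by
  have h := IsLocalization.tensor (R := C) (S := B) (A := K) (Submonoid.powers ϖ)
  have e : Algebra.algebraMapSubmonoid B (Submonoid.powers ϖ) = Submonoid.powers (algebraMap C B ϖ) := by
    unfold Algebra.algebraMapSubmonoid
    rw [Submonoid.map_powers]
  rwa [e] at h

attribute [local instance] Algebra.TensorProduct.rightAlgebra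

variable (C B K L) in
/-- the base change of `L`. -/
abbrev LB : Type _ := (B ⊗[C] K) ⊗[K] L

/-- the inclusion of elements of `L`. -/
noncomputable def inc : L →ₗ[C] LB C B K L where
  toFun t := 1 ⊗ₜ t
  map_add' s t := tmul_add _ _ _
  map_smul' c t := by
    rw [RingHom.id_apply, ← algebraMap_smul K c t, tmul_smul, algebraMap_smul K c]

theorem inc_apply (t : L) : inc (C := C) (B := B) (K := K) t = (1 : B ⊗[C] K) ⊗ₜ[K] t := rfl

variable (C B K L) in
/-- comparison with `B ⊗[C] L`. -/
noncomputable def cmp : B ⊗[C] L ≃ₗ[B] LB C B K L :=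
  (Algebra.IsPushout.cancelBaseChange C B K (B ⊗[C] K) L).symm

theorem cmp_tmul (b : B) (t : L) : cmp C B K L (b ⊗ₜ t) = b • inc (B := B) (K := K) t := by
  unfold cmp
  rw [Algebra.IsPushout.cancelBaseChange_symm_tmul, inc_apply, smul_tmul', Algebra.algebraMap_eq_smul_one]

variable (B K) in
/-- the inclusion of `B ⊗ M` -/
noncomputable def jm (M : Submodule C L) : B ⊗[C] M →ₗ[B] LB C B K L :=
  (cmp C B K L).toLinearMap ∘ₗ M.subtype.baseChange B

theorem jm_injective [Module.Flat C B] (M : Submodule C L) : Function.Injective (jm B K M) := by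
  have h1 : Function.Injective (M.subtype.baseChange B) := by
    have := Module.Flat.lTensor_preserves_injective_linearMap (M := B) M.subtype M.injective_subtype
    exact this
  exact (cmp C B K L).injective.comp h1

theorem jm_tmul (M : Submodule C L) (b : B) (t : M) : jm B K M (b ⊗ₜ t) = b • inc (B := B) (K := K) (t : L) := by
  unfold jm
  rw [LinearMap.comp_apply, LinearMap.baseChange_tmul, LinearEquiv.coe_coe, cmp_tmul]
  rfl

/-- the elements of `B ⊗ L` have bounded denominators. -/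
theorem exists_pow_mem_range (M : Submodule C L) (hM : ∀ t : L, ∃ n : ℕ, ϖ ^ n • t ∈ M) (u : LB C B K L) :
    ∃ (n : ℕ) (w : B ⊗[C] M), (algebraMap C B ϖ) ^ n • u = jm B K M w := by
  obtain ⟨v, rfl⟩ := (cmp C B K L).surjective u
  induction v using TensorProduct.induction_on with
  | zero => exact ⟨0, 0, by simp⟩
  | tmul b t =>
    obtain ⟨n, hn⟩ := hM t
    refine ⟨n, b ⊗ₜ ⟨_, hn⟩, ?_⟩
    rw [jm_tmul, cmp_tmul, smul_comm, ← map_pow, algebraMap_smul, ← map_smul]
  | add v w hv hw =>
    obtain ⟨n, v', hv'⟩ := hv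
    obtain ⟨m, w', hw'⟩ := hw
    refine ⟨n + m, (algebraMap C B ϖ) ^ m • v' + (algebraMap C B ϖ) ^ n • w', ?_⟩
    rw [map_add, map_add, map_smul, map_smul, ← hv', ← hw', smul_add, smul_smul, smul_smul, ← pow_add,
      ← pow_add, add_comm m n]

theorem inc_smul (k : K) (t : L) : inc (C := C) (B := B) (K := K) (k • t) =
    ((1 : B) ⊗ₜ[C] k : B ⊗[C] K) • inc (C := C) (B := B) (K := K) t := by
  rw [inc_apply, inc_apply, tmul_smul, smul_tmul', smul_tmul', smul_eq_mul, mul_one]
  congr 1
  rw [Algebra.smul_def, mul_one]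
  rfl

theorem inc_zpow [IsLocalization.Away ϖ K] [IsLocalization.Away (algebraMap C B ϖ) (B ⊗[C] K)] (n : ℤ) (t : L) :
    inc (C := C) (B := B) (K := K) ((pu ϖ K) ^ n • t) =
      (pu (algebraMap C B ϖ) (B ⊗[C] K)) ^ n • inc (C := C) (B := B) (K := K) t := by
  let φ : K →* (B ⊗[C] K) := (Algebra.TensorProduct.includeRight (R := C) (A := B) (B := K)).toRingHom
  have h1 : Units.map φ (pu ϖ K) = pu (algebraMap C B ϖ) (B ⊗[C] K) := by
    ext
    rw [Units.coe_map, coe_pu, coe_pu]
    change (1 : B) ⊗ₜ[C] (algebraMap C K ϖ) = (algebraMap C B ϖ) ⊗ₜ[C] (1 : K)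
    rw [Algebra.algebraMap_eq_smul_one, Algebra.algebraMap_eq_smul_one, smul_tmul]
  rw [Units.smul_def, inc_smul, Units.smul_def, ← h1, ← map_zpow]
  rfl

theorem Gen.of_exists_le {B : Type*} [CommRing B] {π : B} {L : Type*} [AddCommGroup L] [Module B L]
    {P : Ideal B} [P.IsPrime] (hπ : π ∈ nonZeroDivisors B)
    {g g' : L} (hg' : Gen π P g') (h : ∀ u : L, ∃ n : ℕ, Le P g (π ^ n • u)) : Gen π P g := by
  refine ⟨h, fun c hc => ?_⟩
  obtain ⟨n, a, ha, b, hab⟩ := h g'
  obtain ⟨d, hd, hd'⟩ := hg'.torsion_free (c * a * π ^ n) (by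
    rw [mul_smul, mul_smul, hab, smul_comm, hc, smul_zero])
  refine ⟨d * a, mul_notMem hd ha, ?_⟩
  apply (mul_cancel_left_mem_nonZeroDivisors (pow_mem hπ n)).1
  rw [mul_zero]
  linear_combination hd'

/-- `inc` of a local generator. -/
theorem gen_inc [IsLocalization.Away ϖ K] [Module.Invertible K L]
    [IsLocalization.Away (algebraMap C B ϖ) (B ⊗[C] K)] {ι : Type*} [Finite ι] {P : ι → Ideal B}
    (S : Sys (algebraMap C B ϖ) P) (i : ι) {g : L}
    (hg : Gen ϖ ((P i).comap (algebraMap C B)) g) :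
    Gen (algebraMap C B ϖ) (P i) (inc (C := C) (B := B) (K := K) g) := by
  have hp := S.prime i
  obtain ⟨g', hg'⟩ := exists_gen S (K := B ⊗[C] K) (L := LB C B K L) i
  refine Gen.of_exists_le S.nzd hg' fun u => ?_
  obtain ⟨v, rfl⟩ := (cmp C B K L).surjective u
  induction v using TensorProduct.induction_on with
  | zero => exact ⟨0, by rw [map_zero, smul_zero]; exact Le.zero _⟩
  | tmul b t =>
    obtain ⟨n, a, ha, c, hac⟩ := hg.exists_le t
    refine ⟨n, algebraMap C B a, ha, b * algebraMap C B c, ?_⟩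
    have e : a • ϖ ^ n • inc (C := C) (B := B) (K := K) t = c • inc (C := C) (B := B) (K := K) g := by
      rw [← map_smul, ← map_smul, hac, map_smul]
    rw [cmp_tmul, smul_comm _ b, smul_comm _ b, mul_smul, ← map_pow, algebraMap_smul, algebraMap_smul,
      algebraMap_smul, e]
  | add v w hv hw =>
    obtain ⟨n, hn⟩ := hv
    obtain ⟨m, hm⟩ := hw
    refine ⟨n + m, ?_⟩
    rw [map_add, smul_add]
    exact (hn.pow_smul_of_le (Nat.le_add_right n m)).add (hm.pow_smul_of_le (Nat.le_add_left m n))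

theorem isGenerator_inc {s : L} (hs : IsGenerator ϖ s) :
    IsGenerator (algebraMap C B ϖ) (inc (C := C) (B := B) (K := K) s) := by
  intro u
  obtain ⟨v, rfl⟩ := (cmp C B K L).surjective u
  induction v using TensorProduct.induction_on with
  | zero => exact ⟨0, 0, by rw [map_zero, smul_zero, zero_smul]⟩
  | tmul b t =>
    obtain ⟨n, c, h⟩ := hs t
    refine ⟨n, b * algebraMap C B c, ?_⟩
    have e : ϖ ^ n • inc (C := C) (B := B) (K := K) t = c • inc (C := C) (B := B) (K := K) s := by
      rw [← map_smul, h, map_smul]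
    rw [cmp_tmul, smul_comm _ b, mul_smul, ← map_pow, algebraMap_smul, algebraMap_smul, e]
  | add v w hv hw =>
    obtain ⟨n, c, hc⟩ := hv
    obtain ⟨m, d, hd⟩ := hw
    refine ⟨n + m, (algebraMap C B ϖ) ^ m * c + (algebraMap C B ϖ) ^ n * d, ?_⟩
    rw [map_add, smul_add, add_smul, mul_smul, mul_smul, ← hc, ← hd, smul_smul, smul_smul, ← pow_add,
      ← pow_add, add_comm m n]

theorem eqv_inc {P : Ideal B} {g s : L} (h : Eqv (P.comap (algebraMap C B)) g s) :
    Eqv P (inc (C := C) (B := B) (K := K) g) (inc (C := C) (B := B) (K := K) s) := by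
  obtain ⟨a, ha, b, hb, hab⟩ := h
  refine ⟨algebraMap C B a, ha, algebraMap C B b, hb, ?_⟩
  rw [algebraMap_smul, algebraMap_smul, ← map_smul, hab, map_smul]

end

/-! ### Localization at a prime -/

section AtPrime

variable {A C : Type*} [CommRing A] [CommRing C] [Algebra A C] (p : Ideal A) [hp : p.IsPrime]
  [IsLocalization.AtPrime C p] {ϖ : A}
  {K : Type*} [CommRing K] [Algebra A K]
  {N : Type*} [AddCommGroup N] [Module A N] [Module K N] [IsScalarTower A K N]

attribute [local instance] Algebra.TensorProduct.rightAlgebra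

variable (C K N) in
theorem isLocalizedModule_inc : IsLocalizedModule p.primeCompl (inc (C := A) (B := C) (K := K) (L := N)) := by
  have h1 : IsLocalizedModule p.primeCompl (TensorProduct.mk A C N 1) :=
    (isLocalizedModule_iff_isBaseChange p.primeCompl C _).2 (TensorProduct.isBaseChange A N C)
  have h2 : inc (C := A) (B := C) (K := K) (L := N) =
      ((cmp A C K N).restrictScalars A).toLinearMap ∘ₗ TensorProduct.mk A C N 1 := by
    ext t
    change _ = cmp A C K N (1 ⊗ₜ t)
    rw [cmp_tmul, one_smul]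
  rw [h2]
  exact IsLocalizedModule.of_linearEquiv p.primeCompl (TensorProduct.mk A C N 1) _

theorem exists_smul_eq_inc (s : LB A C K N) : ∃ h, h ∉ p ∧ ∃ n : N, algebraMap A C h • s = inc n := by
  have := isLocalizedModule_inc (C := C) (K := K) (N := N) p
  obtain ⟨⟨n, h⟩, hn⟩ := IsLocalizedModule.surj p.primeCompl (inc (C := A) (B := C) (K := K) (L := N)) s
  refine ⟨h, h.2, n, ?_⟩
  rw [← hn, algebraMap_smul]
  rfl

theorem exists_of_inc_eq {t t' : N} (h : inc (C := A) (B := C) (K := K) t = inc t') :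
    ∃ c, c ∉ p ∧ c • t = c • t' := by
  have := isLocalizedModule_inc (C := C) (K := K) (N := N) p
  obtain ⟨c, hc⟩ := IsLocalizedModule.exists_of_eq (S := p.primeCompl) (f := inc (C := A) (B := C) (K := K) (L := N)) h
  exact ⟨c, c.2, hc⟩

variable (C) in
theorem exists_num (c : C) : ∃ s, s ∉ p ∧ ∃ a : A, algebraMap A C s * c = algebraMap A C a := by
  obtain ⟨⟨a, s⟩, hs⟩ := IsLocalization.surj p.primeCompl c
  exact ⟨s, s.2, a, by rw [mul_comm]; exact hs⟩

theorem isUnit_of_notMem {h : A} (hh : h ∉ p) : IsUnit (algebraMap A C h) :=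
  IsLocalization.map_units C (⟨h, hh⟩ : p.primeCompl)

/-- `Eqv` descends from the localization. -/
theorem eqv_of_inc {𝔮 : Ideal C} [h𝔮 : 𝔮.IsPrime] {q : Ideal A} (hq : 𝔮.comap (algebraMap A C) = q)
    (hqp : q ≤ p) {g t : N}
    (h : Eqv 𝔮 (inc (C := A) (B := C) (K := K) g) (inc (C := A) (B := C) (K := K) t)) : Eqv q g t := by
  have hqprime : q.IsPrime := by rw [← hq]; exact Ideal.comap_isPrime _ _
  have hmem : ∀ a, algebraMap A C a ∈ 𝔮 ↔ a ∈ q := fun a => by rw [← hq, Ideal.mem_comap]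
  obtain ⟨a, ha, b, hb, hab⟩ := h
  obtain ⟨s, hs, a', ha'⟩ := exists_num C p a
  obtain ⟨s', hs', b', hb'⟩ := exists_num C p b
  have hu := isUnit_of_notMem (C := C) p hs
  have hu' := isUnit_of_notMem (C := C) p hs'
  have ha'q : a' ∉ q := by
    rw [← hmem, ← ha']
    exact mul_notMem (fun h => hs (hqp ((hmem s).1 h))) ha
  have hb'q : b' ∉ q := by
    rw [← hmem, ← hb']
    exact mul_notMem (fun h => hs' (hqp ((hmem s').1 h))) hb
  have h1 : inc (C := A) (B := C) (K := K) ((s' * a') • t) = inc ((s * b') • g) := by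
    rw [map_smul, map_smul, ← algebraMap_smul C (s' * a'), ← algebraMap_smul C (s * b'), map_mul, map_mul,
      ← ha', ← hb']
    have e1 : algebraMap A C s' * (algebraMap A C s * a) = (algebraMap A C s * algebraMap A C s') * a := by ring
    have e2 : algebraMap A C s * (algebraMap A C s' * b) = (algebraMap A C s * algebraMap A C s') * b := by ring
    rw [e1, e2, mul_smul (algebraMap A C s * algebraMap A C s') a,
      mul_smul (algebraMap A C s * algebraMap A C s') b, hab]
  obtain ⟨c, hc, hc'⟩ := exists_of_inc_eq p h1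
  refine ⟨c * (s' * a'), mul_notMem (fun h => hc (hqp h)) (mul_notMem (fun h => hs' (hqp h)) ha'q),
    c * (s * b'), mul_notMem (fun h => hc (hqp h)) (mul_notMem (fun h => hs (hqp h)) hb'q), ?_⟩
  rw [mul_smul c (s' * a'), hc', mul_smul c (s * b')]

/-- `Gen` ascends to the localization. -/
theorem gen_inc_atPrime {𝔮 : Ideal C} [h𝔮 : 𝔮.IsPrime] {q : Ideal A} (hq : 𝔮.comap (algebraMap A C) = q)
    (hqp : q ≤ p) {g : N} (hg : Gen ϖ q g) :
    Gen (algebraMap A C ϖ) 𝔮 (inc (C := A) (B := C) (K := K) g) := by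
  have hqprime : q.IsPrime := by rw [← hq]; exact Ideal.comap_isPrime _ _
  have hmem : ∀ a, algebraMap A C a ∈ 𝔮 ↔ a ∈ q := fun a => by rw [← hq, Ideal.mem_comap]
  refine ⟨fun u => ?_, fun c hc => ?_⟩
  · obtain ⟨h, hh, n, hn⟩ := exists_smul_eq_inc p u
    obtain ⟨k, a, ha, b, hab⟩ := hg.exists_le n
    refine ⟨k, ?_⟩
    apply Le.of_smul (c := algebraMap A C h) (fun h' => hh (hqp ((hmem h).1 h')))
    rw [smul_comm, hn]
    refine ⟨algebraMap A C a, fun h' => ha ((hmem a).1 h'), algebraMap A C b, ?_⟩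
    rw [← map_pow, algebraMap_smul, algebraMap_smul, algebraMap_smul, ← map_smul, ← map_smul, hab, map_smul]
  · obtain ⟨s, hs, c', hc'⟩ := exists_num C p c
    have h1 : inc (C := A) (B := C) (K := K) (c' • g) = inc 0 := by
      rw [map_smul, ← algebraMap_smul C c', ← hc', mul_smul, hc, smul_zero, map_zero]
    obtain ⟨d, hd, hd'⟩ := exists_of_inc_eq p h1
    rw [smul_zero, smul_smul] at hd'
    obtain ⟨a, ha, ha'⟩ := hg.torsion_free _ hd'
    refine ⟨algebraMap A C (a * d), fun h => mul_notMem ha (fun h => hd (hqp h)) ((hmem _).1 h), ?_⟩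
    apply (isUnit_of_notMem (C := C) p hs).mul_left_cancel
    rw [mul_left_comm, hc', ← map_mul, mul_assoc, ha', map_zero, mul_zero]

/-- a generator of the localization, in terms of denominators. -/
theorem exists_of_isGenerator_inc {n : N}
    (h : IsGenerator (algebraMap A C ϖ) (inc (C := A) (B := C) (K := K) n)) (u : N) :
    ∃ h, h ∉ p ∧ ∃ (k : ℕ) (c : A), (h * ϖ ^ k) • u = c • n := by
  obtain ⟨k, c, hc⟩ := h (inc u)
  obtain ⟨s, hs, c', hc'⟩ := exists_num C p c
  have h1 : inc (C := A) (B := C) (K := K) ((s * ϖ ^ k) • u) = inc (c' • n) := by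
    rw [map_smul, map_smul, ← algebraMap_smul C (s * ϖ ^ k), ← algebraMap_smul C c', ← hc', map_mul, mul_smul,
      mul_smul, ← hc, map_pow]
  obtain ⟨d, hd, hd'⟩ := exists_of_inc_eq p h1
  refine ⟨d * s, mul_notMem hd hs, k, d * c', ?_⟩
  rw [mul_assoc, mul_smul, hd', mul_smul]

end AtPrime

end K794.Base
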