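import Groth.Agent.SemiFact.K794.LocPr

/-!
# Local generators from an extension of the invertible module
-/

set_option autoImplicit false
set_option linter.unusedSectionVars false
set_option linter.dupNamespace false
universe u v
open CategoryTheory CategoryTheory.Limits AlgebraicGeometry IsLocalRing TopologicalSpace Opposite
open Groth.Agent.Fdesc.LocGen
open scoped TensorProduct

namespace K794.Glob

attribute [local instance] algV modV

section Map

variable {X Z : Scheme.{u}} {i : Z ⟶ X} {L L' : Z.Modules} {z : X} {U U' : X.Opens}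
  {s : Γ(L, i ⁻¹ᵁ U)} {s' : Γ(L, i ⁻¹ᵁ U')}

theorem EqvAt.map (φ : L ⟶ L') (h : EqvAt i z s s') : EqvAt i z (φ.app (i ⁻¹ᵁ U) s) (φ.app (i ⁻¹ᵁ U') s') := by
  obtain ⟨T, h, h', hz, g, hg, hg'⟩ := h
  refine ⟨T, h, h', hz, g, hg, ?_⟩
  rw [← app_res, ← app_res, hg', Scheme.Modules.Hom.app_smul]

end Map

namespace Sit

variable {X Z : Scheme.{u}} {i : Z ⟶ X} {t : Γ(X, ⊤)} {ι : Type*} {ξ : ι → X} (H : Sit i t ξ)
  {L : Z.Modules} (hL : PicF.IsInvertible L) {U₀ : ι → X.Opens} {G : ∀ v, Γ(L, i ⁻¹ᵁ (U₀ v))}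

include hL in
/-- Two generators near `ξ v` differ by a power of `t`. -/
theorem exists_zpow_eqvAt [Finite ι] (v : ι) {U U' : X.Opens} {s : Γ(L, i ⁻¹ᵁ U)} {s' : Γ(L, i ⁻¹ᵁ U')}
    (hs : GenAt i (ξ v) s) (hs' : GenAt i (ξ v) s') : ∃ n : ℤ, EqvAt i (ξ v) ((H.tau U) ^ n • s) s' := by
  obtain ⟨V, hV, hv⟩ := exists_affine (ξ v)
  have haw := H.away hV
  have hinv := H.inv hL hV
  obtain ⟨m, hm⟩ := H.exists_eqvAt hL hV hv hs.mem s
  obtain ⟨m', hm'⟩ := H.exists_eqvAt hL hV hv hs'.mem s'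
  have g := H.gen_of_genAt hL hV hv m (hs.of_eqvAt hm)
  have g' := H.gen_of_genAt hL hV hv m' (hs'.of_eqvAt hm')
  obtain ⟨n, hn⟩ := K794.Lat.exists_zpow (H.sys hV) (K := Γ(Z, i ⁻¹ᵁ V)) ⟨v, hv⟩ g g'
  refine ⟨n, ?_⟩
  have h1 : EqvAt i (ξ v) ((H.tau V) ^ n • m) m' := by
    rw [H.eqvAt_iff hL hV hv, H.tau_eq_pu hV]
    exact hn
  exact ((H.eqvAt_tau hm n).trans h1).trans hm'.symm

include hL in
/-- **An extension of `L` gives compatible local generators.** -/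
theorem exists_pr [Finite ι] (hG : ∀ v, GenAt i (ξ v) (G v)) {M : X.Modules} (hM : PicF.IsInvertible M)
    (e : (Scheme.Modules.pullback i).obj M ≅ L) : ∃ φ : ι → ℤ, ∀ x, H.Pr G φ x := by
  choose W m hxW hm using (isInvertible_iff M).1 hM
  -- transport to `L`
  let m' : ∀ x, Γ(L, i ⁻¹ᵁ (W x)) := fun x => e.hom.app (i ⁻¹ᵁ (W x)) (pullSec i (m x))
  have hm' : ∀ x, IsGen (m' x) := fun x => ((hm x).pullSec i).app e.hom
  have hcmp : ∀ x y z, z ∈ W x → z ∈ W y → EqvAt i z (m' x) (m' y) := by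
    intro x y z hx hy
    have h1 : EqvAt i z (pullSec i (m x)) (pullSec i (m y)) := by
      obtain ⟨g, hg, hg'⟩ := ((hm x).res (inf_le_left : W x ⊓ W y ≤ W x)).exists_unit
        ((hm y).res (inf_le_right : W x ⊓ W y ≤ W y))
      refine ⟨W x ⊓ W y, inf_le_left, inf_le_right, ⟨hx, hy⟩, g, hg, ?_⟩
      have h2 := congrArg (pullSec i) hg'
      rw [pullSec_smul, ← res_pullSec, ← res_pullSec] at h2
      exact h2
    exact h1.map e.hom
  choose φ hφ using fun v => H.exists_zpow_eqvAt hL v (hG v) (GenAt.of_isGen (hxW (ξ v)) (hm' (ξ v)))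
  refine ⟨φ, fun x => ⟨W x, m' x, hxW x, hm' x, fun v hv => ?_⟩⟩
  exact (hφ v).trans (hcmp (ξ v) x (ξ v) (hxW (ξ v)) hv)

end Sit

end K794.Glob
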