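import Groth.Agent.SemiFact.K794.LocPr
import Groth.Agent.SemiFact.K794.NodeCpl
import Groth.Agent.SemiFact.K793.PushO
import Groth.Agent.SemiFact.K793.NodalFib
import Groth.Agent.VarietyA.RegSmoothSch
import Groth.Agent.Variety.K434.DimQF
import Groth.Agent.S0558
import Groth.Agent.S10831

/-!
# Nodal families over a discrete valuation ring: the situation `Sit`
-/

set_option autoImplicit false
set_option linter.unusedSectionVars false
universe u v
open CategoryTheory CategoryTheory.Limits AlgebraicGeometry IsLocalRing TopologicalSpace Opposite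
open Groth.Agent.Fdesc.LocGen

namespace K794.Nodal

open K794.Glob K793.Basic

variable {R : Type u} [CommRing R] [IsDomain R] [IsDiscreteValuationRing R]
    {X : Scheme.{u}} (f : X ⟶ Spec (CommRingCat.of R))
    {V E : Type v} [Fintype V] [Fintype E]
    {cv : V → Set ↥(f.fiber (IsLocalRing.closedPoint R))} {ce : E → ↥(f.fiber (IsLocalRing.closedPoint R))}
    {ends : E → V × V}
    (hΓ : DualGr.IsDualGraph (f.fiberToSpecResidueField (IsLocalRing.closedPoint R)) cv ce ends)

/-- the generic point of a component, in the fibre -/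
noncomputable def gp (v : V) : ↥(f.fiber (closedPoint R)) := (hΓ.comp_mem v).1.genericPoint

include hΓ in
theorem isClosed_cv (v : V) : IsClosed (cv v) := isClosed_of_mem_irreducibleComponents _ (hΓ.comp_mem v)

theorem closure_gp (v : V) : closure {gp f hΓ v} = cv v := by
  have h1 := (hΓ.comp_mem v).1.isGenericPoint_genericPoint_closure
  have h2 : closure {gp f hΓ v} = closure (cv v) := h1
  rw [h2, (isClosed_cv f hΓ v).closure_eq]

theorem gp_specializes (v : V) (z : ↥(f.fiber (closedPoint R))) : gp f hΓ v ⤳ z ↔ z ∈ cv v := by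
  rw [specializes_iff_mem_closure, closure_gp]

/-- the generic point of a component, in `X` -/
noncomputable def xi (v : V) : X := f.fiberι (closedPoint R) (gp f hΓ v)

theorem xi_specializes (v : V) (z : ↥(f.fiber (closedPoint R))) :
    xi f hΓ v ⤳ f.fiberι (closedPoint R) z ↔ z ∈ cv v := by
  rw [← gp_specializes f hΓ]
  exact (f.fiberι (closedPoint R)).isEmbedding.specializes_iff

/-- the global function defined by an element of `R` -/
noncomputable def gl (r : R) : Γ(X, ⊤) := Coh.toGlobal f r

theorem ts_gl (r : R) (x : X) : ts (gl f r) x = DualGr.stalkHom f x r := rfl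

theorem mem_basicOpen_iff {ϖ : R} (hϖ : Irreducible ϖ) (x : X) :
    x ∈ X.basicOpen (gl f ϖ) ↔ f x ≠ (closedPoint R : PrimeSpectrum R) := by
  unfold gl
  rw [basicOpen_toGlobal, Ne, eq_closedPoint_iff _ hϖ]
  rfl

theorem isOpenImmersion_fst : IsOpenImmersion (pullback.fst f (Neron.genPt R)) := by
  have hop : IsOpenImmersion (Neron.genPt R) :=
    Groth.Agent.Models.DVRGeneric.isOpenImmersion_generic R (FractionRing R)
  infer_instance

/-- The situation of a flat family with reduced special fibre. -/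
theorem sit [Flat f] [IsReduced (f.fiber (closedPoint R))] {ϖ : R} (hϖ : Irreducible ϖ) :
    Sit (pullback.fst f (Neron.genPt R)) (gl f ϖ) (xi f hΓ) where
  openImm := isOpenImmersion_fst f
  range := by
    have := isOpenImmersion_fst f
    apply le_antisymm
    · rintro _ ⟨y, rfl⟩
      change _ ∈ X.basicOpen (gl f ϖ)
      rw [mem_basicOpen_iff f hϖ]
      intro h
      have h1 : f (pullback.fst f (Neron.genPt R) y) = Neron.genPt R (pullback.snd f (Neron.genPt R) y) := by
        rw [← Scheme.Hom.comp_apply, ← Scheme.Hom.comp_apply, pullback.condition]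
      rw [h1] at h
      have h2 := (eq_closedPoint_iff _ hϖ).1 h
      have h3 : algebraMap R (FractionRing R) ϖ ∈ (pullback.snd f (Neron.genPt R) y).asIdeal := h2
      have h4 : IsUnit (algebraMap R (FractionRing R) ϖ) := by
        rw [isUnit_iff_ne_zero, Ne, IsFractionRing.to_map_eq_zero_iff]
        exact hϖ.ne_zero
      exact (pullback.snd f (Neron.genPt R) y).isPrime.ne_top (Ideal.eq_top_of_isUnit_mem _ h3 h4)
    · have h1 := K793.PushO.basicOpen_sec_le f ⊤ hϖ
      have h2 : sec f ⊤ ϖ = gl f ϖ := ores_refl (gl f ϖ)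
      rw [h2] at h1
      exact h1
  nzd := fun V a h => eq_zero_of_sec_mul f V hϖ.ne_zero h
  rad := fun V hV a n h => K793.PushO.mem_span_sec f hϖ ⟨V, hV⟩ a n h
  mem := by
    intro v
    rw [mem_basicOpen_iff f hϖ, not_not]
    exact Groth.Agent.CycB.FiberStalk.fiberι_mem f (closedPoint R) _
  exists_specializes := by
    intro z hz
    rw [mem_basicOpen_iff f hϖ, not_not] at hz
    obtain ⟨y, rfl⟩ := exists_fiber_point f z hz
    obtain ⟨v, hv⟩ := hΓ.comp_surjective _ (irreducibleComponent_mem_irreducibleComponents y)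
    refine ⟨v, (xi_specializes f hΓ v y).2 ?_⟩
    rw [hv]
    exact mem_irreducibleComponent
  incomp := by
    intro v w h
    have h1 : gp f hΓ w ∈ cv v := (xi_specializes f hΓ v _).1 h
    have h2 : cv w ⊆ cv v := by
      rw [← closure_gp f hΓ w]
      exact closure_minimal (Set.singleton_subset_iff.2 h1) (isClosed_cv f hΓ v)
    have h3 : cv v ⊆ cv w := (hΓ.comp_mem w).2 (hΓ.comp_mem v).1 h2
    exact hΓ.comp_injective (Set.Subset.antisymm h3 h2)

/-- a regular local ring of dimension at most one. -/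
theorem exists_of_regular (D : Type u) [CommRing D] [IsRegularLocalRing D] (h : ringKrullDim D ≤ 1) :
    IsDomain D ∧ ∃ y ∈ maximalIdeal D, maximalIdeal D = Ideal.span {y} := by
  refine ⟨Groth.Agent.S0558.result D, ?_⟩
  have h1 : (((maximalIdeal D).spanFinrank : ℕ) : WithBot ℕ∞) ≤ 1 := by
    rw [IsRegularLocalRing.spanFinrank_maximalIdeal]
    exact h
  have h2 : (maximalIdeal D).spanFinrank ≤ 1 := by exact_mod_cast h1
  have hfg : (maximalIdeal D).FG := IsNoetherian.noetherian _
  rcases Nat.le_one_iff_eq_zero_or_eq_one.1 h2 with h3 | h3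
  · rw [Submodule.spanFinrank_eq_zero_iff_eq_bot hfg] at h3
    exact ⟨0, Ideal.zero_mem _, by rw [h3]; simp⟩
  · obtain ⟨⟨⟨y, hy⟩⟩, -⟩ := (Submodule.spanFinrank_eq_one_iff _).1 h3
    have hy' : maximalIdeal D = Ideal.span {y} := hy
    exact ⟨y, hy' ▸ Ideal.mem_span_singleton_self y, hy'⟩

/-- At a smooth point of the special fibre. -/
theorem smooth_point (hf : Curv2.IsNodalFamily f) {ϖ : R} (hϖ : Irreducible ϖ)
    (y : ↥(f.fiber (closedPoint R))) (hy : y ∉ DualGr.nonsmoothPts (f.fiberToSpecResidueField (closedPoint R))) :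
    (Ideal.span {DualGr.stalkHom f (f.fiberι (closedPoint R) y) ϖ}).IsPrime ∧
      ∃ z ∈ maximalIdeal (X.presheaf.stalk (f.fiberι (closedPoint R) y)),
        maximalIdeal (X.presheaf.stalk (f.fiberι (closedPoint R) y)) ≤
          Ideal.span {z} ⊔ Ideal.span {DualGr.stalkHom f (f.fiberι (closedPoint R) y) ϖ} := by
  obtain ⟨hflat, hlfp, hnod⟩ := hf
  obtain ⟨hdim, -⟩ := hnod (closedPoint R)
  have hlfp' : LocallyOfFinitePresentation (f.fiberToSpecResidueField (closedPoint R)) :=
    MorphismProperty.pullback_snd _ _ inferInstance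
  have hsm : y ∈ (f.fiberToSpecResidueField (closedPoint R)).smoothLocus := by
    rw [Scheme.Hom.mem_smoothLocus]
    by_contra h
    exact hy h
  have hreg : IsRegularLocalRing ((f.fiber (closedPoint R)).presheaf.stalk y) :=
    Groth.Agent.VarietyA.RegSmoothSch.isRegularLocalRing_stalk_of_mem_smoothLocus
      (k := (Spec (CommRingCat.of R)).residueField (closedPoint R)) (f.fiberToSpecResidueField (closedPoint R)) y hsm
  have hd : ringKrullDim ((f.fiber (closedPoint R)).presheaf.stalk y) ≤ 1 := by
    have h1 : topologicalKrullDim ↥(f.fiber (closedPoint R)) ≤ 1 := by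
      rw [Groth.Agent.S10831.result]
      exact iSup₂_le fun Z hZ => (hdim Z hZ).le
    refine le_trans ?_ h1
    rw [K434.DimQF.topologicalKrullDim_eq_iSup_stalk]
    exact le_iSup (fun y : ↥(f.fiber (closedPoint R)) => ringKrullDim ((f.fiber (closedPoint R)).presheaf.stalk y)) y
  obtain ⟨hdom, z, hz, hm⟩ := exists_of_regular _ hd
  let e := fibEquiv f (f.fiberι (closedPoint R) y) hϖ y rfl
  have hdom' : IsDomain (X.presheaf.stalk (f.fiberι (closedPoint R) y) ⧸
      Ideal.span {DualGr.stalkHom f (f.fiberι (closedPoint R) y) ϖ}) := e.toMulEquiv.isDomain _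
  refine ⟨(Ideal.Quotient.isDomain_iff_prime _).1 hdom', ?_⟩
  obtain ⟨z', hz'⟩ := Ideal.Quotient.mk_surjective (e.symm z)
  have hloc : IsLocalHom (e.toRingHom.comp (Ideal.Quotient.mk
      (Ideal.span {DualGr.stalkHom f (f.fiberι (closedPoint R) y) ϖ}))) := by
    have hsurj : Function.Surjective (e.toRingHom.comp (Ideal.Quotient.mk
      (Ideal.span {DualGr.stalkHom f (f.fiberι (closedPoint R) y) ϖ}))) :=
      e.surjective.comp Ideal.Quotient.mk_surjective
    exact Function.Surjective.isLocalHom _ hsurj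
  have hmem : ∀ c, c ∈ maximalIdeal (X.presheaf.stalk (f.fiberι (closedPoint R) y)) ↔
      e (Ideal.Quotient.mk _ c) ∈ maximalIdeal ((f.fiber (closedPoint R)).presheaf.stalk y) := by
    intro c
    rw [mem_maximalIdeal, mem_maximalIdeal, mem_nonunits_iff, mem_nonunits_iff, not_iff_not]
    exact (isUnit_map_iff (e.toRingHom.comp (Ideal.Quotient.mk
      (Ideal.span {DualGr.stalkHom f (f.fiberι (closedPoint R) y) ϖ}))) c).symm
  refine ⟨z', (hmem z').2 (by rw [hz', e.apply_symm_apply]; exact hz), ?_⟩
  intro c hc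
  have h1 := (hmem c).1 hc
  rw [hm, Ideal.mem_span_singleton'] at h1
  obtain ⟨d, hd⟩ := h1
  obtain ⟨d', hd'⟩ := Ideal.Quotient.mk_surjective (e.symm d)
  have h2 : (Ideal.Quotient.mk (Ideal.span {DualGr.stalkHom f (f.fiberι (closedPoint R) y) ϖ})) (c - d' * z') = 0 := by
    apply e.injective
    rw [map_sub, map_mul, map_sub, map_mul, hd', hz', e.apply_symm_apply, e.apply_symm_apply, hd, sub_self,
      map_zero]
  rw [Ideal.Quotient.eq_zero_iff_mem] at h2
  have : c = d' * z' + (c - d' * z') := by ring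
  rw [this]
  exact Submodule.add_mem_sup (Ideal.mul_mem_left _ _ (Ideal.mem_span_singleton_self z')) h2

end K794.Nodal
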