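import Groth.Agent.SemiFact.K794.DeformAlg
import Groth.Agent.SemiFact.K794.Nodal
import Groth.Agent.CurvesB.EtaleCompl
import Groth.Agent.CurvesB.OdpSemilinear
import Groth.Agent.Ega4A.CplQuot

/-!
# A split ordinary double point of the special fibre of a flat scheme over a discrete valuation ring
# is a thick node
-/

set_option autoImplicit false
set_option linter.unusedSectionVars false
universe u v
open CategoryTheory CategoryTheory.Limits AlgebraicGeometry IsLocalRing

namespace K794.Deform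

open K793.Basic

/-- **Deformation lemma, local form.** -/
theorem exists_isThickNode {R C k : Type u} [CommRing R] [IsDomain R] [IsDiscreteValuationRing R] {ϖ : R}
    (hϖ : Irreducible ϖ) [CommRing C] [IsLocalRing C] [IsNoetherianRing C] (φ : R →+* C)
    (hφ : φ ϖ ∈ maximalIdeal C) (hnzd : φ ϖ ∈ nonZeroDivisors C) [Field k]
    [IsLocalRing (C ⧸ Ideal.span {φ ϖ})] [Algebra k (C ⧸ Ideal.span {φ ϖ})]
    (h : Curv2.IsOrdDoublePt k (C ⧸ Ideal.span {φ ϖ}))
    (hk : ∀ c : k, ∃ r : R, algebraMap k (C ⧸ Ideal.span {φ ϖ}) c = Ideal.Quotient.mk _ (φ r)) :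
    ∃ l : ℕ, DualGr.IsThickNode φ (if l = 0 then 0 else ϖ ^ l) := by
  obtain ⟨e₀, he₀⟩ := h
  have hloc : maximalIdeal R ≤ (maximalIdeal C).comap φ := by
    rw [hϖ.maximalIdeal_eq, Ideal.span_singleton_le_iff_mem]
    exact hφ
  let ψ : Curv2.cpl R →+* Curv2.cpl C :=
    Groth.Agent.CurvesB.EtaleCompl.complMap φ (maximalIdeal R) (maximalIdeal C) hloc
  have hψ : ∀ r, ψ (algebraMap R (Curv2.cpl R) r) = algebraMap C (Curv2.cpl C) (φ r) := fun r =>
    Groth.Agent.CurvesB.EtaleCompl.complMap_algebraMap φ _ _ hloc r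
  have hNR : IsNoetherianRing (Curv2.cpl R) := Groth.Agent.Ega4A.CplQuot.isNoetherianRing_cpl R
  have hNC : IsNoetherianRing (Curv2.cpl C) := Groth.Agent.Ega4A.CplQuot.isNoetherianRing_cpl C
  have hff : Module.FaithfullyFlat C (Curv2.cpl C) := Groth.Agent.Ega4A.CplQuot.faithfullyFlat_cpl C
  have hmC : (maximalIdeal C).map (algebraMap C (Curv2.cpl C)) = maximalIdeal (Curv2.cpl C) :=
    AdicCompletion.maximalIdeal_eq_map.symm
  have hmR := K794.NodeCpl.maximalIdeal_cpl hϖ
  have h1 : ψ (algebraMap R (Curv2.cpl R) ϖ) ∈ maximalIdeal (Curv2.cpl C) := by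
    rw [hψ, ← hmC]
    exact Ideal.mem_map_of_mem _ hφ
  have h2 : ψ (algebraMap R (Curv2.cpl R) ϖ) ∈ nonZeroDivisors (Curv2.cpl C) := by
    rw [hψ]
    have h3 : IsSMulRegular C (φ ϖ) := by
      rw [isSMulRegular_iff_right_eq_zero_of_smul]
      intro c hc
      exact (mul_left_mem_nonZeroDivisors_eq_zero_iff hnzd).1 hc
    have h4 : IsSMulRegular (Curv2.cpl C) (algebraMap C (Curv2.cpl C) (φ ϖ)) := h3.of_flat
    rw [mem_nonZeroDivisors_iff_right]
    intro c hc
    rw [isSMulRegular_iff_right_eq_zero_of_smul] at h4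
    exact h4 c (by rw [smul_eq_mul, mul_comm]; exact hc)
  have hspan : (Ideal.span {φ ϖ}).map (algebraMap C (Curv2.cpl C)) =
      Ideal.span {ψ (algebraMap R (Curv2.cpl R) ϖ)} := by
    rw [Ideal.map_span, Set.image_singleton, hψ]
  let e₁ : Curv2.cpl (C ⧸ Ideal.span {φ ϖ}) ≃+* Curv2.cpl C ⧸ (Ideal.span {φ ϖ}).map (algebraMap C (Curv2.cpl C)) :=
    Groth.Agent.Ega4A.CplQuot.equivQuot C (Ideal.span {φ ϖ})
  have he₁ : ∀ c : C, e₁ (algebraMap (C ⧸ Ideal.span {φ ϖ}) (Curv2.cpl (C ⧸ Ideal.span {φ ϖ})) (Ideal.Quotient.mk _ c)) =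
      Ideal.Quotient.mk _ (algebraMap C (Curv2.cpl C) c) := fun c =>
    Groth.Agent.Ega4A.CplQuot.equivQuot_algebraMap C (Ideal.span {φ ϖ}) (Ideal.Quotient.mk _ c)
  let e : (Curv2.cpl C ⧸ Ideal.span {ψ (algebraMap R (Curv2.cpl R) ϖ)}) ≃+*
    (MvPowerSeries (Fin 2) k ⧸ Ideal.span {(MvPowerSeries.X 0 * MvPowerSeries.X 1 : MvPowerSeries (Fin 2) k)}) :=
    ((Ideal.quotEquivOfEq hspan).symm.trans e₁.symm).trans e₀
  have he : ∀ c : k, ∃ r : Curv2.cpl R, e (Ideal.Quotient.mk _ (ψ r)) = Ideal.Quotient.mk _ (MvPowerSeries.C c) := by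
    intro c
    obtain ⟨r, hr⟩ := hk c
    refine ⟨algebraMap R (Curv2.cpl R) r, ?_⟩
    have h5 : e (Ideal.Quotient.mk _ (ψ (algebraMap R (Curv2.cpl R) r))) =
        e₀ (e₁.symm (Ideal.Quotient.mk _ (algebraMap C (Curv2.cpl C) (φ r)))) := by
      rw [← hψ r]
      rfl
    rw [h5, ← he₁, e₁.symm_apply_apply, ← hr, he₀]
  obtain ⟨l, E, hE⟩ := exists_iso h1 e he hmR h2
  have ha : (if l = 0 then 0 else (algebraMap R (Curv2.cpl R) ϖ) ^ l) =
      algebraMap R (Curv2.cpl R) (if l = 0 then 0 else ϖ ^ l) := by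
    split_ifs with hl
    · rw [map_zero]
    · rw [map_pow]
  have hI : Ideal.span {(MvPowerSeries.X 0 * MvPowerSeries.X 1 -
      MvPowerSeries.C (if l = 0 then 0 else (algebraMap R (Curv2.cpl R) ϖ) ^ l) : MvPowerSeries (Fin 2) (Curv2.cpl R))} =
      Ideal.span {(MvPowerSeries.X 0 * MvPowerSeries.X 1 -
      MvPowerSeries.C (algebraMap R (Curv2.cpl R) (if l = 0 then 0 else ϖ ^ l)) : MvPowerSeries (Fin 2) (Curv2.cpl R))} := by
    rw [ha]
  refine ⟨l, E.trans (Ideal.quotEquivOfEq hI), fun r => ?_⟩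
  rw [← hψ]
  change Ideal.quotEquivOfEq hI (E (ψ (algebraMap R (Curv2.cpl R) r))) = _
  rw [hE, Ideal.quotEquivOfEq_mk]

/-- the local rings of a commutative square over affine schemes. -/
theorem stalkMap_stalkHom {A B : Type u} [CommRing A] [CommRing B] {Y X : Scheme.{u}} (j : Y ⟶ X)
    (f : X ⟶ Spec (CommRingCat.of A)) (p : Y ⟶ Spec (CommRingCat.of B)) (g : CommRingCat.of A ⟶ CommRingCat.of B)
    (h : j ≫ f = p ≫ Spec.map g) (y : Y) (a : A) :
    (j.stalkMap y).hom (DualGr.stalkHom f (j y) a) = DualGr.stalkHom p y (g.hom a) := by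
  have h1 : (j.stalkMap y).hom (DualGr.stalkHom f (j y) a) = DualGr.stalkHom (j ≫ f) y a := by
    have := Scheme.Hom.germ_stalkMap_apply j ⊤ y trivial (show Γ(X, ⊤) from Coh.toGlobal f a)
    exact this
  rw [h1, h]
  have h2 : Coh.toGlobal (p ≫ Spec.map g) a = Coh.toGlobal p (g.hom a) := by
    change (p ≫ Spec.map g).appTop.hom ((Scheme.ΓSpecIso (CommRingCat.of A)).inv.hom a) =
      p.appTop.hom ((Scheme.ΓSpecIso (CommRingCat.of B)).inv.hom (g.hom a))
    rw [Scheme.Hom.comp_appTop, CommRingCat.comp_apply]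
    congr 1
    have := Scheme.ΓSpecIso_inv_naturality g
    exact (congrArg (fun φ => φ.hom a) this).symm
  change Y.presheaf.germ ⊤ y trivial _ = Y.presheaf.germ ⊤ y trivial _
  exact congrArg _ h2

/-- **Deformation lemma.** -/
theorem exists_thick {R : Type u} [CommRing R] [IsDomain R] [IsDiscreteValuationRing R] {ϖ : R}
    (hϖ : Irreducible ϖ) {X : Scheme.{u}} (f : X ⟶ Spec (CommRingCat.of R)) [Flat f] [IsLocallyNoetherian X]
    (y : ↥(f.fiber (closedPoint R)))
    (h : @Curv2.IsOrdDoublePt ((Spec (CommRingCat.of R)).residueField (IsLocalRing.closedPoint R)) _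
      ((f.fiber (IsLocalRing.closedPoint R)).presheaf.stalk y) _
      (@Curv2.stalkAlgebra ((Spec (CommRingCat.of R)).residueField (IsLocalRing.closedPoint R)) _
        (f.fiber (IsLocalRing.closedPoint R)) ⟨f.fiberToSpecResidueField (IsLocalRing.closedPoint R)⟩ y) _) :
    ∃ l : ℕ, DualGr.IsThickNode (DualGr.stalkHom f (f.fiberι (closedPoint R) y)) (if l = 0 then 0 else ϖ ^ l) := by
  set x := f.fiberι (closedPoint R) y with hx
  have hfx : f x = (closedPoint R : PrimeSpectrum R) :=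
    Groth.Agent.CycB.FiberStalk.fiberι_mem f (closedPoint R) _
  have hmem : DualGr.stalkHom f x ϖ ∈ maximalIdeal (X.presheaf.stalk x) := by
    rw [mem_maximalIdeal, mem_nonunits_iff, isUnit_stalkHom_iff_ne f x hϖ, not_not]
    exact hfx
  let s : Spec (CommRingCat.of R) := closedPoint R
  let k := (Spec (CommRingCat.of R)).residueField s
  let D := (f.fiber (closedPoint R)).presheaf.stalk y
  let _ : Algebra k D := @Curv2.stalkAlgebra ((Spec (CommRingCat.of R)).residueField (IsLocalRing.closedPoint R)) _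
        (f.fiber (IsLocalRing.closedPoint R)) ⟨f.fiberToSpecResidueField (IsLocalRing.closedPoint R)⟩ y
  have hD : Curv2.IsOrdDoublePt k D := h
  let e := fibEquiv f x hϖ y rfl
  have hloc : IsLocalRing (X.presheaf.stalk x ⧸ Ideal.span {DualGr.stalkHom f x ϖ}) := e.symm.isLocalRing
  let _ : Algebra k (X.presheaf.stalk x ⧸ Ideal.span {DualGr.stalkHom f x ϖ}) :=
    ((e.symm : _ →+* _).comp (algebraMap k D)).toAlgebra
  have h2 : Curv2.IsOrdDoublePt k (X.presheaf.stalk x ⧸ Ideal.span {DualGr.stalkHom f x ϖ}) :=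
    Groth.Agent.CurvesB.OdpSemilinear.isOrdDoublePt_of_semilinear (RingEquiv.refl k) e.symm (fun c => rfl) hD
  refine exists_isThickNode hϖ (DualGr.stalkHom f x) hmem (stalkHom_mem_nonZeroDivisors f x hϖ.ne_zero) h2 ?_
  -- the residue map
  let g : CommRingCat.of R ⟶ CommRingCat.of k := Spec.preimage ((Spec (CommRingCat.of R)).fromSpecResidueField s)
  have hg : Spec.map g = (Spec (CommRingCat.of R)).fromSpecResidueField s := Spec.map_preimage _
  have hgs : Function.Surjective g.hom := by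
    have h3 : IsClosedImmersion (Spec.map g) := by
      rw [hg, ← isClosed_singleton_iff_isClosedImmersion]
      exact IsLocalRing.isClosed_singleton_closedPoint R
    have h4 := ((IsClosedImmersion.isAffine_surjective_of_isAffine (Spec.map g)).2 : Function.Surjective (Spec.map g).appTop)
    have h5 := Scheme.ΓSpecIso_inv_naturality g
    intro c
    obtain ⟨b, hb⟩ := h4 ((Scheme.ΓSpecIso (CommRingCat.of k)).inv.hom c)
    obtain ⟨a, rfl⟩ := (ConcreteCategory.bijective_of_isIso (Scheme.ΓSpecIso (CommRingCat.of R)).inv).2 b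
    refine ⟨a, ?_⟩
    apply (ConcreteCategory.bijective_of_isIso (Scheme.ΓSpecIso (CommRingCat.of k)).inv).1
    have h6 := congrArg (fun φ => φ.hom a) h5
    exact h6.trans hb
  have hsq : f.fiberι (closedPoint R) ≫ f = f.fiberToSpecResidueField (closedPoint R) ≫ Spec.map g := by
    rw [hg]
    exact f.fiber_fac _
  intro c
  obtain ⟨r, hr⟩ := hgs c
  refine ⟨r, ?_⟩
  apply e.injective
  have h3 : e (Ideal.Quotient.mk _ (DualGr.stalkHom f x r)) =
      ((f.fiberι (closedPoint R)).stalkMap y).hom (DualGr.stalkHom f x r) := rfl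
  have h4 := stalkMap_stalkHom (f.fiberι (closedPoint R)) f (f.fiberToSpecResidueField (closedPoint R)) g hsq y r
  refine Eq.trans ?_ (h3.trans h4).symm
  change e (e.symm (algebraMap k D c)) = _
  rw [e.apply_symm_apply]
  exact (congrArg (fun c => DualGr.stalkHom (f.fiberToSpecResidueField (closedPoint R)) y c) hr).symm

end K794.Deform
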