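import Groth.Agent.Ega4B.PSEval
import Groth.Agent.CalgB.PowSer
import Groth.Agent.CAlg.K71.PowSubst
import Mathlib.RingTheory.Nakayama
import Mathlib.RingTheory.MvPowerSeries.Inverse

/-!
# Deformations of a split node over a complete discrete valuation ring
-/

set_option autoImplicit false
set_option linter.unusedSectionVars false

open IsLocalRing

namespace K794.Deform

/-- a power series in two variables is its constant term plus a combination of the variables. -/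
theorem exists_decomp {Λ : Type*} [CommRing Λ] (F : MvPowerSeries (Fin 2) Λ) :
    ∃ A B : MvPowerSeries (Fin 2) Λ, F = MvPowerSeries.C (MvPowerSeries.constantCoeff F) +
      MvPowerSeries.X 0 * A + MvPowerSeries.X 1 * B := by
  classical
  let F₁ : MvPowerSeries (Fin 2) Λ := fun m => if m 0 = 0 then MvPowerSeries.coeff m F else 0
  have hF₁ : ∀ m, MvPowerSeries.coeff m F₁ = if m 0 = 0 then MvPowerSeries.coeff m F else 0 := fun _ => rfl
  have h1 : MvPowerSeries.X 0 ∣ F - F₁ := by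
    rw [MvPowerSeries.X_dvd_iff]
    intro m hm
    rw [map_sub, hF₁, if_pos hm, sub_self]
  have h2 : MvPowerSeries.X 1 ∣ F₁ - MvPowerSeries.C (MvPowerSeries.constantCoeff F) := by
    rw [MvPowerSeries.X_dvd_iff]
    intro m hm
    rw [map_sub, hF₁, MvPowerSeries.coeff_C]
    by_cases h : m 0 = 0
    · have hm0 : m = 0 := by
        ext k
        fin_cases k
        · exact h
        · exact hm
      rw [if_pos h, if_pos hm0, hm0]
      exact sub_self _
    · have hm0 : m ≠ 0 := by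
        rintro rfl
        exact h rfl
      rw [if_neg h, if_neg hm0, sub_self]
  obtain ⟨A, hA⟩ := h1
  obtain ⟨B, hB⟩ := h2
  refine ⟨A, B, ?_⟩
  rw [← hA, add_assoc, ← hB]
  ring

/-- divisibility of a power series by a constant. -/
theorem C_dvd {Λ : Type*} [CommRing Λ] {c : Λ} {F : MvPowerSeries (Fin 2) Λ}
    (h : ∀ m, c ∣ MvPowerSeries.coeff m F) : MvPowerSeries.C c ∣ F := by
  choose d hd using h
  refine ⟨fun m => d m, ?_⟩
  ext m
  rw [MvPowerSeries.coeff_C_mul]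
  exact hd m

section

variable {Λ T : Type*} [CommRing Λ] [CommRing T] [IsLocalRing Λ] [IsLocalRing T] [IsNoetherianRing Λ]
  [IsNoetherianRing T] [IsAdicComplete (maximalIdeal Λ) Λ] [IsAdicComplete (maximalIdeal T) T]
  (ψ : Λ →+* T) (ϖ : Λ)

/-- `x, y, ϖ` generate the maximal ideal. -/
structure Good (x y : T) : Prop where
  hx : x ∈ maximalIdeal T
  hy : y ∈ maximalIdeal T
  hm : maximalIdeal T ≤ Ideal.span {x, y, ψ ϖ}

variable {ψ ϖ} {x y : T} (hxy : Good ψ ϖ x y) (hψ : ψ ϖ ∈ maximalIdeal T)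
  (hres : ∀ t : T, ∃ r : Λ, t - ψ r ∈ maximalIdeal T)

theorem Good.vec (hxy : Good ψ ϖ x y) : ∀ i : Fin 2, (![x, y] : Fin 2 → T) i ∈ maximalIdeal T := by
  intro i
  fin_cases i
  · exact hxy.hx
  · exact hxy.hy

/-- evaluation at `x, y`. -/
noncomputable def Good.ev (hxy : Good ψ ϖ x y) : MvPowerSeries (Fin 2) Λ →+* T :=
  Groth.Agent.Ega4B.PSEval.evalHom (maximalIdeal T) ψ ![x, y] hxy.vec

theorem Good.ev_X0 : hxy.ev (MvPowerSeries.X 0) = x :=
  Groth.Agent.Ega4B.PSEval.evalHom_X (maximalIdeal T) ψ ![x, y] hxy.vec 0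

theorem Good.ev_X1 : hxy.ev (MvPowerSeries.X 1) = y :=
  Groth.Agent.Ega4B.PSEval.evalHom_X (maximalIdeal T) ψ ![x, y] hxy.vec 1

theorem Good.ev_C (c : Λ) : hxy.ev (MvPowerSeries.C c) = ψ c :=
  Groth.Agent.Ega4B.PSEval.evalHom_C (maximalIdeal T) ψ ![x, y] hxy.vec c

theorem mem_maximalIdeal_iff (F : MvPowerSeries (Fin 2) Λ) :
    F ∈ maximalIdeal (MvPowerSeries (Fin 2) Λ) ↔ MvPowerSeries.constantCoeff F ∈ maximalIdeal Λ := by
  rw [mem_maximalIdeal, mem_maximalIdeal, mem_nonunits_iff, mem_nonunits_iff, MvPowerSeries.isUnit_iff_constantCoeff]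

include hψ hres in
theorem Good.ev_surjective (hxy : Good ψ ϖ x y) (hϖ : maximalIdeal Λ = Ideal.span {ϖ}) : Function.Surjective hxy.ev := by
  have hac := Groth.Agent.CalgB.PowSer.isAdicComplete_mvPowerSeries (A := Λ) 2
  have hmap : (maximalIdeal (MvPowerSeries (Fin 2) Λ)).map hxy.ev = maximalIdeal T := by
    apply le_antisymm
    · rw [Ideal.map_le_iff_le_comap]
      intro F hF
      rw [mem_maximalIdeal_iff, hϖ, Ideal.mem_span_singleton'] at hF
      obtain ⟨c, hc⟩ := hF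
      obtain ⟨A, B, hAB⟩ := exists_decomp F
      rw [Ideal.mem_comap, hAB, map_add, map_add, map_mul, map_mul, hxy.ev_X0, hxy.ev_X1, hxy.ev_C, ← hc, map_mul]
      exact Ideal.add_mem _ (Ideal.add_mem _ (Ideal.mul_mem_left _ _ hψ) (Ideal.mul_mem_right _ _ hxy.hx))
        (Ideal.mul_mem_right _ _ hxy.hy)
    · have m1 : x ∈ (maximalIdeal (MvPowerSeries (Fin 2) Λ)).map hxy.ev := by
        have := Ideal.mem_map_of_mem hxy.ev ((mem_maximalIdeal_iff (MvPowerSeries.X 0 : MvPowerSeries (Fin 2) Λ)).2 (by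
          rw [MvPowerSeries.constantCoeff_X]; exact Ideal.zero_mem _))
        rwa [hxy.ev_X0] at this
      have m2 : y ∈ (maximalIdeal (MvPowerSeries (Fin 2) Λ)).map hxy.ev := by
        have := Ideal.mem_map_of_mem hxy.ev ((mem_maximalIdeal_iff (MvPowerSeries.X 1 : MvPowerSeries (Fin 2) Λ)).2 (by
          rw [MvPowerSeries.constantCoeff_X]; exact Ideal.zero_mem _))
        rwa [hxy.ev_X1] at this
      have m3 : ψ ϖ ∈ (maximalIdeal (MvPowerSeries (Fin 2) Λ)).map hxy.ev := by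
        have := Ideal.mem_map_of_mem hxy.ev ((mem_maximalIdeal_iff (MvPowerSeries.C ϖ : MvPowerSeries (Fin 2) Λ)).2 (by
          rw [MvPowerSeries.constantCoeff_C, hϖ]; exact Ideal.mem_span_singleton_self _))
        rwa [hxy.ev_C] at this
      refine hxy.hm.trans ?_
      rw [Ideal.span_le]
      rintro z (h | h | h)
      · rw [h]; exact m1
      · rw [h]; exact m2
      · rw [h]; exact m3
  have hH : IsHausdorff ((maximalIdeal (MvPowerSeries (Fin 2) Λ)).map hxy.ev) T := by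
    rw [hmap]; infer_instance
  apply surjective_of_mk_map_comp_surjective (I := maximalIdeal (MvPowerSeries (Fin 2) Λ)) hxy.ev
  intro t
  obtain ⟨t, rfl⟩ := Ideal.Quotient.mk_surjective t
  obtain ⟨r, hr⟩ := hres t
  refine ⟨MvPowerSeries.C r, ?_⟩
  rw [RingHom.comp_apply, hxy.ev_C, eq_comm, Ideal.Quotient.eq, hmap]
  exact hr

include hψ hres in
theorem Good.exists_decomp (hxy : Good ψ ϖ x y) (hϖ : maximalIdeal Λ = Ideal.span {ϖ}) (t : T) :
    ∃ (r : Λ) (α β : T), t = ψ r + x * α + y * β := by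
  obtain ⟨F, rfl⟩ := hxy.ev_surjective hψ hres hϖ t
  obtain ⟨A, B, hAB⟩ := K794.Deform.exists_decomp F
  refine ⟨MvPowerSeries.constantCoeff F, hxy.ev A, hxy.ev B, ?_⟩
  conv_lhs => rw [hAB, map_add, map_add, map_mul, map_mul, hxy.ev_X0, hxy.ev_X1, hxy.ev_C]

theorem Good.change (hxy : Good ψ ϖ x y) (hψ : ψ ϖ ∈ maximalIdeal T) {x' y' : T} (u v : T)
    (hx : x' = x + ψ ϖ * u) (hy : y' = y + ψ ϖ * v) : Good ψ ϖ x' y' := by
  subst hx hy
  refine ⟨Ideal.add_mem _ hxy.hx (Ideal.mul_mem_right _ _ hψ), Ideal.add_mem _ hxy.hy (Ideal.mul_mem_right _ _ hψ),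
    hxy.hm.trans ?_⟩
  rw [Ideal.span_le]
  have h3 : ψ ϖ ∈ Ideal.span {x + ψ ϖ * u, y + ψ ϖ * v, ψ ϖ} := Ideal.subset_span (by simp)
  rintro z (rfl | rfl | rfl)
  · have h1 : z + ψ ϖ * u ∈ Ideal.span {z + ψ ϖ * u, y + ψ ϖ * v, ψ ϖ} := Ideal.subset_span (by simp)
    have := Ideal.sub_mem _ h1 (Ideal.mul_mem_right u _ h3)
    rwa [add_sub_cancel_right] at this
  · have h1 : z + ψ ϖ * v ∈ Ideal.span {x + ψ ϖ * u, z + ψ ϖ * v, ψ ϖ} := Ideal.subset_span (by simp)
    have := Ideal.sub_mem _ h1 (Ideal.mul_mem_right v _ h3)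
    rwa [add_sub_cancel_right] at this
  · exact h3

/-- the state of the approximation -/
structure St (ψ : Λ →+* T) (ϖ : Λ) (n : ℕ) where
  x : T
  y : T
  a : Λ
  g : T
  good : Good ψ ϖ x y
  ha : a ∈ Ideal.span {ϖ}
  eq : x * y = ψ a + (ψ ϖ) ^ (n + 1) * g

include hψ hres in
theorem exists_next (hϖ : maximalIdeal Λ = Ideal.span {ϖ}) (n : ℕ) (s : St ψ ϖ n) :
    ∃ s' : St ψ ϖ (n + 1), (∃ u, s'.x = s.x + (ψ ϖ) ^ (n + 1) * u) ∧ (∃ u, s'.y = s.y + (ψ ϖ) ^ (n + 1) * u) ∧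
      ∃ u, s'.a = s.a + ϖ ^ (n + 1) * u := by
  obtain ⟨r, α, β, h⟩ := s.good.exists_decomp hψ hres hϖ s.g
  have e1 : s.x - (ψ ϖ) ^ (n + 1) * β = s.x + ψ ϖ * (-(ψ ϖ) ^ n * β) := by ring
  have e2 : s.y - (ψ ϖ) ^ (n + 1) * α = s.y + ψ ϖ * (-(ψ ϖ) ^ n * α) := by ring
  refine ⟨⟨s.x - (ψ ϖ) ^ (n + 1) * β, s.y - (ψ ϖ) ^ (n + 1) * α, s.a + ϖ ^ (n + 1) * r, (ψ ϖ) ^ n * (α * β),
    s.good.change hψ _ _ e1 e2, ?_, ?_⟩, ⟨-β, by ring⟩, ⟨-α, by ring⟩, ⟨r, rfl⟩⟩
  · refine Ideal.add_mem _ s.ha (Ideal.mul_mem_right _ _ ?_)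
    exact Ideal.pow_mem_of_mem _ (Ideal.mem_span_singleton_self _) _ (Nat.succ_pos n)
  · have h2 := s.eq
    rw [h] at h2
    rw [map_add, map_mul, map_pow]
    linear_combination h2

/-- a sequence with small differences -/
theorem smodEq_of_succ {R : Type*} [CommRing R] {I : Ideal R} (F : ℕ → R)
    (h : ∀ n, F (n + 1) - F n ∈ I ^ (n + 1)) {m n : ℕ} (hmn : m ≤ n) :
    F m ≡ F n [SMOD (I ^ m • ⊤ : Submodule R R)] := by
  rw [SModEq.comm, SModEq.sub_mem, smul_eq_mul, Ideal.mul_top]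
  induction n, hmn using Nat.le_induction with
  | base => rw [sub_self]; exact Ideal.zero_mem _
  | succ n hmn ih =>
    have : F (n + 1) - F m = (F (n + 1) - F n) + (F n - F m) := by ring
    rw [this]
    exact Ideal.add_mem _ (Ideal.pow_le_pow_right (by omega) (h n)) ih

include hψ hres in
/-- **Normal form.** -/
theorem exists_normal (hϖ : maximalIdeal Λ = Ideal.span {ϖ}) (hxy : Good ψ ϖ x y)
    (h : x * y ∈ Ideal.span {ψ ϖ}) : ∃ (x' y' : T) (a : Λ), Good ψ ϖ x' y' ∧ a ∈ Ideal.span {ϖ} ∧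
      x' * y' = ψ a := by
  obtain ⟨g, hg⟩ := Ideal.mem_span_singleton'.1 h
  have hlocψ : ∀ (n : ℕ) (a : Λ), a ∈ (maximalIdeal Λ) ^ n → ψ a ∈ (maximalIdeal T) ^ n := by
    intro n a ha
    rw [hϖ, Ideal.span_singleton_pow, Ideal.mem_span_singleton'] at ha
    obtain ⟨c, rfl⟩ := ha
    rw [map_mul, map_pow]
    exact Ideal.mul_mem_left _ _ (Ideal.pow_mem_pow hψ n)
  let s0 : St ψ ϖ 0 := ⟨x, y, 0, g, hxy, Ideal.zero_mem _, by rw [map_zero, ← hg]; ring⟩
  let s : ∀ n, St ψ ϖ n := fun n => Nat.rec s0 (fun n s => (exists_next hψ hres hϖ n s).choose) n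
  have hs : ∀ n, (∃ u, (s (n + 1)).x = (s n).x + (ψ ϖ) ^ (n + 1) * u) ∧
      (∃ u, (s (n + 1)).y = (s n).y + (ψ ϖ) ^ (n + 1) * u) ∧
      ∃ u, (s (n + 1)).a = (s n).a + ϖ ^ (n + 1) * u := fun n => (exists_next hψ hres hϖ n (s n)).choose_spec
  have hx : ∀ n, (s (n + 1)).x - (s n).x ∈ (maximalIdeal T) ^ (n + 1) := by
    intro n
    obtain ⟨u, hu⟩ := (hs n).1
    rw [hu, add_sub_cancel_left]
    exact Ideal.mul_mem_right _ _ (Ideal.pow_mem_pow hψ _)
  have hy : ∀ n, (s (n + 1)).y - (s n).y ∈ (maximalIdeal T) ^ (n + 1) := by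
    intro n
    obtain ⟨u, hu⟩ := (hs n).2.1
    rw [hu, add_sub_cancel_left]
    exact Ideal.mul_mem_right _ _ (Ideal.pow_mem_pow hψ _)
  have ha : ∀ n, (s (n + 1)).a - (s n).a ∈ (maximalIdeal Λ) ^ (n + 1) := by
    intro n
    obtain ⟨u, hu⟩ := (hs n).2.2
    rw [hu, add_sub_cancel_left, hϖ]
    exact Ideal.mul_mem_right _ _ (Ideal.pow_mem_pow (Ideal.mem_span_singleton_self _) _)
  obtain ⟨x', hx'⟩ := IsPrecomplete.prec (I := maximalIdeal T) (M := T) inferInstance (f := fun n => (s n).x)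
    (fun hmn => smodEq_of_succ (fun n => (s n).x) hx hmn)
  obtain ⟨y', hy'⟩ := IsPrecomplete.prec (I := maximalIdeal T) (M := T) inferInstance (f := fun n => (s n).y)
    (fun hmn => smodEq_of_succ (fun n => (s n).y) hy hmn)
  obtain ⟨a', ha'⟩ := IsPrecomplete.prec (I := maximalIdeal Λ) (M := Λ) inferInstance (f := fun n => (s n).a)
    (fun hmn => smodEq_of_succ (fun n => (s n).a) ha hmn)
  simp only [SModEq.sub_mem, smul_eq_mul, Ideal.mul_top] at hx' hy' ha'
  refine ⟨x', y', a', ?_, ?_, ?_⟩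
  · -- goodness, by Nakayama
    have g2 := (s 2).good
    have e1 : x' ∈ maximalIdeal T := by
      have := Ideal.sub_mem _ g2.hx (Ideal.pow_le_self (by norm_num) (hx' 2))
      rwa [sub_sub_cancel] at this
    have e2 : y' ∈ maximalIdeal T := by
      have := Ideal.sub_mem _ g2.hy (Ideal.pow_le_self (by norm_num) (hy' 2))
      rwa [sub_sub_cancel] at this
    refine ⟨e1, e2, ?_⟩
    refine Submodule.le_of_le_smul_of_le_jacobson_bot (I := maximalIdeal T) (IsNoetherian.noetherian _)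
      (IsLocalRing.maximalIdeal_le_jacobson _) ?_
    refine g2.hm.trans ?_
    rw [Ideal.span_le]
    have hsq : (maximalIdeal T) ^ 2 ≤ maximalIdeal T • maximalIdeal T := by rw [pow_two]; exact le_rfl
    rintro z (rfl | rfl | rfl)
    · have h3 : (s 2).x = x' + ((s 2).x - x') := by ring
      rw [h3]
      exact Submodule.add_mem_sup (Ideal.subset_span (by simp)) (hsq (hx' 2))
    · have h3 : (s 2).y = y' + ((s 2).y - y') := by ring
      rw [h3]
      exact Submodule.add_mem_sup (Ideal.subset_span (by simp)) (hsq (hy' 2))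
    · exact Submodule.mem_sup_left (Ideal.subset_span (by simp))
  · have h1 := (s 1).ha
    have h2 := ha' 1
    rw [pow_one, hϖ] at h2
    have := Ideal.sub_mem _ h1 h2
    rwa [sub_sub_cancel] at this
  · -- the equation
    rw [← sub_eq_zero]
    refine IsHausdorff.haus (I := maximalIdeal T) (M := T) inferInstance _ fun n => ?_
    rw [SModEq.zero, smul_eq_mul, Ideal.mul_top]
    have e : x' * y' - ψ a' = - (((s n).x - x') * y' + (s n).x * ((s n).y - y')) + ψ ((s n).a - a') +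
        (ψ ϖ) ^ (n + 1) * (s n).g := by
      have := (s n).eq
      rw [map_sub]
      linear_combination this
    rw [e]
    refine Ideal.add_mem _ (Ideal.add_mem _ (Ideal.neg_mem_iff _ |>.2 (Ideal.add_mem _
      (Ideal.mul_mem_right _ _ (hx' n)) (Ideal.mul_mem_left _ _ (hy' n)))) (hlocψ n _ (ha' n))) ?_
    exact Ideal.mul_mem_right _ _ (Ideal.pow_le_pow_right (Nat.le_succ n) (Ideal.pow_mem_pow hψ _))

omit [IsNoetherianRing Λ] in
/-- elements of the maximal ideal are zero or unit multiples of powers of `ϖ`. -/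
theorem exists_pow {ϖ : Λ} (hϖ : maximalIdeal Λ = Ideal.span {ϖ}) {a : Λ} (ha : a ∈ Ideal.span {ϖ}) :
    a = 0 ∨ ∃ l : ℕ, l ≠ 0 ∧ ∃ u : Λˣ, a = u * ϖ ^ l := by
  classical
  by_cases h : ∀ n, a ∈ (maximalIdeal Λ) ^ n
  · left
    refine IsHausdorff.haus (I := maximalIdeal Λ) (M := Λ) inferInstance _ fun n => ?_
    rw [SModEq.zero, smul_eq_mul, Ideal.mul_top]
    exact h n
  · right
    push Not at h
    have h1 := Nat.find_spec h
    have h2 : ∀ m < Nat.find h, a ∈ (maximalIdeal Λ) ^ m := fun m hm => not_not.1 (Nat.find_min h hm)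
    obtain ⟨l, hl⟩ : ∃ l, Nat.find h = l + 1 := by
      rcases Nat.eq_zero_or_pos (Nat.find h) with h3 | h3
      · rw [h3, pow_zero, Ideal.one_eq_top] at h1
        exact absurd trivial h1
      · exact ⟨Nat.find h - 1, by omega⟩
    have h3 := h2 l (by omega)
    rw [hϖ, Ideal.span_singleton_pow, Ideal.mem_span_singleton'] at h3
    obtain ⟨b, hb⟩ := h3
    have hbu : IsUnit b := by
      by_contra hcon
      have hbm : b ∈ maximalIdeal Λ := (mem_maximalIdeal b).2 hcon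
      rw [hϖ, Ideal.mem_span_singleton'] at hbm
      obtain ⟨c, rfl⟩ := hbm
      apply h1
      rw [hl, hϖ, Ideal.span_singleton_pow, Ideal.mem_span_singleton']
      exact ⟨c, by rw [← hb]; ring⟩
    refine ⟨l, ?_, hbu.unit, by rw [IsUnit.unit_spec]; exact hb.symm⟩
    rintro rfl
    rw [pow_zero, mul_one] at hb
    subst hb
    rw [← hϖ] at ha
    exact (mem_maximalIdeal b).1 ha hbu

section Iso

variable {k : Type*} [Field k]
  (e : (T ⧸ Ideal.span {ψ ϖ}) ≃+* (MvPowerSeries (Fin 2) k ⧸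
    Ideal.span {(MvPowerSeries.X 0 * MvPowerSeries.X 1 : MvPowerSeries (Fin 2) k)}))
  (he : ∀ c : k, ∃ r : Λ, e (Ideal.Quotient.mk _ (ψ r)) = Ideal.Quotient.mk _ (MvPowerSeries.C c))

variable (k) in
/-- the constant coefficient on the special fibre -/
noncomputable def cc : (MvPowerSeries (Fin 2) k ⧸
    Ideal.span {(MvPowerSeries.X 0 * MvPowerSeries.X 1 : MvPowerSeries (Fin 2) k)}) →+* k :=
  Ideal.Quotient.lift _ MvPowerSeries.constantCoeff (by
    intro F hF
    obtain ⟨G, rfl⟩ := Ideal.mem_span_singleton'.1 hF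
    rw [map_mul, map_mul, MvPowerSeries.constantCoeff_X, zero_mul, mul_zero])

theorem cc_mk (F : MvPowerSeries (Fin 2) k) : cc k (Ideal.Quotient.mk _ F) = MvPowerSeries.constantCoeff F := rfl

include hψ in
/-- the maximal ideal is the kernel of the map to the residue field -/
theorem mem_iff (t : T) : t ∈ maximalIdeal T ↔ cc k (e (Ideal.Quotient.mk _ t)) = 0 := by
  constructor
  · intro ht
    obtain ⟨F, hF⟩ := Ideal.Quotient.mk_surjective (e (Ideal.Quotient.mk _ t))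
    rw [← hF, cc_mk]
    by_contra hcon
    have h1 : IsUnit F := by
      rw [MvPowerSeries.isUnit_iff_constantCoeff]
      exact isUnit_iff_ne_zero.2 hcon
    have h2 : IsUnit (e (Ideal.Quotient.mk (Ideal.span {ψ ϖ}) t)) := by
      rw [← hF]; exact h1.map _
    have h3 : IsUnit (Ideal.Quotient.mk (Ideal.span {ψ ϖ}) t) := by
      have := h2.map e.symm
      rwa [e.symm_apply_apply] at this
    obtain ⟨s, hs⟩ := h3.exists_right_inv
    obtain ⟨s, rfl⟩ := Ideal.Quotient.mk_surjective s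
    rw [← map_mul, ← map_one (Ideal.Quotient.mk _), Ideal.Quotient.eq] at hs
    have h4 : Ideal.span {ψ ϖ} ≤ maximalIdeal T := by
      rw [Ideal.span_singleton_le_iff_mem]; exact hψ
    have h5 : (1 : T) ∈ maximalIdeal T := by
      have := Ideal.sub_mem _ (Ideal.mul_mem_right s _ ht) (h4 hs)
      rwa [sub_sub_cancel] at this
    exact (Ideal.ne_top_iff_one _).1 (maximalIdeal.isMaximal T).ne_top h5
  · intro ht
    rw [mem_maximalIdeal, mem_nonunits_iff]
    intro hu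
    have := ((hu.map (Ideal.Quotient.mk (Ideal.span {ψ ϖ}))).map e).map (cc k)
    exact this.ne_zero ht

include hψ he in
theorem hres_of (t : T) : ∃ r : Λ, t - ψ r ∈ maximalIdeal T := by
  obtain ⟨r, hr⟩ := he (cc k (e (Ideal.Quotient.mk _ t)))
  refine ⟨r, (mem_iff hψ e _).2 ?_⟩
  rw [map_sub, map_sub, map_sub, hr, cc_mk, MvPowerSeries.constantCoeff_C, sub_self]

include hψ e in
theorem exists_good : ∃ x y : T, Good ψ ϖ x y ∧ x * y ∈ Ideal.span {ψ ϖ} := by
  obtain ⟨x, hx⟩ := Ideal.Quotient.mk_surjective (e.symm (Ideal.Quotient.mk _ (MvPowerSeries.X 0)))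
  obtain ⟨y, hy⟩ := Ideal.Quotient.mk_surjective (e.symm (Ideal.Quotient.mk _ (MvPowerSeries.X 1)))
  have hex : e (Ideal.Quotient.mk _ x) = Ideal.Quotient.mk _ (MvPowerSeries.X 0) := by
    rw [hx, e.apply_symm_apply]
  have hey : e (Ideal.Quotient.mk _ y) = Ideal.Quotient.mk _ (MvPowerSeries.X 1) := by
    rw [hy, e.apply_symm_apply]
  refine ⟨x, y, ⟨?_, ?_, ?_⟩, ?_⟩
  · rw [mem_iff hψ e, hex, cc_mk, MvPowerSeries.constantCoeff_X]
  · rw [mem_iff hψ e, hey, cc_mk, MvPowerSeries.constantCoeff_X]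
  · intro t ht
    obtain ⟨F, hF⟩ := Ideal.Quotient.mk_surjective (e (Ideal.Quotient.mk _ t))
    rw [mem_iff hψ e, ← hF, cc_mk] at ht
    obtain ⟨A, B, hAB⟩ := K794.Deform.exists_decomp F
    obtain ⟨α, hα⟩ := Ideal.Quotient.mk_surjective (e.symm (Ideal.Quotient.mk _ A))
    obtain ⟨β, hβ⟩ := Ideal.Quotient.mk_surjective (e.symm (Ideal.Quotient.mk _ B))
    have h1 : Ideal.Quotient.mk (Ideal.span {ψ ϖ}) (t - (x * α + y * β)) = 0 := by
      apply e.injective
      rw [map_sub, map_sub, map_add, map_add, map_mul, map_mul, map_mul, map_mul, hex, hey, hα, hβ,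
        e.apply_symm_apply, e.apply_symm_apply, ← hF, map_zero, sub_eq_zero]
      conv_lhs => rw [hAB, ht, map_zero, zero_add, map_add, map_mul, map_mul]
    rw [Ideal.Quotient.eq_zero_iff_mem] at h1
    obtain ⟨c, hc⟩ := Ideal.mem_span_singleton'.1 h1
    have : t = α * x + β * y + c * ψ ϖ := by rw [hc]; ring
    rw [this]
    refine Ideal.add_mem _ (Ideal.add_mem _ (Ideal.mul_mem_left _ _ (Ideal.subset_span (by simp)))
      (Ideal.mul_mem_left _ _ (Ideal.subset_span (by simp)))) (Ideal.mul_mem_left _ _ (Ideal.subset_span (by simp)))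
  · rw [← Ideal.Quotient.eq_zero_iff_mem]
    apply e.injective
    rw [map_mul, map_mul, hex, hey, map_zero, ← map_mul, Ideal.Quotient.eq_zero_iff_mem]
    exact Ideal.mem_span_singleton_self _

include hψ he in
/-- the kernel of the evaluation at normalized parameters. -/
theorem ker_ev (hϖ : maximalIdeal Λ = Ideal.span {ϖ}) (hnzd : ψ ϖ ∈ nonZeroDivisors T) (hxy : Good ψ ϖ x y)
    {a : Λ} (ha : a ∈ Ideal.span {ϖ}) (h : x * y = ψ a) :
    RingHom.ker hxy.ev = Ideal.span {(MvPowerSeries.X 0 * MvPowerSeries.X 1 - MvPowerSeries.C a :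
      MvPowerSeries (Fin 2) Λ)} := by
  have hres := hres_of hψ e he
  have hsurj := hxy.ev_surjective hψ hres hϖ
  -- the residue map of `Λ`
  let ρ : Λ →+* k := (cc k).comp ((e : _ →+* _).comp ((Ideal.Quotient.mk (Ideal.span {ψ ϖ})).comp ψ))
  have hρ : Function.Surjective ρ := by
    intro c
    obtain ⟨r, hr⟩ := he c
    refine ⟨r, ?_⟩
    change cc k (e (Ideal.Quotient.mk _ (ψ r))) = c
    rw [hr, cc_mk, MvPowerSeries.constantCoeff_C]
  have hρϖ : ρ ϖ = 0 := by
    change cc k (e (Ideal.Quotient.mk _ (ψ ϖ))) = 0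
    rw [Ideal.Quotient.eq_zero_iff_mem.2 (Ideal.mem_span_singleton_self _), map_zero, map_zero]
  have hρker : ∀ c, ρ c = 0 → ϖ ∣ c := by
    intro c hc
    rw [← Ideal.mem_span_singleton, ← hϖ, mem_maximalIdeal, mem_nonunits_iff]
    intro hu
    exact (hu.map ρ).ne_zero hc
  -- the map to the special fibre
  let θ : MvPowerSeries (Fin 2) Λ →+* (MvPowerSeries (Fin 2) k ⧸
    Ideal.span {(MvPowerSeries.X 0 * MvPowerSeries.X 1 : MvPowerSeries (Fin 2) k)}) :=
    (Ideal.Quotient.mk _).comp (MvPowerSeries.map ρ)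
  have hmapsurj : Function.Surjective (MvPowerSeries.map (σ := Fin 2) ρ) := by
    intro F
    choose d hd using fun m => hρ (MvPowerSeries.coeff m F)
    refine ⟨fun m => d m, ?_⟩
    ext m
    rw [MvPowerSeries.coeff_map]
    exact hd m
  have hθ : Function.Surjective θ := Ideal.Quotient.mk_surjective.comp hmapsurj
  have hkerθ : ∀ F, θ F = 0 → F ∈ Ideal.span {(MvPowerSeries.X 0 * MvPowerSeries.X 1 : MvPowerSeries (Fin 2) Λ),
      MvPowerSeries.C ϖ} := by
    intro F hF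
    have h1 : MvPowerSeries.map ρ F ∈ Ideal.span {(MvPowerSeries.X 0 * MvPowerSeries.X 1 : MvPowerSeries (Fin 2) k)} :=
      Ideal.Quotient.eq_zero_iff_mem.1 hF
    obtain ⟨G, hG⟩ := Ideal.mem_span_singleton'.1 h1
    obtain ⟨G', rfl⟩ := hmapsurj G
    have h2 : MvPowerSeries.C ϖ ∣ F - G' * (MvPowerSeries.X 0 * MvPowerSeries.X 1) := by
      apply C_dvd
      intro m
      apply hρker
      rw [← MvPowerSeries.coeff_map, map_sub, map_mul, map_mul, MvPowerSeries.map_X, MvPowerSeries.map_X, hG,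
        sub_self, map_zero]
    obtain ⟨H, hH⟩ := h2
    exact Ideal.mem_span_pair.2 ⟨G', H, by rw [mul_comm H, ← hH]; ring⟩
  -- the evaluation modulo `ϖ`
  let χ : MvPowerSeries (Fin 2) Λ →+* (MvPowerSeries (Fin 2) k ⧸
    Ideal.span {(MvPowerSeries.X 0 * MvPowerSeries.X 1 : MvPowerSeries (Fin 2) k)}) :=
    (e : _ →+* _).comp ((Ideal.Quotient.mk (Ideal.span {ψ ϖ})).comp hxy.ev)
  have hχ : Function.Surjective χ := e.surjective.comp (Ideal.Quotient.mk_surjective.comp hsurj)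
  have hχapp : ∀ F, χ F = e (Ideal.Quotient.mk _ (hxy.ev F)) := fun _ => rfl
  have hker : ∀ F, θ F = 0 → χ F = 0 := by
    intro F hF
    obtain ⟨A, B, rfl⟩ := Ideal.mem_span_pair.1 (hkerθ F hF)
    have h1 : hxy.ev (A * (MvPowerSeries.X 0 * MvPowerSeries.X 1) + B * MvPowerSeries.C ϖ) ∈ Ideal.span {ψ ϖ} := by
      obtain ⟨c, rfl⟩ := Ideal.mem_span_singleton'.1 ha
      rw [map_add, map_mul, map_mul, map_mul, hxy.ev_X0, hxy.ev_X1, hxy.ev_C, h, map_mul]
      exact Ideal.add_mem _ (Ideal.mul_mem_left _ _ (Ideal.mul_mem_left _ _ (Ideal.mem_span_singleton_self _)))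
        (Ideal.mul_mem_left _ _ (Ideal.mem_span_singleton_self _))
    rw [hχapp, Ideal.Quotient.eq_zero_iff_mem.2 h1, map_zero]
  let η : (MvPowerSeries (Fin 2) k ⧸
    Ideal.span {(MvPowerSeries.X 0 * MvPowerSeries.X 1 : MvPowerSeries (Fin 2) k)}) →+* (MvPowerSeries (Fin 2) k ⧸
    Ideal.span {(MvPowerSeries.X 0 * MvPowerSeries.X 1 : MvPowerSeries (Fin 2) k)}) :=
    RingHom.liftOfSurjective θ hθ ⟨χ, fun F hF => hker F hF⟩
  have hη : ∀ F, η (θ F) = χ F := fun F => RingHom.liftOfRightInverse_comp_apply _ _ _ _ _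
  have hNk : IsNoetherianRing (MvPowerSeries (Fin 2) k) := MvPowerSeries.isNoetherianRing k
  have hNQ : IsNoetherianRing (MvPowerSeries (Fin 2) k ⧸
    Ideal.span {(MvPowerSeries.X 0 * MvPowerSeries.X 1 : MvPowerSeries (Fin 2) k)}) :=
    isNoetherianRing_of_surjective _ _ (Ideal.Quotient.mk _) Ideal.Quotient.mk_surjective
  have hηinj : Function.Injective η := by
    apply K71.PowSubst.injective_of_surjective
    intro z
    obtain ⟨F, rfl⟩ := hχ z
    exact ⟨θ F, hη F⟩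
  have hχker : ∀ F, hxy.ev F ∈ Ideal.span {ψ ϖ} → F ∈ Ideal.span {(MvPowerSeries.X 0 * MvPowerSeries.X 1 :
      MvPowerSeries (Fin 2) Λ), MvPowerSeries.C ϖ} := by
    intro F hF
    apply hkerθ
    apply hηinj
    rw [hη, map_zero, hχapp, Ideal.Quotient.eq_zero_iff_mem.2 hF, map_zero]
  have hevrel : hxy.ev (MvPowerSeries.X 0 * MvPowerSeries.X 1 - MvPowerSeries.C a) = 0 := by
    rw [map_sub, map_mul, hxy.ev_X0, hxy.ev_X1, hxy.ev_C, h, sub_self]
  apply le_antisymm
  · refine Submodule.le_of_le_smul_of_le_jacobson_bot (I := maximalIdeal (MvPowerSeries (Fin 2) Λ))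
      (IsNoetherian.noetherian _) (IsLocalRing.maximalIdeal_le_jacobson _) ?_
    intro F hF
    rw [RingHom.mem_ker] at hF
    obtain ⟨A, B, hAB⟩ := Ideal.mem_span_pair.1 (hχker F (by rw [hF]; exact Ideal.zero_mem _))
    obtain ⟨c, hc⟩ := Ideal.mem_span_singleton'.1 ha
    -- rewrite with `X Y - a`
    have e1 : F = A * (MvPowerSeries.X 0 * MvPowerSeries.X 1 - MvPowerSeries.C a) +
        MvPowerSeries.C ϖ * (B + A * MvPowerSeries.C c) := by
      rw [← hAB, ← hc, map_mul]; ring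
    have e2 : hxy.ev (B + A * MvPowerSeries.C c) = 0 := by
      have h2 := hF
      rw [e1, map_add, map_mul, hevrel, mul_zero, zero_add, map_mul, hxy.ev_C] at h2
      exact (mul_left_mem_nonZeroDivisors_eq_zero_iff hnzd).1 h2
    rw [e1]
    refine Submodule.add_mem_sup (Ideal.mul_mem_left _ _ (Ideal.mem_span_singleton_self _)) ?_
    refine Submodule.smul_mem_smul ?_ (RingHom.mem_ker.2 e2)
    rw [mem_maximalIdeal_iff, MvPowerSeries.constantCoeff_C, hϖ]
    exact Ideal.mem_span_singleton_self _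
  · rw [Ideal.span_singleton_le_iff_mem]
    exact hevrel

include hψ he in
/-- **Deformations of a split node over a complete discrete valuation ring.** -/
theorem exists_iso (hϖ : maximalIdeal Λ = Ideal.span {ϖ}) (hnzd : ψ ϖ ∈ nonZeroDivisors T) :
    ∃ (l : ℕ) (E : T ≃+* (MvPowerSeries (Fin 2) Λ ⧸ Ideal.span {(MvPowerSeries.X 0 * MvPowerSeries.X 1 -
      MvPowerSeries.C (if l = 0 then 0 else ϖ ^ l) : MvPowerSeries (Fin 2) Λ)})),
      ∀ r, E (ψ r) = Ideal.Quotient.mk _ (MvPowerSeries.C r) := by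
  have hres := hres_of hψ e he
  obtain ⟨x, y, hxy, h⟩ := exists_good hψ e
  obtain ⟨x', y', a, hxy', ha, h'⟩ := exists_normal hψ hres hϖ hxy h
  -- normalize the unit
  obtain ⟨l, x'', hxy'', h''⟩ : ∃ (l : ℕ) (x'' : T), Good ψ ϖ x'' y' ∧
      x'' * y' = ψ (if l = 0 then 0 else ϖ ^ l) := by
    rcases exists_pow hϖ ha with rfl | ⟨l, hl, u, rfl⟩
    · exact ⟨0, x', hxy', by rw [if_pos rfl]; exact h'⟩
    · refine ⟨l, ψ ↑u⁻¹ * x', ⟨Ideal.mul_mem_left _ _ hxy'.hx, hxy'.hy, hxy'.hm.trans ?_⟩, ?_⟩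
      · rw [Ideal.span_le]
        have m1 : ψ ↑u⁻¹ * x' ∈ Ideal.span {ψ ↑u⁻¹ * x', y', ψ ϖ} := Ideal.subset_span (by simp)
        have m1' : x' ∈ Ideal.span {ψ ↑u⁻¹ * x', y', ψ ϖ} := by
          have := Ideal.mul_mem_left _ (ψ ↑u) m1
          rwa [← mul_assoc, ← map_mul, Units.mul_inv, map_one, one_mul] at this
        rintro z (hz | hz | hz)
        · rw [hz]; exact m1'
        · rw [hz]; exact Ideal.subset_span (by simp)
        · rw [hz]; exact Ideal.subset_span (by simp)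
      · rw [if_neg hl, mul_assoc, h', ← map_mul, ← mul_assoc, Units.inv_mul, one_mul]
  have ha'' : (if l = 0 then 0 else ϖ ^ l) ∈ Ideal.span {ϖ} := by
    split_ifs with hl
    · exact Ideal.zero_mem _
    · exact Ideal.pow_mem_of_mem _ (Ideal.mem_span_singleton_self _) _ (Nat.pos_of_ne_zero hl)
  have hker := ker_ev hψ e he hϖ hnzd hxy'' ha'' h''
  have hsurj := hxy''.ev_surjective hψ hres hϖ
  let E := (RingHom.quotientKerEquivOfSurjective hsurj).symm.trans (Ideal.quotEquivOfEq hker)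
  refine ⟨l, E, fun r => ?_⟩
  have h1 : (RingHom.quotientKerEquivOfSurjective hsurj) (Ideal.Quotient.mk _ (MvPowerSeries.C r)) = ψ r := by
    rw [RingHom.quotientKerEquivOfSurjective_apply_mk, hxy''.ev_C]
  change (Ideal.quotEquivOfEq hker) ((RingHom.quotientKerEquivOfSurjective hsurj).symm (ψ r)) = _
  rw [← h1, RingEquiv.symm_apply_apply, Ideal.quotEquivOfEq_mk]

end Iso

end

end K794.Deform
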