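import Groth.Agent.SemiFact.K794.NodeF3
import Groth.Agent.SemiFact.K794.Base
import Mathlib.RingTheory.Regular.Flat
import Mathlib.RingTheory.Flat.FaithfullyFlat.Algebra
import Mathlib.RingTheory.Localization.BaseChange

/-!
# Descent of generators from a node ring `B` to a local ring `C`, `C → B` faithfully flat
-/

set_option autoImplicit false
set_option linter.unusedSectionVars false

open IsLocalRing TensorProduct

namespace K794.Descent

open K794.Lat K794.NodeAlg K794.Base

/-- regularity modulo `ϖ` is preserved by flat base change. -/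
theorem reg_of_flat {C B M T : Type*} [CommRing C] [CommRing B] [Algebra C B] [Module.Flat C B]
    [AddCommGroup M] [Module C M] [AddCommGroup T] [Module C T] [Module B T] [IsScalarTower C B T]
    {f : M →ₗ[C] T} (hf : IsBaseChange B f) {ϖ a : C} (hϖ : ∀ t t' : M, ϖ • t = ϖ • t' → t = t')
    (ha : ∀ t t' : M, a • t = ϖ • t' → ∃ u, t = ϖ • u) (w w' : T)
    (h : algebraMap C B a • w = algebraMap C B ϖ • w') : ∃ v, w = algebraMap C B ϖ • v := by
  have hreg : RingTheory.Sequence.IsWeaklyRegular M [ϖ, a] := by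
    rw [RingTheory.Sequence.isWeaklyRegular_cons_iff, RingTheory.Sequence.isWeaklyRegular_singleton_iff]
    refine ⟨fun t t' h => hϖ t t' h, ?_⟩
    rw [isSMulRegular_iff_right_eq_zero_of_smul]
    intro z hz
    obtain ⟨t, rfl⟩ := Submodule.Quotient.mk_surjective _ z
    rw [← Submodule.Quotient.mk_smul, Submodule.Quotient.mk_eq_zero] at hz
    obtain ⟨t', -, ht'⟩ := Submodule.mem_smul_pointwise_iff_exists _ _ _ |>.1 hz
    obtain ⟨u, hu⟩ := ha t t' ht'.symm
    rw [Submodule.Quotient.mk_eq_zero]
    exact (Submodule.mem_smul_pointwise_iff_exists _ _ _).2 ⟨u, trivial, hu.symm⟩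
  have h1 := hreg.of_flat_of_isBaseChange hf
  rw [List.map_cons, List.map_cons, List.map_nil, RingTheory.Sequence.isWeaklyRegular_cons_iff,
    RingTheory.Sequence.isWeaklyRegular_singleton_iff] at h1
  have h2 := h1.2.right_eq_zero_of_smul (x := Submodule.Quotient.mk w) (by
    rw [← Submodule.Quotient.mk_smul, Submodule.Quotient.mk_eq_zero, h]
    exact (Submodule.mem_smul_pointwise_iff_exists _ _ _).2 ⟨w', trivial, rfl⟩)
  rw [Submodule.Quotient.mk_eq_zero] at h2
  obtain ⟨v, -, hv⟩ := (Submodule.mem_smul_pointwise_iff_exists _ _ _).1 h2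
  exact ⟨v, hv.symm⟩

section

variable {C B : Type*} [CommRing C] [CommRing B] [IsLocalRing C] [IsLocalRing B] [IsNoetherianRing C]
  [IsNoetherianRing B] [Algebra C B] [Module.FaithfullyFlat C B]
  {ϖ : C} {x y : B} {l : ℕ} (N : NodeData (algebraMap C B ϖ) x y l)

include N in
theorem nzd_C : ϖ ∈ nonZeroDivisors C := by
  rw [mem_nonZeroDivisors_iff_right]
  intro c hc
  apply FaithfulSMul.algebraMap_injective C B
  rw [map_zero]
  have h1 := N.nzd
  rw [mem_nonZeroDivisors_iff_right] at h1
  exact h1 _ (by rw [← map_mul, hc, map_zero])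

/-- the two primes of `C` -/
def Q (_ : NodeData (algebraMap C B ϖ) x y l) : Fin 2 → Ideal C :=
  ![(Ideal.span {x, algebraMap C B ϖ}).comap (algebraMap C B),
    (Ideal.span {y, algebraMap C B ϖ}).comap (algebraMap C B)]

theorem dvd_of_dvd (c : C) (h : algebraMap C B ϖ ∣ algebraMap C B c) : ϖ ∣ c := by
  rw [← Ideal.mem_span_singleton] at h ⊢
  rw [← Ideal.comap_map_eq_self_of_faithfullyFlat (A := C) (B := B) (Ideal.span {ϖ}), Ideal.mem_comap,
    Ideal.map_span, Set.image_singleton]
  exact h

omit N in
theorem incomp_aux {x y : B} (N : NodeData (algebraMap C B ϖ) x y l)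
    (h : (Ideal.span {x, algebraMap C B ϖ}).comap (algebraMap C B) ≤
      (Ideal.span {y, algebraMap C B ϖ}).comap (algebraMap C B)) :
    (Ideal.span {x, algebraMap C B ϖ}).comap (algebraMap C B) =
      (Ideal.span {y, algebraMap C B ϖ}).comap (algebraMap C B) := by
  have hp1 := N.prime1
  refine le_antisymm h ?_
  by_contra hcon
  obtain ⟨c, hc2, hc1⟩ := SetLike.not_le_iff_exists.1 hcon
  rw [Ideal.mem_comap] at hc1 hc2
  have hnzd := nzd_C N
  have key := reg_of_flat (f := (Algebra.linearMap C B)) (B := B) (IsBaseChange.linearMap C B) (ϖ := ϖ) (a := c)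
    (fun t t' ht => (mul_cancel_left_mem_nonZeroDivisors hnzd).1 ht) (by
      intro t t' ht
      simp only [smul_eq_mul] at ht
      have h1 : t ∈ (Ideal.span {x, algebraMap C B ϖ}).comap (algebraMap C B) := by
        rw [Ideal.mem_comap]
        have h2 : algebraMap C B c * algebraMap C B t ∈ Ideal.span {x, algebraMap C B ϖ} := by
          rw [← map_mul, ht, map_mul]
          exact Ideal.mul_mem_right _ _ (Ideal.subset_span (by simp))
        exact (hp1.mem_or_mem h2).resolve_left hc1
      obtain ⟨u, hu⟩ := dvd_of_dvd (ϖ := ϖ) t (N.dvd_of_mem h1 (h h1))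
      exact ⟨u, hu⟩)
  obtain ⟨u, v, huv⟩ := Ideal.mem_span_pair.1 hc2
  obtain ⟨r, hr⟩ := N.exists_rel
  obtain ⟨w, hw⟩ := key x (u * r + v * x) (by
    simp only [smul_eq_mul]
    rw [← huv]
    linear_combination u * hr)
  exact N.x_notMem (by
    rw [hw]
    exact Ideal.mul_mem_right _ _ (Ideal.subset_span (by simp)))

theorem sysC : Sys ϖ (Q N) where
  nzd := nzd_C N
  prime := by
    intro i
    have hp1 := N.prime1
    have hp2 := N.prime2
    fin_cases i
    · exact Ideal.comap_isPrime (algebraMap C B) (Ideal.span {x, algebraMap C B ϖ})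
    · exact Ideal.comap_isPrime (algebraMap C B) (Ideal.span {y, algebraMap C B ϖ})
  mem := by
    intro i
    fin_cases i
    · exact Ideal.mem_comap.2 (Ideal.subset_span (by simp))
    · exact Ideal.mem_comap.2 (Ideal.subset_span (by simp))
  dvd := fun c hc => dvd_of_dvd c (N.dvd_of_mem (hc 0) (hc 1))
  incomp := by
    intro i j h
    fin_cases i <;> fin_cases j
    · rfl
    · exact incomp_aux N h
    · exact incomp_aux N.symm h
    · rfl

end

/-- multiples of a generator: elements with the right orders. -/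
theorem exists_smul_of_le {B : Type*} [CommRing B] [IsLocalRing B] [IsNoetherianRing B] {π : B} {ι : Type*} {P : ι → Ideal B} (S : Sys π P)
    {K : Type*} [CommRing K] [Algebra B K] [IsLocalization.Away π K]
    {L : Type*} [AddCommGroup L] [Module B L] [Module K L] [IsScalarTower B K L] [Module.Invertible K L]
    {g : ι → L} {t : L} (ht : IsGenerator π t) (h : ∀ i, Eqv (P i) (g i) t) (u : L)
    (hu : ∀ i, Le (P i) (g i) u) : ∃ b : B, u = b • t := by
  obtain ⟨k, hk⟩ := IsGenerator.exists_smul (K := K) ht u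
  obtain ⟨c, hc⟩ := exists_of_forall S k (by
    intro i
    have hp := S.prime i
    obtain ⟨a, ha, b, hb, hab⟩ := h i
    obtain ⟨a', ha', b', hab'⟩ := hu i
    refine ⟨b * a', mul_notMem hb ha', b' * a, ?_⟩
    apply sub_eq_zero.1
    apply IsGenerator.eq_zero ht
    rw [sub_smul, mul_smul, ← hk, algebraMap_smul, algebraMap_smul, mul_smul, hab', mul_smul, hab,
      sub_eq_zero, smul_comm])
  exact ⟨c, by rw [hk, ← hc, algebraMap_smul]⟩

/-- a generator is free. -/
theorem smul_inj_of_isGenerator {B : Type*} [CommRing B] [IsLocalRing B] [IsNoetherianRing B] {π : B}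
    {ι : Type*} {P : ι → Ideal B} (S : Sys π P)
    {K : Type*} [CommRing K] [Algebra B K] [IsLocalization.Away π K]
    {L : Type*} [AddCommGroup L] [Module B L] [Module K L] [IsScalarTower B K L] [Module.Invertible K L]
    {t : L} (ht : IsGenerator π t) {c d : B} (h : c • t = d • t) : c = d := by
  apply algebraMap_injective S (K := K)
  rw [← sub_eq_zero]
  apply IsGenerator.eq_zero ht
  rw [sub_smul, algebraMap_smul, algebraMap_smul, h, sub_self]

section Main

variable {C B : Type*} [CommRing C] [CommRing B] [IsLocalRing C] [IsLocalRing B] [IsNoetherianRing C]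
  [IsNoetherianRing B] [Algebra C B] [Module.FaithfullyFlat C B]
  {ϖ : C} {x y : B} {l : ℕ} (N : NodeData (algebraMap C B ϖ) x y l)
  {K : Type*} [CommRing K] [Algebra C K] [IsLocalization.Away ϖ K]
  {L : Type*} [AddCommGroup L] [Module C L] [Module K L] [IsScalarTower C K L] [Module.Invertible K L]

attribute [local instance] Algebra.TensorProduct.rightAlgebra

/-- **Descent of generators.** -/
theorem descend (hmax : (maximalIdeal C).map (algebraMap C B) = maximalIdeal B)
    (g : Fin 2 → L) (hg : ∀ i, Gen ϖ (Q N i) (g i))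
    (hgg : ∀ i j, Q N i = Q N j → Eqv (Q N i) (g i) (g j)) (s' : LB C B K L)
    (hs : IsGenerator (algebraMap C B ϖ) s')
    (h0 : Eqv (Ideal.span {x, algebraMap C B ϖ}) (inc (g 0)) s')
    (h1 : Eqv (Ideal.span {y, algebraMap C B ϖ}) (inc (g 1)) s') :
    ∃ s : L, IsGenerator ϖ s ∧ ∀ i, Eqv (Q N i) (g i) s := by
  classical
  have hp1 := N.prime1
  have hp2 := N.prime2
  have S := sysC N
  have SB := N.sys
  have hlocK : IsLocalization.Away (algebraMap C B ϖ) (B ⊗[C] K) := isLocalization_tensor B ϖ K
  set M : Submodule C L := ⨅ i, @lat C _ L _ _ (Q N i) (S.prime i) (g i) with hM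
  have memM : ∀ t, t ∈ M ↔ ∀ i, Le (Q N i) (g i) t := fun t => Submodule.mem_iInf _
  have hfg : M.FG := fg_iInf_lat S (K := K) g
  have hML : ∀ t : L, ∃ n : ℕ, ϖ ^ n • t ∈ M := by
    intro t
    choose n hn using fun j => (hg j).exists_le t
    refine ⟨∑ i, n i, (memM _).2 fun i => ?_⟩
    exact (hn i).pow_smul_of_le (Finset.single_le_sum (f := n) (fun _ _ => Nat.zero_le _) (Finset.mem_univ i))
  -- an element of the maximal ideal of `C` outside the two primes
  have hQ : ∀ i, (Q N i).IsPrime := S.prime
  have hne : ∀ i, ∃ a ∈ maximalIdeal C, a ∉ Q N i := by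
    intro i
    by_contra hcon
    push Not at hcon
    have h2 : maximalIdeal B ≤ N.P i := by
      rw [← hmax, Ideal.map_le_iff_le_comap]
      intro a ha
      have := hcon a ha
      fin_cases i
      · exact this
      · exact this
    fin_cases i
    · exact N.y_notMem (h2 N.y_mem)
    · exact N.x_notMem (h2 N.x_mem)
  obtain ⟨a, ha, haQ⟩ : ∃ a ∈ maximalIdeal C, ∀ i, a ∉ Q N i := by
    obtain ⟨a0, ha0, ha0'⟩ := hne 0
    obtain ⟨a1, ha1, ha1'⟩ := hne 1
    obtain ⟨b0, hb0, hb0'⟩ := S.exists_sep 0
    obtain ⟨b1, hb1, hb1'⟩ := S.exists_sep 1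
    by_cases hQQ : Q N 0 = Q N 1
    · exact ⟨a0, ha0, by intro i; fin_cases i; exacts [ha0', hQQ ▸ ha0']⟩
    · refine ⟨a0 * b0 + a1 * b1, Ideal.add_mem _ (Ideal.mul_mem_right _ _ ha0) (Ideal.mul_mem_right _ _ ha1), ?_⟩
      intro i
      fin_cases i
      · intro h
        have h2 : a1 * b1 ∈ Q N 0 := Ideal.mul_mem_left _ _ (hb1' 0 hQQ)
        have h3 := (Ideal.add_mem_iff_left _ h2).1 h
        exact mul_notMem (hp := hQ 0) ha0' hb0 h3
      · intro h
        have h2 : a0 * b0 ∈ Q N 1 := Ideal.mul_mem_left _ _ (hb0' 1 (Ne.symm hQQ))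
        have h3 := (Ideal.add_mem_iff_right _ h2).1 h
        exact mul_notMem (hp := hQ 1) ha1' hb1 h3
  -- regularity
  have hreg := reg_of_flat (B := B) (f := TensorProduct.mk C B M 1) (TensorProduct.isBaseChange C M B)
    (ϖ := ϖ) (a := a) (fun t t' h => Subtype.ext (smul_inj ϖ K (by
      have := congrArg Subtype.val h
      simpa using this))) (by
      intro t t' h
      obtain ⟨u, hu⟩ := exists_smul_eq ϖ K (t : L)
      have h2 : a • u = t' := by
        apply smul_inj ϖ K
        rw [smul_comm, hu]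
        exact congrArg Subtype.val h
      refine ⟨⟨u, (memM _).2 fun i => ?_⟩, Subtype.ext hu.symm⟩
      have := hQ i
      refine Le.of_smul (haQ i) ?_
      rw [h2]
      exact (memM _).1 t'.2 i)
  have hregpow : ∀ (k : ℕ) (w w' : B ⊗[C] M), (algebraMap C B a) ^ k • w = algebraMap C B ϖ • w' → ∃ v, w = algebraMap C B ϖ • v := by
    intro k
    induction k with
    | zero => exact fun w w' h => ⟨w', by simpa using h⟩
    | succ k ih =>
      intro w w' h
      rw [pow_succ', mul_smul] at h
      obtain ⟨v, hv⟩ := hreg _ _ h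
      exact ih w v hv
  have hj := jm_injective (B := B) (K := K) M
  -- the image of the multiples of `g i`
  have hgi : ∀ i, ∃ c, algebraMap C B c ∉ N.P i ∧ ∃ w, algebraMap C B c • inc (B := B) (K := K) (g i) =
      jm B K M w := by
    intro i
    obtain ⟨c, hc, hc'⟩ := exists_smul_mem S g hg hgg i
    refine ⟨c, ?_, (1 : B) ⊗ₜ ⟨c • g i, (memM _).2 hc'⟩, ?_⟩
    · fin_cases i
      · exact hc
      · exact hc
    · rw [jm_tmul, one_smul, map_smul, algebraMap_smul]
  -- (E) elements with the right orders come from `B ⊗ M`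
  have hE : ∀ u : LB C B K L, Le (Ideal.span {x, algebraMap C B ϖ}) (inc (g 0)) u →
      Le (Ideal.span {y, algebraMap C B ϖ}) (inc (g 1)) u → ∃ w, u = jm B K M w := by
    intro u hu0 hu1
    obtain ⟨n, w, hw⟩ := exists_pow_mem_range (ϖ := ϖ) (B := B) (K := K) M hML u
    induction n generalizing w with
    | zero => exact ⟨w, by simpa using hw⟩
    | succ n ih =>
      -- the ideal of elements sending `w` into `π`
      let J : Ideal B :=
        { carrier := {b | ∃ v, b • w = algebraMap C B ϖ • v}
          add_mem' := by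
            rintro b b' ⟨v, hv⟩ ⟨v', hv'⟩
            exact ⟨v + v', by rw [add_smul, hv, hv', smul_add]⟩
          zero_mem' := ⟨0, by simp⟩
          smul_mem' := by
            rintro c b ⟨v, hv⟩
            exact ⟨c • v, by rw [smul_eq_mul, mul_smul, hv, smul_comm]⟩ }
      have hJ : ∀ i, ∃ b ∈ J, b ∉ N.P i := by
        intro i
        have hLe : Le (N.P i) (inc (g i)) u := by
          fin_cases i
          · exact hu0
          · exact hu1
        have hPi := N.prime_P i
        obtain ⟨α, hα, β, hαβ⟩ := hLe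
        obtain ⟨c, hc, v, hv⟩ := hgi i
        refine ⟨algebraMap C B c * α, ⟨(algebraMap C B ϖ) ^ n • β • v, ?_⟩, mul_notMem hc hα⟩
        apply hj
        rw [map_smul, ← hw, map_smul, map_smul, map_smul, ← hv, smul_smul (algebraMap C B ϖ) ((algebraMap C B ϖ) ^ n), ← pow_succ',
          smul_comm (algebraMap C B c * α) ((algebraMap C B ϖ) ^ (n + 1)) u, mul_smul, hαβ, smul_comm (algebraMap C B c) β]
      have hrad : algebraMap C B a ∈ J.radical := by
        rw [Ideal.radical_eq_sInf, Submodule.mem_sInf]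
        rintro P ⟨hP1, hP2⟩
        have hπP : algebraMap C B ϖ ∈ P := hP1 ⟨w, rfl⟩
        rcases N.eq_of_prime hP2 hπP with h | h | h
        · exfalso
          obtain ⟨b, hb, hb'⟩ := hJ 0
          have := hP1 hb
          rw [h] at this
          exact hb' this
        · exfalso
          obtain ⟨b, hb, hb'⟩ := hJ 1
          have := hP1 hb
          rw [h] at this
          exact hb' this
        · rw [h, ← hmax]
          exact Ideal.mem_map_of_mem _ ha
      obtain ⟨k, v, hv⟩ := hrad
      obtain ⟨v', rfl⟩ := hregpow k w v hv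
      refine ih v' ?_
      apply smul_inj (algebraMap C B ϖ) (B ⊗[C] K)
      rw [smul_smul, ← pow_succ', hw, map_smul]
  obtain ⟨w0, hw0⟩ := hE s' h0.le h1.le
  -- the elements of `M` are multiples of `s'`
  have hG : ∀ m : M, ∃ b : B, inc (B := B) (K := K) (m : L) = b • s' := by
    intro m
    refine exists_smul_of_le SB (K := B ⊗[C] K) (g := fun i => inc (g i)) hs (by
      intro i; fin_cases i; exacts [h0, h1]) _ (by
      intro i
      have := (memM _).1 m.2 i
      obtain ⟨α, hα, β, hαβ⟩ := this
      refine ⟨algebraMap C B α, ?_, algebraMap C B β, ?_⟩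
      · fin_cases i
        · exact hα
        · exact hα
      · rw [algebraMap_smul, algebraMap_smul, ← map_smul, hαβ, map_smul])
  choose b hb using hG
  have hfree : ∀ c d : B, c • s' = d • s' → c = d := fun c d h =>
    smul_inj_of_isGenerator SB (K := B ⊗[C] K) hs h
  -- one of the coefficients is a unit
  have hH : ∃ m, IsUnit (b m) := by
    by_contra hcon
    push Not at hcon
    have h2 : ∀ w : B ⊗[C] M, ∃ c ∈ maximalIdeal B, jm B K M w = c • s' := by
      intro w
      induction w using TensorProduct.induction_on with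
      | zero => exact ⟨0, Ideal.zero_mem _, by simp⟩
      | tmul c m =>
        refine ⟨c * b m, Ideal.mul_mem_left _ _ (hcon m), ?_⟩
        rw [jm_tmul, hb, mul_smul]
      | add v w hv hw =>
        obtain ⟨c, hc, hc'⟩ := hv
        obtain ⟨d, hd, hd'⟩ := hw
        exact ⟨c + d, Ideal.add_mem _ hc hd, by rw [map_add, hc', hd', add_smul]⟩
    obtain ⟨c, hc, hc'⟩ := h2 w0
    rw [← hw0] at hc'
    have h3 := hfree 1 c (by rw [one_smul]; exact hc')
    exact (Ideal.ne_top_iff_one _).1 (maximalIdeal.isMaximal B).ne_top (h3 ▸ hc)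
  obtain ⟨m, hm⟩ := hH
  obtain ⟨b', hb'⟩ := hm.exists_left_inv
  have hs'm : s' = b' • inc (m : L) := by rw [hb, smul_smul, hb', one_smul]
  -- `M` is generated by `m`
  have hI : ∀ u : M, ∃ c : C, u = c • m := by
    have hsubB : Subsingleton (B ⊗[C] (M ⧸ Submodule.span C {m})) := by
      refine ⟨fun v w => ?_⟩
      suffices h : ∀ v : B ⊗[C] (M ⧸ Submodule.span C {m}), v = 0 by rw [h v, h w]
      intro v
      induction v using TensorProduct.induction_on with
      | zero => rfl
      | add v w hv hw => rw [hv, hw, add_zero]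
      | tmul c q =>
        obtain ⟨u, rfl⟩ := Submodule.Quotient.mk_surjective _ q
        have h2 : (1 : B) ⊗ₜ[C] u = (b u * b') • ((1 : B) ⊗ₜ[C] m) := by
          apply hj
          rw [map_smul, jm_tmul, jm_tmul, one_smul, one_smul, hb u]
          conv_lhs => rw [hs'm]
          rw [smul_smul]
        have h3 := congrArg (LinearMap.baseChange B (Submodule.mkQ (Submodule.span C {m}))) h2
        rw [map_smul, LinearMap.baseChange_tmul, LinearMap.baseChange_tmul] at h3
        have h4 : Submodule.mkQ (Submodule.span C {m}) m = 0 := by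
          rw [Submodule.mkQ_apply, Submodule.Quotient.mk_eq_zero]
          exact Submodule.mem_span_singleton_self m
        rw [h4, tmul_zero, smul_zero] at h3
        have h5 : c ⊗ₜ[C] (Submodule.Quotient.mk u : M ⧸ Submodule.span C {m}) =
            c • ((1 : B) ⊗ₜ[C] (Submodule.mkQ (Submodule.span C {m}) u)) := by
          rw [smul_tmul', smul_eq_mul, mul_one]
          rfl
        rw [h5, h3, smul_zero]
    have hsub : Subsingleton (M ⧸ Submodule.span C {m}) :=
      Module.FaithfullyFlat.lTensor_reflects_triviality C B _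
    intro u
    have h2 : (Submodule.Quotient.mk u : M ⧸ Submodule.span C {m}) = 0 := Subsingleton.elim _ _
    rw [Submodule.Quotient.mk_eq_zero] at h2
    obtain ⟨c, hc⟩ := Submodule.mem_span_singleton.1 h2
    exact ⟨c, hc.symm⟩
  refine ⟨m, gen_of_cyclic S g hg hgg m (fun i => (memM _).1 m.2 i) fun u hu => ?_⟩
  obtain ⟨c, hc⟩ := hI ⟨u, (memM _).2 hu⟩
  exact ⟨c, congrArg Subtype.val hc⟩

end Main

end K794.Descent
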