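import Groth.Agent.SemiFact.K794.Sec
import Groth.Agent.Picfga.LineCocycle
import Groth.Agent.Fdesc.LocGenPullback
import Groth.Agent.Ega2.IsoCocycle

/-!
# Gluing generators of an invertible module on `Z = D(t)` to an invertible module on `X`
-/

set_option autoImplicit false
set_option linter.unusedSectionVars false
set_option linter.dupNamespace false
universe u
open CategoryTheory CategoryTheory.Limits AlgebraicGeometry IsLocalRing TopologicalSpace Opposite
open Groth.Agent.Fdesc.LocGen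

namespace K794.Glob

namespace Sit

variable {X Z : Scheme.{u}} {i : Z ⟶ X} {t : Γ(X, ⊤)} {ι : Type*} {ξ : ι → X} (H : Sit i t ξ)
  {L : Z.Modules} {U₀ : ι → X.Opens} (G : ∀ v, Γ(L, i ⁻¹ᵁ (U₀ v)))

/-- near `x`, `L` has a generator `s` with `s ~ t ^ (φ v) * G v` at all `ξ v`. -/
def Pr (φ : ι → ℤ) (x : X) : Prop :=
  ∃ (U : X.Opens) (s : Γ(L, i ⁻¹ᵁ U)), x ∈ U ∧ IsGen s ∧
    ∀ v, ξ v ∈ U → EqvAt i (ξ v) ((H.tau (U₀ v)) ^ (φ v) • G v) s

variable {G}

theorem Pr.of_specializes {φ : ι → ℤ} {x y : X} (h : y ⤳ x) (hx : H.Pr G φ x) : H.Pr G φ y := by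
  obtain ⟨U, s, hxU, hs, hG⟩ := hx
  exact ⟨U, s, h.mem_open U.2 hxU, hs, hG⟩

theorem Pr.of_mem_basicOpen (hL : PicF.IsInvertible L) {φ : ι → ℤ} {x : X} (hx : x ∈ X.basicOpen t) :
    H.Pr G φ x := by
  have := H.openImm
  rw [← H.range] at hx
  obtain ⟨y, rfl⟩ := hx
  obtain ⟨W, e, hyW, he⟩ := (isInvertible_iff L).1 hL y
  have hW : i ⁻¹ᵁ (i ''ᵁ W) ≤ W := by rw [i.preimage_image_eq]
  refine ⟨i ''ᵁ W, res L hW e, ⟨y, hyW, rfl⟩, he.res hW, fun v hv => ?_⟩
  exfalso
  apply H.mem v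
  rw [← H.range]
  exact Scheme.Hom.image_le_opensRange i W hv

/-- **Gluing.** -/
theorem exists_glue {φ : ι → ℤ} (h : ∀ x, H.Pr G φ x) :
    ∃ M : X.Modules, PicF.IsInvertible M ∧ Nonempty ((Scheme.Modules.pullback i).obj M ≅ L) := by
  classical
  choose W n hxW hn hG using h
  have hW : ⨆ x, W x = ⊤ := by
    rw [eq_top_iff]
    intro x _
    exact Opens.mem_iSup.2 ⟨x, hxW x⟩
  have h1 : ∀ x y, ∃ g : Γ(X, W x ⊓ W y), 
      res L (i.preimage_mono inf_le_left) (n x) =
        (i.app (W x ⊓ W y) g : Γ(Z, i ⁻¹ᵁ (W x ⊓ W y))) •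
          res L (i.preimage_mono inf_le_right) (n y) := by
    intro x y
    obtain ⟨c, hc⟩ := ((hn y).res (i.preimage_mono (inf_le_right : W x ⊓ W y ≤ W y))).exists_eq
      (res L (i.preimage_mono (inf_le_left : W x ⊓ W y ≤ W x)) (n x))
    obtain ⟨g, hg⟩ := H.exists_app_eq c (by
      intro v hv
      have h2 := (hG y v hv.2).symm.trans (hG x v hv.1)
      obtain ⟨T, hT, hT', hvT, g, -, hg⟩ := h2
      refine ⟨T, le_inf hT' hT, hvT, g, ?_⟩
      apply ((hn y).res (i.preimage_mono hT)).ext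
      rw [← hg]
      have := congrArg (res L (i.preimage_mono (le_inf hT' hT))) hc
      rw [res_smul, res_res, res_res] at this
      exact this)
    exact ⟨g, by rw [hg]; exact hc⟩
  choose g hg using h1
  have hg1 : ∀ x, g x x = 1 := by
    intro x
    apply H.app_injective
    apply ((hn x).res (i.preimage_mono (inf_le_left : W x ⊓ W x ≤ W x))).ext
    rw [map_one, one_smul]
    exact (hg x x).symm
  -- the transition relation on smaller opens
  have hgT : ∀ x y (T : X.Opens) (hi : T ≤ W x) (hj : T ≤ W y),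
      res L (i.preimage_mono hi) (n x) =
        (i.app T (ores (le_inf hi hj) (g x y)) : Γ(Z, i ⁻¹ᵁ T)) • res L (i.preimage_mono hj) (n y) := by
    intro x y T hi hj
    have := congrArg (res L (i.preimage_mono (le_inf hi hj))) (hg x y)
    rw [res_smul, res_res, res_res, ← app_ores'] at this
    exact this
  have hcoc : ∀ x y z (T : X.Opens) (hi : T ≤ W x) (hj : T ≤ W y) (hk : T ≤ W z),
      ores (le_inf hi hk) (g x z) = ores (le_inf hi hj) (g x y) * ores (le_inf hj hk) (g y z) := by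
    intro x y z T hi hj hk
    apply H.app_injective
    apply ((hn z).res (i.preimage_mono hk)).ext
    rw [← hgT x z T hi hk, map_mul, mul_smul, ← hgT y z T hj hk, ← hgT x y T hi hj]
  obtain ⟨M, e, he, hMe⟩ := Groth.Agent.Picfga.LineCocycle.exists_of_cocycle W g (fun x => hg1 x) hcoc
  refine ⟨M, ?_, ?_⟩
  · rw [isInvertible_iff]
    intro x
    exact ⟨W x, e x, hxW x, he x⟩
  · have hcov : ⨆ x, (i ⁻¹ᵁ W x) = ⊤ := by
      rw [← Scheme.Hom.preimage_iSup, hW]; rfl
    have hrel : ∀ x y, ∃ a : Γ(Z, (i ⁻¹ᵁ W x) ⊓ (i ⁻¹ᵁ W y)),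
        res ((Scheme.Modules.pullback i).obj M) inf_le_left (pullSec i (e x)) =
          a • res ((Scheme.Modules.pullback i).obj M) inf_le_right (pullSec i (e y)) ∧
        res L inf_le_left (n x) = a • res L inf_le_right (n y) := by
      intro x y
      refine ⟨(i.app (W x ⊓ W y) (g x y) : Γ(Z, i ⁻¹ᵁ (W x ⊓ W y))), ?_, hg x y⟩
      have h3 := congrArg (pullSec i) (hMe x y)
      rw [pullSec_smul, ← res_pullSec, ← res_pullSec] at h3
      exact h3
    obtain ⟨φ, -⟩ := Groth.Agent.Ega2.IsoCocycle.exists_iso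
      (M := (Scheme.Modules.pullback i).obj M) (N := L) (U := fun x => i ⁻¹ᵁ W x)
      (e := fun x => pullSec i (e x)) (e' := fun x => n x) hcov
      (fun x => (he x).pullSec i) (fun x => hn x) hrel
    exact ⟨φ⟩

end Sit

end K794.Glob
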