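import Groth.Agent.QFDual.K577.InvLoc
import Mathlib.RingTheory.DiscreteValuationRing.TFAE
import Mathlib.RingTheory.Localization.Away.Basic
import Mathlib.RingTheory.Noetherian.Basic

/-!
# Lattices in an invertible module over `C[1/ϖ]`, given by local generators at the primes over `ϖ`
-/

set_option autoImplicit false
set_option linter.unusedSectionVars false

namespace K794.Lat

section Orders

variable {C : Type*} [CommRing C] {L : Type*} [AddCommGroup L] [Module C L]

/-- `t ∈ C_p g` -/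
def Le (p : Ideal C) (g t : L) : Prop := ∃ a, a ∉ p ∧ ∃ b : C, a • t = b • g

/-- `C_p t = C_p g` -/
def Eqv (p : Ideal C) (g t : L) : Prop := ∃ a, a ∉ p ∧ ∃ b, b ∉ p ∧ a • t = b • g

/-- `g` generates `L` at `p` after inverting `ϖ` -/
structure Gen (ϖ : C) (p : Ideal C) (g : L) : Prop where
  exists_le : ∀ t : L, ∃ n : ℕ, Le p g (ϖ ^ n • t)
  torsion_free : ∀ c : C, c • g = 0 → ∃ a, a ∉ p ∧ a * c = 0

variable {p : Ideal C} {g t u : L}

theorem Eqv.le (h : Eqv p g t) : Le p g t := by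
  obtain ⟨a, ha, b, -, hab⟩ := h
  exact ⟨a, ha, b, hab⟩

theorem Eqv.symm (h : Eqv p g t) : Eqv p t g := by
  obtain ⟨a, ha, b, hb, hab⟩ := h
  exact ⟨b, hb, a, ha, hab.symm⟩

variable [hp : p.IsPrime]

theorem one_notMem : (1 : C) ∉ p := fun h => hp.ne_top ((Ideal.eq_top_iff_one p).2 h)

theorem mul_notMem {a b : C} (ha : a ∉ p) (hb : b ∉ p) : a * b ∉ p := fun h =>
  (hp.mem_or_mem h).elim ha hb

theorem pow_notMem {a : C} (ha : a ∉ p) (n : ℕ) : a ^ n ∉ p := fun h => ha (hp.mem_of_pow_mem n h)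

theorem prod_notMem {ι : Type*} (s : Finset ι) (a : ι → C) (ha : ∀ i ∈ s, a i ∉ p) :
    ∏ i ∈ s, a i ∉ p := by
  classical
  induction s using Finset.induction_on with
  | empty => rw [Finset.prod_empty]; exact one_notMem
  | insert i s his ih =>
    rw [Finset.prod_insert his]
    exact mul_notMem (ha i (Finset.mem_insert_self i s)) (ih fun j hj => ha j (Finset.mem_insert_of_mem hj))

variable (p) in
theorem Eqv.refl (g : L) : Eqv p g g := ⟨1, one_notMem, 1, one_notMem, rfl⟩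

variable (p) in
theorem Le.refl (g : L) : Le p g g := (Eqv.refl p g).le

theorem Eqv.trans (h : Eqv p g t) (h' : Eqv p t u) : Eqv p g u := by
  obtain ⟨a, ha, b, hb, hab⟩ := h
  obtain ⟨c, hc, d, hd, hcd⟩ := h'
  refine ⟨a * c, mul_notMem ha hc, d * b, mul_notMem hd hb, ?_⟩
  rw [mul_smul, hcd, smul_comm, hab, mul_smul]

theorem Le.trans (h : Le p g t) (h' : Le p t u) : Le p g u := by
  obtain ⟨a, ha, b, hab⟩ := h
  obtain ⟨c, hc, d, hcd⟩ := h'
  refine ⟨a * c, mul_notMem ha hc, d * b, ?_⟩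
  rw [mul_smul, hcd, smul_comm, hab, mul_smul]

theorem Le.add (h : Le p g t) (h' : Le p g u) : Le p g (t + u) := by
  obtain ⟨a, ha, b, hab⟩ := h
  obtain ⟨c, hc, d, hcd⟩ := h'
  refine ⟨a * c, mul_notMem ha hc, c * b + a * d, ?_⟩
  rw [smul_add, add_smul, mul_smul a c u, hcd, mul_comm a c, mul_smul c a t, hab, mul_smul, mul_smul]

omit hp in
theorem Le.smul (h : Le p g t) (c : C) : Le p g (c • t) := by
  obtain ⟨a, ha, b, hab⟩ := h
  exact ⟨a, ha, c * b, by rw [smul_comm, hab, mul_smul]⟩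

theorem Le.of_smul {c : C} (hc : c ∉ p) (h : Le p g (c • t)) : Le p g t := by
  obtain ⟨a, ha, b, hab⟩ := h
  exact ⟨a * c, mul_notMem ha hc, b, by rw [mul_smul, hab]⟩

theorem Le.zero (g : L) : Le p g (0 : L) := ⟨1, one_notMem, 0, by simp⟩

theorem Eqv.smul_right {c : C} (hc : c ∉ p) (h : Eqv p g t) : Eqv p g (c • t) := by
  obtain ⟨a, ha, b, hb, hab⟩ := h
  exact ⟨a, ha, c * b, mul_notMem hc hb, by rw [smul_comm, hab, mul_smul]⟩

omit hp in
theorem Eqv.map {L' : Type*} [AddCommGroup L'] [Module C L'] (f : L →ₗ[C] L') (h : Eqv p g t) :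
    Eqv p (f g) (f t) := by
  obtain ⟨a, ha, b, hb, hab⟩ := h
  exact ⟨a, ha, b, hb, by rw [← map_smul, hab, map_smul]⟩

omit hp in
theorem Le.map {L' : Type*} [AddCommGroup L'] [Module C L'] (f : L →ₗ[C] L') (h : Le p g t) :
    Le p (f g) (f t) := by
  obtain ⟨a, ha, b, hab⟩ := h
  exact ⟨a, ha, b, by rw [← map_smul, hab, map_smul]⟩

variable (p) in
/-- the lattice of elements `t` with `t ∈ C_p g`. -/
def lat (g : L) : Submodule C L where
  carrier := {t | Le p g t}
  add_mem' := fun h h' => h.add h'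
  zero_mem' := Le.zero g
  smul_mem' := fun c _ h => h.smul c

theorem mem_lat : t ∈ lat p g ↔ Le p g t := Iff.rfl

end Orders

/-- The primes `p i` are the minimal primes over the nonzerodivisor `ϖ`, and `C/ϖ` is reduced. -/
structure Sys {C : Type*} [CommRing C] (ϖ : C) {ι : Type*} (p : ι → Ideal C) : Prop where
  nzd : ϖ ∈ nonZeroDivisors C
  prime : ∀ i, (p i).IsPrime
  mem : ∀ i, ϖ ∈ p i
  dvd : ∀ c, (∀ i, c ∈ p i) → ϖ ∣ c
  incomp : ∀ i j, p i ≤ p j → p i = p j

namespace Sys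

variable {C : Type*} [CommRing C] {ϖ : C} {ι : Type*} {p : ι → Ideal C} (S : Sys ϖ p)

include S

theorem mul_cancel {a b : C} (h : ϖ * a = ϖ * b) : a = b :=
  (mul_cancel_left_mem_nonZeroDivisors S.nzd).1 h

theorem pow_mul_cancel (n : ℕ) {a b : C} (h : ϖ ^ n * a = ϖ ^ n * b) : a = b :=
  (mul_cancel_left_mem_nonZeroDivisors (pow_mem S.nzd n)).1 h

theorem exists_sep [Finite ι] (i : ι) : ∃ a, a ∉ p i ∧ ∀ j, p j ≠ p i → a ∈ p j := by
  classical
  have := Fintype.ofFinite ι
  have hi := S.prime i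
  have h : ∀ j, ∃ a, a ∉ p i ∧ (p j ≠ p i → a ∈ p j) := by
    intro j
    by_cases hj : p j = p i
    · exact ⟨1, one_notMem, fun h => absurd hj h⟩
    · have : ¬ p j ≤ p i := fun h => hj (S.incomp j i h)
      obtain ⟨a, ha, ha'⟩ := SetLike.not_le_iff_exists.1 this
      exact ⟨a, ha', fun _ => ha⟩
  choose a ha ha' using h
  refine ⟨∏ j, a j, prod_notMem _ _ fun j _ => ha j, fun j hj => ?_⟩
  exact Ideal.mem_of_dvd _ (Finset.dvd_prod_of_mem a (Finset.mem_univ j)) (ha' j hj)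

theorem uni [Finite ι] (i : ι) {c : C} (hc : c ∈ p i) : ∃ a, a ∉ p i ∧ ∃ b, a * c = ϖ * b := by
  obtain ⟨a, ha, ha'⟩ := S.exists_sep i
  refine ⟨a, ha, ?_⟩
  obtain ⟨b, hb⟩ := S.dvd (a * c) (fun j => by
    by_cases hj : p j = p i
    · rw [hj]; exact Ideal.mul_mem_left _ _ hc
    · exact Ideal.mul_mem_right _ _ (ha' j hj))
  exact ⟨b, hb⟩

/-- dichotomy: an element is either divisible by `ϖ ^ m` at `p i` or has an order `< m`. -/
theorem dich [Finite ι] (i : ι) (c : C) (m : ℕ) : (∃ a, a ∉ p i ∧ ϖ ^ m ∣ a * c) ∨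
    ∃ n < m, ∃ a, a ∉ p i ∧ ∃ b, b ∉ p i ∧ a * c = ϖ ^ n * b := by
  have hi := S.prime i
  induction m with
  | zero => exact Or.inl ⟨1, one_notMem, by simp⟩
  | succ m ih =>
    rcases ih with ⟨a, ha, b, hb⟩ | ⟨n, hn, h⟩
    · by_cases hbp : b ∈ p i
      · obtain ⟨a', ha', b', hb'⟩ := S.uni i hbp
        refine Or.inl ⟨a' * a, mul_notMem ha' ha, b', ?_⟩
        rw [mul_assoc, hb, pow_succ]
        linear_combination ϖ ^ m * hb'
      · exact Or.inr ⟨m, Nat.lt_succ_self m, a, ha, b, hbp, hb⟩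
    · exact Or.inr ⟨n, Nat.lt_succ_of_lt hn, h⟩

end Sys

section Module

variable {C : Type*} [CommRing C] {ϖ : C} {ι : Type*} {p : ι → Ideal C} (S : Sys ϖ p)
  {K : Type*} [CommRing K] [Algebra C K] [IsLocalization.Away ϖ K]
  {L : Type*} [AddCommGroup L] [Module C L] [Module K L] [IsScalarTower C K L]

variable (ϖ K) in
/-- the unit `ϖ` of `K`. -/
noncomputable def pu : Kˣ := (IsLocalization.Away.algebraMap_isUnit (S := K) ϖ).unit

variable (ϖ K) in
theorem coe_pu : ((pu ϖ K : Kˣ) : K) = algebraMap C K ϖ := IsUnit.unit_spec _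

omit [IsScalarTower C K L] in
variable (K) in
theorem pu_smul [IsScalarTower C K L] (t : L) : (pu ϖ K) • t = ϖ • t := by
  rw [Units.smul_def, coe_pu, algebraMap_smul]

variable (K) in
theorem pu_pow_smul (n : ℕ) (t : L) : ((pu ϖ K) ^ n) • t = ϖ ^ n • t := by
  rw [Units.smul_def, Units.val_pow_eq_pow_val, coe_pu, ← map_pow, algebraMap_smul]

variable (ϖ K) in
include K in
theorem smul_inj {t u : L} (h : ϖ • t = ϖ • u) : t = u := by
  rw [← pu_smul K, ← pu_smul K] at h
  exact smul_left_cancel _ h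

variable (ϖ K) in
include K in
theorem pow_smul_inj (n : ℕ) {t u : L} (h : ϖ ^ n • t = ϖ ^ n • u) : t = u := by
  rw [← pu_pow_smul K, ← pu_pow_smul K] at h
  exact smul_left_cancel _ h

variable (ϖ K) in
include K in
theorem exists_smul_eq (t : L) : ∃ u : L, ϖ • u = t :=
  ⟨(pu ϖ K)⁻¹ • t, by rw [← pu_smul K, smul_inv_smul]⟩

variable (ϖ K) in
include K in
theorem exists_pow_smul_eq (n : ℕ) (t : L) : ∃ u : L, ϖ ^ n • u = t :=
  ⟨((pu ϖ K) ^ n)⁻¹ • t, by rw [← pu_pow_smul K, smul_inv_smul]⟩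

omit [IsLocalization.Away ϖ K] in
theorem _root_.K794.Lat.Eqv.unit_smul {p : Ideal C} {g t : L} (h : Eqv p g t) (u : Kˣ) :
    Eqv p (u • g) (u • t) := by
  obtain ⟨a, ha, b, hb, hab⟩ := h
  refine ⟨a, ha, b, hb, ?_⟩
  rw [smul_comm a u t, hab, smul_comm u b g]

omit [IsLocalization.Away ϖ K] in
theorem _root_.K794.Lat.Le.unit_smul {p : Ideal C} {g t : L} (h : Le p g t) (u : Kˣ) :
    Le p (u • g) (u • t) := by
  obtain ⟨a, ha, b, hab⟩ := h
  refine ⟨a, ha, b, ?_⟩
  rw [smul_comm a u t, hab, smul_comm u b g]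

include S in
theorem algebraMap_injective : Function.Injective (algebraMap C K) :=
  IsLocalization.injective (M := Submonoid.powers ϖ) K (by
    rintro _ ⟨n, rfl⟩
    exact pow_mem S.nzd n)

omit [Algebra C K] [IsLocalization.Away ϖ K] in
theorem exists_pow_mul [Algebra C K] [IsLocalization.Away ϖ K] (h : K) :
    ∃ (n : ℕ) (c : C), algebraMap C K (ϖ ^ n) * h = algebraMap C K c := by
  obtain ⟨⟨c, s⟩, hs⟩ := IsLocalization.surj (Submonoid.powers ϖ) h
  obtain ⟨n, hn⟩ := s.2
  refine ⟨n, c, ?_⟩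
  rw [mul_comm, ← hs]
  congr 2
  
include S in
/-- (N1) an element of `C[1/ϖ]` which is integral at all `p i` is in `C`. -/
theorem exists_of_forall (h : K) (hh : ∀ i, ∃ a, a ∉ p i ∧ ∃ b, algebraMap C K a * h = algebraMap C K b) :
    ∃ c, algebraMap C K c = h := by
  obtain ⟨n, c, hc⟩ := exists_pow_mul (ϖ := ϖ) h
  induction n generalizing c with
  | zero => exact ⟨c, by rw [← hc]; simp⟩
  | succ n ih =>
    have hmem : ∀ i, c ∈ p i := by
      intro i
      obtain ⟨a, ha, b, hb⟩ := hh i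
      have h1 : a * c = ϖ ^ (n + 1) * b := by
        apply algebraMap_injective S (K := K)
        rw [map_mul, map_mul, ← hc, ← hb]
        ring
      have := S.prime i
      have h2 : a * c ∈ p i := by
        rw [h1, pow_succ, mul_assoc]
        exact Ideal.mul_mem_left _ _ (Ideal.mul_mem_right _ _ (S.mem i))
      exact ((S.prime i).mem_or_mem h2).resolve_left ha
    obtain ⟨c', hc'⟩ := S.dvd c hmem
    refine ih c' ?_
    have h3 := IsLocalization.Away.algebraMap_isUnit (S := K) ϖ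
    apply h3.mul_left_cancel
    rw [← map_mul, ← hc', ← hc, pow_succ, map_mul]
    ring

include S in
theorem exists_bound [Finite ι] {n : ℕ} (x : ι → Fin n → K) :
    ∃ N : ℕ, ∀ i j, ∃ c, algebraMap C K (ϖ ^ N) * x i j = algebraMap C K c := by
  classical
  have := Fintype.ofFinite ι
  choose N c hc using fun i j => exists_pow_mul (ϖ := ϖ) (x i j)
  refine ⟨∑ i, ∑ j, N i j, fun i j => ?_⟩
  have h1 : N i j ≤ ∑ i, ∑ j, N i j := (Finset.single_le_sum (f := fun j => N i j) (fun _ _ => Nat.zero_le _)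
    (Finset.mem_univ j)).trans (Finset.single_le_sum (f := fun i => ∑ j, N i j) (fun _ _ => Nat.zero_le _)
    (Finset.mem_univ i))
  obtain ⟨k, hk⟩ := Nat.exists_eq_add_of_le h1
  refine ⟨ϖ ^ k * c i j, ?_⟩
  rw [hk, pow_add, map_mul, map_mul, ← hc i j]
  ring

theorem exists_dualBasis [Module.Invertible K L] :
    ∃ (n : ℕ) (e : Fin n → L) (f : Fin n → L →ₗ[K] K), (∀ t, ∑ j, f j t • e j = t) ∧
      ∑ j, f j (e j) = 1 := by
  obtain ⟨n, π, hπ⟩ := Module.Finite.exists_fin' K L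
  obtain ⟨s, hs⟩ := Module.projective_lifting_property π LinearMap.id hπ
  refine ⟨n, fun j => π (Pi.single j 1), fun j => (LinearMap.proj j).comp s, ?_, ?_⟩
  · intro t
    have h1 : t = π (s t) := by
      have := congrArg (fun φ => φ t) hs
      simpa using this.symm
    conv_rhs => rw [h1, ← Finset.univ_sum_single (s t), map_sum]
    refine Finset.sum_congr rfl fun j _ => ?_
    rw [← map_smul]
    congr 1
    ext k
    by_cases h : k = j
    · subst h; simp
    · simp [h]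
  · have h2 : ∀ t : L, (∑ j, (LinearMap.proj (R := K) j).comp s (π (Pi.single j 1))) • t = (1 : K) • t := by
      intro t
      rw [Finset.sum_smul, one_smul]
      have h1 : t = π (s t) := by
        have := congrArg (fun φ => φ t) hs
        simpa using this.symm
      conv_rhs => rw [h1, ← Finset.univ_sum_single (s t), map_sum]
      refine Finset.sum_congr rfl fun j _ => ?_
      rw [K577.InvLoc.invertible_smul_comm]
      rw [LinearMap.comp_apply, ← map_smul]
      congr 1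
      ext k
      by_cases h : k = j
      · subst h; simp
      · simp [h]
    exact FaithfulSMul.eq_of_smul_eq_smul h2

include S in
/-- Finiteness of the lattice given by local generators at the primes over `ϖ`. -/
theorem fg_iInf_lat [IsNoetherianRing C] [Finite ι] [Module.Invertible K L] (g : ι → L) :
    (⨅ i, @lat C _ L _ _ (p i) (S.prime i) (g i)).FG := by
  obtain ⟨n, e, f, hef, -⟩ := exists_dualBasis (K := K) (L := L)
  obtain ⟨N, hN⟩ := exists_bound S (K := K) (fun i j => f j (g i))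
  let W : Submodule C L := Submodule.span C (Set.range e)
  have hW : IsNoetherian C W := by
    have : Module.Finite C W := Module.Finite.span_of_finite C (Set.finite_range e)
    infer_instance
  let φ : L →ₗ[C] L := LinearMap.lsmul C L (ϖ ^ N)
  have hφ : Function.Injective φ := fun t u h => pow_smul_inj ϖ K N h
  have key : (⨅ i, @lat C _ L _ _ (p i) (S.prime i) (g i)).map φ ≤ W := by
    rintro _ ⟨t, ht, rfl⟩
    have ht' : ∀ i, Le (p i) (g i) t := fun i => (Submodule.mem_iInf _).1 ht i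
    have h1 : ∀ j, ∃ c, algebraMap C K c = algebraMap C K (ϖ ^ N) * f j t := by
      intro j
      apply exists_of_forall S
      intro i
      obtain ⟨a, ha, b, hab⟩ := ht' i
      obtain ⟨c, hc⟩ := hN i j
      refine ⟨a, ha, b * c, ?_⟩
      have h2 := congrArg (f j) hab
      rw [← algebraMap_smul K a, ← algebraMap_smul K b, map_smul, map_smul, smul_eq_mul, smul_eq_mul] at h2
      rw [map_mul, ← hc]
      linear_combination algebraMap C K (ϖ ^ N) * h2
    choose c hc using h1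
    change ϖ ^ N • t ∈ W
    rw [← hef t, Finset.smul_sum]
    refine Submodule.sum_mem _ fun j _ => ?_
    have h3 : ϖ ^ N • f j t • e j = c j • e j := by
      rw [← algebraMap_smul K (ϖ ^ N), ← algebraMap_smul K (c j), hc, mul_smul]
    rw [h3]
    exact W.smul_mem _ (Submodule.subset_span (Set.mem_range_self j))
  have h4 : ((⨅ i, @lat C _ L _ _ (p i) (S.prime i) (g i)).map φ).FG := by
    have h5 := IsNoetherian.noetherian (((⨅ i, @lat C _ L _ _ (p i) (S.prime i) (g i)).map φ).comap W.subtype)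
    have h6 := h5.map W.subtype
    rwa [Submodule.map_comap_subtype, inf_eq_right.2 key] at h6
  exact Submodule.fg_of_fg_map_injective φ hφ h4

include S in
theorem exists_gen [Finite ι] [Module.Invertible K L] (i : ι) : ∃ g : L, Gen ϖ (p i) g := by
  classical
  have hpi := S.prime i
  obtain ⟨n, e, f, hef, hfe⟩ := exists_dualBasis (K := K) (L := L)
  obtain ⟨N, hN⟩ := exists_bound S (K := K) (fun _ j => f j (e j))
  choose c hc using hN i
  have hsum : ∑ j, c j = ϖ ^ N := by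
    apply algebraMap_injective S (K := K)
    rw [map_sum]
    calc ∑ j, algebraMap C K (c j) = ∑ j, algebraMap C K (ϖ ^ N) * f j (e j) :=
          Finset.sum_congr rfl fun j _ => (hc j).symm
      _ = algebraMap C K (ϖ ^ N) := by rw [← Finset.mul_sum, hfe, mul_one]
  have hj : ∃ j, ¬ ∃ a, a ∉ p i ∧ ϖ ^ (N + 1) ∣ a * c j := by
    by_contra hcon
    push Not at hcon
    choose a ha ha' using hcon
    have h1 : ϖ ^ (N + 1) ∣ (∏ j, a j) * ϖ ^ N := by
      rw [← hsum, Finset.mul_sum]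
      refine Finset.dvd_sum fun j _ => ?_
      obtain ⟨b, hb⟩ := Finset.dvd_prod_of_mem a (Finset.mem_univ j)
      rw [hb, mul_right_comm]
      exact (ha' j).mul_right b
    obtain ⟨b, hb⟩ := h1
    have h2 : ∏ j, a j = ϖ * b := by
      apply S.pow_mul_cancel N
      rw [mul_comm, hb, pow_succ]
      ring
    exact prod_notMem (p := p i) Finset.univ a (fun j _ => ha j) (by
      rw [h2]; exact Ideal.mul_mem_right _ _ (S.mem i))
  obtain ⟨j, hj⟩ := hj
  obtain ⟨m, -, a, ha, b, hb, hab⟩ := (S.dich i (c j) (N + 1)).resolve_left hj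
  refine ⟨e j, ⟨fun t => ?_, fun d hd => ?_⟩⟩
  · obtain ⟨k, d, hd⟩ := exists_pow_mul (ϖ := ϖ) (f j t)
    refine ⟨m + k, b, hb, a * ϖ ^ N * d, ?_⟩
    have h1 : f j (e j) • t = f j t • e j := (K577.InvLoc.invertible_smul_comm (f j) (e j) t)
    have h2 : algebraMap C K (c j) • t = (algebraMap C K (ϖ ^ N) * f j t) • e j := by
      rw [← hc j, mul_smul, h1, mul_smul]
    rw [← algebraMap_smul K b, ← algebraMap_smul K (ϖ ^ (m + k)) t, ← algebraMap_smul K (a * ϖ ^ N * d)]
    have h3 : algebraMap C K b • algebraMap C K (ϖ ^ (m + k)) • t =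
      (algebraMap C K (ϖ ^ k) * algebraMap C K a) • algebraMap C K (c j) • t := by
      rw [smul_smul, smul_smul]
      congr 1
      have := congrArg (algebraMap C K) hab
      rw [map_mul, map_mul] at this
      rw [pow_add, map_mul]
      linear_combination (- algebraMap C K (ϖ ^ k)) * this
    rw [h3, h2, smul_smul, map_mul, map_mul, ← hd]
    congr 1
    ring
  · refine ⟨b, hb, ?_⟩
    have h1 := congrArg (f j) hd
    rw [← algebraMap_smul K d, map_smul, map_zero, smul_eq_mul] at h1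
    have h2 : d * c j = 0 := by
      apply algebraMap_injective S (K := K)
      rw [map_mul, ← hc j, map_zero]
      linear_combination algebraMap C K (ϖ ^ N) * h1
    apply S.pow_mul_cancel m
    rw [mul_zero]
    linear_combination (- d) * hab + a * h2

include S in
/-- If `c` divides a power of `ϖ` at `p i`, it has an order. -/
theorem order_of_dvd [Finite ι] (i : ι) (c b a : C) (n : ℕ) (ha : a ∉ p i) (h : a * ϖ ^ n = b * c) :
    ∃ k, ∃ a, a ∉ p i ∧ ∃ b, b ∉ p i ∧ a * c = ϖ ^ k * b := by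
  have hpi := S.prime i
  rcases S.dich i c (n + 1) with ⟨a', ha', d, hd⟩ | ⟨k, -, h'⟩
  · exfalso
    have h1 : a * a' = ϖ * (b * d) := by
      apply S.pow_mul_cancel n
      linear_combination a' * h + b * hd
    exact mul_notMem (p := p i) ha ha' (by rw [h1]; exact Ideal.mul_mem_right _ _ (S.mem i))
  · exact ⟨k, h'⟩

include S in
/-- Two generators at `p i` differ by a power of `ϖ`. -/
theorem exists_zpow [Finite ι] (i : ι) {g g' : L} (hg : Gen ϖ (p i) g) (hg' : Gen ϖ (p i) g') :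
    ∃ n : ℤ, Eqv (p i) ((pu ϖ K) ^ n • g) g' := by
  have hpi := S.prime i
  obtain ⟨n, a, ha, b, hab⟩ := hg.exists_le g'
  obtain ⟨m, a', ha', b', hab'⟩ := hg'.exists_le g
  have h1 : (a * a' * ϖ ^ (n + m) - b' * b) • g = 0 := by
    rw [sub_smul, sub_eq_zero, pow_add]
    calc (a * a' * (ϖ ^ n * ϖ ^ m)) • g = (a * ϖ ^ n) • a' • ϖ ^ m • g := by
          rw [smul_smul, smul_smul]; congr 1; ring
      _ = b' • a • ϖ ^ n • g' := by
          rw [hab', smul_smul, smul_smul, smul_smul]; congr 1; ring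
      _ = _ := by rw [hab, smul_smul]
  obtain ⟨d, hd, hd'⟩ := hg.torsion_free _ h1
  obtain ⟨k, x, hx, y, hy, hxy⟩ := order_of_dvd S i b (d * b') (d * a * a') (n + m)
    (mul_notMem (mul_notMem hd ha) ha') (by linear_combination hd')
  refine ⟨(k : ℤ) - n, ?_⟩
  have h2 : Eqv (p i) (ϖ ^ k • g) (ϖ ^ n • g') := by
    refine ⟨x * a, mul_notMem hx ha, y, hy, ?_⟩
    rw [mul_smul, hab, smul_smul, hxy, smul_smul, mul_comm]
  have h3 := h2.unit_smul ((pu ϖ K) ^ (-(n : ℤ)))
  rw [← pu_pow_smul K, ← pu_pow_smul K, smul_smul, smul_smul] at h3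
  have e1 : (pu ϖ K) ^ (-(n : ℤ)) * (pu ϖ K) ^ k = (pu ϖ K) ^ ((k : ℤ) - n) := by
    rw [← zpow_natCast (pu ϖ K) k, ← zpow_add]
    congr 1
    ring
  have e2 : (pu ϖ K) ^ (-(n : ℤ)) * (pu ϖ K) ^ n = 1 := by
    rw [← zpow_natCast (pu ϖ K) n, ← zpow_add]
    simp
  rw [e1, e2, one_smul] at h3
  exact h3

theorem _root_.K794.Lat.Gen.of_eqv {p : Ideal C} [p.IsPrime] {g t : L} (hg : Gen ϖ p g) (h : Eqv p g t) :
    Gen ϖ p t := by
  obtain ⟨a, ha, b, hb, hab⟩ := h
  refine ⟨fun u => ?_, fun c hc => ?_⟩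
  · obtain ⟨n, hn⟩ := hg.exists_le u
    exact ⟨n, Le.trans (Eqv.symm ⟨a, ha, b, hb, hab⟩).le hn⟩
  · obtain ⟨d, hd, hd'⟩ := hg.torsion_free (b * c) (by
      rw [mul_comm, mul_smul, ← hab, smul_comm, hc, smul_zero])
    exact ⟨d * b, mul_notMem hd hb, by rw [mul_assoc]; exact hd'⟩

theorem _root_.K794.Lat.Gen.unit_smul {p : Ideal C} {g : L} (hg : Gen ϖ p g) (u : Kˣ) :
    Gen ϖ p (u • g) := by
  refine ⟨fun t => ?_, fun c hc => ?_⟩
  · obtain ⟨n, hn⟩ := hg.exists_le (u⁻¹ • t)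
    have := hn.unit_smul u
    rw [smul_comm u (ϖ ^ n) (u⁻¹ • t), smul_inv_smul] at this
    exact ⟨n, this⟩
  · apply hg.torsion_free
    have h1 : u • (c • g) = 0 := by rw [smul_comm, hc]
    rw [← inv_smul_smul u (c • g), h1, smul_zero]

/-- `t` generates `L` over `C[1/ϖ]`. -/
def IsGenerator (ϖ : C) (t : L) : Prop := ∀ u : L, ∃ (n : ℕ) (c : C), ϖ ^ n • u = c • t

end Module

section Cyc

variable {C : Type*} [CommRing C] {W : Type*} [AddCommGroup W] [Module C W]

/-- comparison of two elements. -/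
theorem comparable {p : Ideal C} {M M' : Submodule C W} 
    (hV : ∀ a b : C, (∃ c, b - c * a ∈ p) ∨ ∃ c, a - c * b ∈ p)
    (hK : ∀ c ∈ p, ∀ t ∈ M, c • t ∈ M') (hT : ∀ a, a ∉ p → ∀ t ∈ M, a • t ∈ M' → t ∈ M')
    (hR : ∀ t ∈ M, ∀ t' ∈ M, ∃ a b : C, (a ∉ p ∨ b ∉ p) ∧ a • t - b • t' ∈ M')
    {t t' : W} (ht : t ∈ M) (ht' : t' ∈ M) : (∃ c : C, t - c • t' ∈ M') ∨ ∃ c : C, t' - c • t ∈ M' := by
  obtain ⟨a, b, hab, h⟩ := hR t ht t' ht'
  rcases hV a b with ⟨c, hc⟩ | ⟨c, hc⟩
  · left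
    refine ⟨c, ?_⟩
    have ha : a ∉ p := by
      intro ha
      have hb : b ∉ p := hab.resolve_left (not_not.2 ha)
      apply hb
      have := p.add_mem hc (p.mul_mem_left c ha)
      rwa [sub_add_cancel] at this
    apply hT a ha _ (M.sub_mem ht (M.smul_mem c ht'))
    have h1 := M'.add_mem h (hK _ hc t' ht')
    have h2 : a • t - b • t' + (b - c * a) • t' = a • (t - c • t') := by
      rw [sub_smul, smul_sub, smul_smul, mul_comm c a]
      abel
    rwa [h2] at h1
  · right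
    refine ⟨c, ?_⟩
    have hb : b ∉ p := by
      intro hb
      have ha : a ∉ p := hab.resolve_right (not_not.2 hb)
      apply ha
      have := p.add_mem hc (p.mul_mem_left c hb)
      rwa [sub_add_cancel] at this
    apply hT b hb _ (M.sub_mem ht' (M.smul_mem c ht))
    have h1 := M'.sub_mem (hK _ hc t ht) h
    have h2 : (a - c * b) • t - (a • t - b • t') = b • (t' - c • t) := by
      rw [sub_smul, smul_sub, smul_smul, mul_comm c b]
      abel
    rwa [h2] at h1

/-- cyclicity of `M / M'`. -/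
theorem cyc {p : Ideal C} {M M' : Submodule C W} (hfg : M.FG)
    (hV : ∀ a b : C, (∃ c, b - c * a ∈ p) ∨ ∃ c, a - c * b ∈ p)
    (hK : ∀ c ∈ p, ∀ t ∈ M, c • t ∈ M') (hT : ∀ a, a ∉ p → ∀ t ∈ M, a • t ∈ M' → t ∈ M')
    (hR : ∀ t ∈ M, ∀ t' ∈ M, ∃ a b : C, (a ∉ p ∨ b ∉ p) ∧ a • t - b • t' ∈ M') :
    ∃ t ∈ M, ∀ u ∈ M, ∃ c : C, u - c • t ∈ M' := by
  classical
  have key : ∀ s : Finset W, (∀ x ∈ s, x ∈ M) → ∃ t ∈ M, ∀ u ∈ s, ∃ c : C, u - c • t ∈ M' := by
    intro s
    induction s using Finset.induction_on with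
    | empty => exact fun _ => ⟨0, M.zero_mem, by simp⟩
    | insert x s hx ih =>
      intro hs
      obtain ⟨t, ht, ht'⟩ := ih fun y hy => hs y (Finset.mem_insert_of_mem hy)
      have hxM := hs x (Finset.mem_insert_self x s)
      rcases comparable hV hK hT hR hxM ht with ⟨c, hc⟩ | ⟨c, hc⟩
      · refine ⟨t, ht, fun u hu => ?_⟩
        rcases Finset.mem_insert.1 hu with rfl | hu
        · exact ⟨c, hc⟩
        · exact ht' u hu
      · refine ⟨x, hxM, fun u hu => ?_⟩
        rcases Finset.mem_insert.1 hu with rfl | hu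
        · exact ⟨1, by simp⟩
        · obtain ⟨d, hd⟩ := ht' u hu
          refine ⟨d * c, ?_⟩
          have h1 := M'.add_mem hd (M'.smul_mem d hc)
          have h2 : u - d • t + d • (t - c • x) = u - (d * c) • x := by
            rw [smul_sub, smul_smul]; abel
          rwa [h2] at h1
  obtain ⟨s, hs⟩ := hfg
  obtain ⟨t, ht, h⟩ := key s (fun x hx => by rw [← hs]; exact Submodule.subset_span hx)
  refine ⟨t, ht, ?_⟩
  have h1 : M ≤ Submodule.span C {t} ⊔ M' := by
    rw [← hs, Submodule.span_le]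
    intro u hu
    obtain ⟨c, hc⟩ := h u hu
    rw [SetLike.mem_coe, ← sub_add_cancel u (c • t), add_comm]
    exact Submodule.add_mem_sup (Submodule.smul_mem _ _ (Submodule.mem_span_singleton_self t)) hc
  intro u hu
  obtain ⟨v, hv, w, hw, rfl⟩ := Submodule.mem_sup.1 (h1 hu)
  obtain ⟨c, rfl⟩ := Submodule.mem_span_singleton.1 hv
  exact ⟨c, by simpa using hw⟩

/-- the valuation property of `C ⧸ p` from a principal maximal ideal. -/
theorem val_of_isPrincipal [IsNoetherianRing C] [IsLocalRing C] (p : Ideal C) [p.IsPrime] (x : C)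
    (hx : x ∈ IsLocalRing.maximalIdeal C)
    (h : IsLocalRing.maximalIdeal C ≤ Ideal.span {x} ⊔ p) (a b : C) : (∃ c, b - c * a ∈ p) ∨ ∃ c, a - c * b ∈ p := by
  have : Nontrivial (C ⧸ p) := Ideal.Quotient.nontrivial_iff.mpr (Ideal.IsPrime.ne_top ‹_›)
  have hloc : IsLocalRing (C ⧸ p) :=
    IsLocalRing.of_surjective' (Ideal.Quotient.mk p) Ideal.Quotient.mk_surjective
  have hN : IsNoetherianRing (C ⧸ p) := isNoetherianRing_of_surjective C (C ⧸ p) (Ideal.Quotient.mk p) Ideal.Quotient.mk_surjective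
  have hlh : IsLocalHom (Ideal.Quotient.mk p) := IsLocalHom.of_surjective _ Ideal.Quotient.mk_surjective
  have hdvr : ValuationRing (C ⧸ p) := by
    refine ((tfae_of_isNoetherianRing_of_isLocalRing_of_isDomain (R := C ⧸ p)).out 1 4).2 ?_
    refine ⟨Ideal.Quotient.mk p x, le_antisymm ?_ ?_⟩
    · intro y hy
      obtain ⟨z, rfl⟩ := Ideal.Quotient.mk_surjective y
      have hz : z ∈ IsLocalRing.maximalIdeal C := by
        rw [IsLocalRing.mem_maximalIdeal, mem_nonunits_iff] at hy ⊢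
        exact fun hu => hy (hu.map _)
      obtain ⟨v, hv, w, hw, rfl⟩ := Submodule.mem_sup.1 (h hz)
      obtain ⟨c, rfl⟩ := Ideal.mem_span_singleton'.1 hv
      rw [map_add, Ideal.Quotient.eq_zero_iff_mem.2 hw, add_zero, map_mul]
      exact Submodule.mem_span_singleton.2 ⟨_, rfl⟩
    · rw [Submodule.span_singleton_le_iff_mem]
      rw [IsLocalRing.mem_maximalIdeal, mem_nonunits_iff] at hx ⊢
      intro hu
      exact hx (isUnit_of_map_unit _ _ hu)
  rcases ValuationRing.dvd_total (Ideal.Quotient.mk p a) (Ideal.Quotient.mk p b) with ⟨c, hc⟩ | ⟨c, hc⟩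
  · obtain ⟨c, rfl⟩ := Ideal.Quotient.mk_surjective c
    left
    refine ⟨c, ?_⟩
    rw [← map_mul, Ideal.Quotient.eq, mul_comm] at hc
    exact hc
  · obtain ⟨c, rfl⟩ := Ideal.Quotient.mk_surjective c
    right
    refine ⟨c, ?_⟩
    rw [← map_mul, Ideal.Quotient.eq, mul_comm] at hc
    exact hc

end Cyc

end K794.Lat
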