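import Groth.Agent.SemiFact.K794.Lat
import Mathlib.RingTheory.Nakayama

/-!
# Generators of lattices; the case where the special fibre is a discrete valuation ring
-/

set_option autoImplicit false
set_option linter.unusedSectionVars false

open IsLocalRing

namespace K794.Lat

variable {C : Type*} [CommRing C] {ϖ : C} {ι : Type*} {p : ι → Ideal C} (S : Sys ϖ p)
  {K : Type*} [CommRing K] [Algebra C K] [IsLocalization.Away ϖ K]
  {L : Type*} [AddCommGroup L] [Module C L] [Module K L] [IsScalarTower C K L]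

theorem Le.pow_smul_of_le {p : Ideal C} {g t : L} {n m : ℕ} (h : Le p g (ϖ ^ n • t)) (hnm : n ≤ m) :
    Le p g (ϖ ^ m • t) := by
  obtain ⟨k, rfl⟩ := Nat.exists_eq_add_of_le hnm
  rw [pow_add, mul_comm, mul_smul]
  exact h.smul _

include S in
/-- a multiple of `g i` lies in the lattice. -/
theorem exists_smul_mem [Finite ι] (g : ι → L) (hg : ∀ i, Gen ϖ (p i) (g i))
    (hgg : ∀ i j, p i = p j → Eqv (p i) (g i) (g j)) (i : ι) : ∃ s, s ∉ p i ∧ ∀ j, Le (p j) (g j) (s • g i) := by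
  classical
  have := Fintype.ofFinite ι
  have hpi := S.prime i
  obtain ⟨a, ha, ha'⟩ := S.exists_sep i
  choose n hn using fun j => (hg j).exists_le (g i)
  refine ⟨a ^ (∑ j, n j), pow_notMem ha _, fun j => ?_⟩
  by_cases hj : p j = p i
  · have h1 := (hgg j i hj).le
    exact h1.smul _
  · have hpj := S.prime j
    obtain ⟨c, hc, b, hcb⟩ := S.uni j (ha' j hj)
    apply Le.of_smul (pow_notMem hc (∑ j, n j))
    rw [smul_smul, ← mul_pow, hcb, mul_pow, mul_comm, mul_smul]
    exact ((hn j).pow_smul_of_le (Finset.single_le_sum (f := n) (fun _ _ => Nat.zero_le _) (Finset.mem_univ j))).smul _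

include S in
/-- A cyclic lattice is generated by a generator of `L` with the prescribed orders. -/
theorem gen_of_cyclic [Finite ι] (g : ι → L) (hg : ∀ i, Gen ϖ (p i) (g i))
    (hgg : ∀ i j, p i = p j → Eqv (p i) (g i) (g j)) (t : L) (ht : ∀ i, Le (p i) (g i) t)
    (h : ∀ u, (∀ i, Le (p i) (g i) u) → ∃ c : C, u = c • t) :
    IsGenerator ϖ t ∧ ∀ i, Eqv (p i) (g i) t := by
  classical
  have := Fintype.ofFinite ι
  refine ⟨fun u => ?_, fun i => ?_⟩
  · choose n hn using fun j => (hg j).exists_le u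
    obtain ⟨c, hc⟩ := h (ϖ ^ (∑ j, n j) • u) (fun j => (hn j).pow_smul_of_le
      (Finset.single_le_sum (f := n) (fun _ _ => Nat.zero_le _) (Finset.mem_univ j)))
    exact ⟨_, c, hc⟩
  · have hpi := S.prime i
    obtain ⟨s, hs, hs'⟩ := exists_smul_mem S g hg hgg i
    obtain ⟨c, hc⟩ := h _ hs'
    refine ⟨c, ?_, s, hs, hc.symm⟩
    intro hcp
    obtain ⟨a, ha, b, hab⟩ := ht i
    have h1 : (a * s - c * b) • g i = 0 := by
      rw [sub_smul, mul_smul, mul_smul, hc, ← hab, smul_comm, sub_self]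
    obtain ⟨d, hd, hd'⟩ := (hg i).torsion_free _ h1
    apply mul_notMem hd (mul_notMem ha hs)
    have h2 : d * (a * s) = d * b * c := by linear_combination hd'
    rw [h2]
    exact Ideal.mul_mem_left _ _ hcp

/-- the relation between elements of the lattice at a prime. -/
theorem exists_rel {p : Ideal C} [p.IsPrime] (hu : ∀ c ∈ p, ∃ a, a ∉ p ∧ ∃ b, a * c = ϖ * b) (g : L)
    {t t' : L} (ht : Le p g t) (ht' : Le p g t') :
    ∃ a b : C, (a ∉ p ∨ b ∉ p) ∧ Le p (ϖ • g) (a • t - b • t') := by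
  obtain ⟨a, ha, b, hab⟩ := ht
  obtain ⟨a', ha', b', hab'⟩ := ht'
  by_cases hb : b ∈ p
  · obtain ⟨c, hc, d, hd⟩ := hu b hb
    refine ⟨1, 0, Or.inl one_notMem, c * a, mul_notMem hc ha, d, ?_⟩
    rw [one_smul, zero_smul, sub_zero, mul_smul, hab, smul_smul, hd, smul_smul, mul_comm]
  · refine ⟨b' * a, b * a', Or.inr (mul_notMem hb ha'), ?_⟩
    have : (b' * a) • t - (b * a') • t' = 0 := by
      rw [mul_smul, mul_smul, hab, hab', smul_comm, sub_self]
    rw [this]
    exact Le.zero _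

theorem le_pi_of_mem {p : Ideal C} [p.IsPrime] (hu : ∀ c ∈ p, ∃ a, a ∉ p ∧ ∃ b, a * c = ϖ * b) {g t : L}
    (ht : Le p g t) {c : C} (hc : c ∈ p) : Le p (ϖ • g) (c • t) := by
  obtain ⟨a, ha, b, hab⟩ := ht
  obtain ⟨a', ha', b', hab'⟩ := hu c hc
  refine ⟨a' * a, mul_notMem ha' ha, b' * b, ?_⟩
  rw [smul_smul, show a' * a * c = (a' * c) * a by ring, hab', mul_smul, hab, smul_smul, smul_smul]
  congr 1
  ring

variable (ϖ K) in
include K in
theorem le_pi_iff {p : Ideal C} {g t : L} : Le p (ϖ • g) (ϖ • t) ↔ Le p g t := by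
  constructor
  · rintro ⟨a, ha, b, hab⟩
    refine ⟨a, ha, b, smul_inj ϖ K ?_⟩
    rw [smul_comm, hab, smul_comm]
  · rintro ⟨a, ha, b, hab⟩
    exact ⟨a, ha, b, by rw [smul_comm, hab, smul_comm]⟩

variable (K) in
include K in
/-- The case of a regular point of a one-dimensional special fibre. -/
theorem exists_generator_of_prime [IsNoetherianRing C] [IsLocalRing C] [Module.Invertible K L]
    (hnzd : ϖ ∈ nonZeroDivisors C) (hϖ : ϖ ∈ maximalIdeal C) (hp : (Ideal.span {ϖ}).IsPrime) (x : C)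
    (hx : x ∈ maximalIdeal C)
    (hm : maximalIdeal C ≤ Ideal.span {x} ⊔ Ideal.span {ϖ}) (g : L) (hg : Gen ϖ (Ideal.span {ϖ}) g) :
    ∃ t : L, IsGenerator ϖ t ∧ Eqv (Ideal.span {ϖ}) g t := by
  set p : Ideal C := Ideal.span {ϖ} with hpdef
  have S : Sys ϖ (fun _ : Unit => p) := 
    { nzd := hnzd
      prime := fun _ => hp
      mem := fun _ => Ideal.mem_span_singleton_self _
      dvd := fun c hc => Ideal.mem_span_singleton.1 (hc ())
      incomp := fun _ _ _ => rfl }
  have hu : ∀ c ∈ p, ∃ a, a ∉ p ∧ ∃ b, a * c = ϖ * b := by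
    intro c hc
    obtain ⟨b, hb⟩ := Ideal.mem_span_singleton.1 hc
    exact ⟨1, one_notMem, b, by rw [one_mul]; exact hb⟩
  have hfg : (lat p g).FG := by
    have h1 := fg_iInf_lat S (K := K) (fun _ => g)
    have e : (⨅ i, @lat C _ L _ _ p (S.prime i) g) = lat p g :=
      le_antisymm (iInf_le _ ()) (le_iInf fun _ => le_rfl)
    rwa [e] at h1
  obtain ⟨t, ht, h⟩ := cyc (p := p) (M := lat p g) (M' := lat p (ϖ • g)) hfg
    (val_of_isPrincipal p x hx hm)
    (fun c hc t ht => le_pi_of_mem hu ht hc) (fun a ha t _ h => Le.of_smul ha h)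
    (fun t ht t' ht' => exists_rel hu g ht ht')
  have hcyc : lat p g ≤ Submodule.span C {t} := by
    refine Submodule.le_of_le_smul_of_le_jacobson_bot (I := maximalIdeal C) hfg
      (IsLocalRing.maximalIdeal_le_jacobson _) ?_
    intro u hu
    obtain ⟨c, hc⟩ := h u hu
    obtain ⟨v, hv⟩ := exists_smul_eq ϖ K (u - c • t)
    rw [← sub_add_cancel u (c • t), add_comm]
    refine Submodule.add_mem_sup (Submodule.smul_mem _ _ (Submodule.mem_span_singleton_self t)) ?_
    rw [← hv]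
    refine Submodule.smul_mem_smul hϖ ?_
    rw [← hv] at hc
    exact (le_pi_iff ϖ K).1 hc
  have := gen_of_cyclic S (fun _ => g) (fun _ => hg) (fun _ _ _ => Eqv.refl p g) t (fun _ => ht) (by
    intro u hu
    obtain ⟨c, hc⟩ := Submodule.mem_span_singleton.1 (hcyc (hu ()))
    exact ⟨c, hc.symm⟩)
  exact ⟨t, this.1, this.2 ()⟩

end K794.Lat
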