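import Groth.Agent.SemiFact.K794.LocAt

/-!
# The local class at a point of `V(t)`
-/

set_option autoImplicit false
set_option linter.unusedSectionVars false
set_option linter.dupNamespace false
universe u v
open CategoryTheory CategoryTheory.Limits AlgebraicGeometry IsLocalRing TopologicalSpace Opposite
open Groth.Agent.Fdesc.LocGen
open scoped TensorProduct

namespace K794.Base

section

attribute [local instance] Algebra.TensorProduct.rightAlgebra

variable {A C : Type*} [CommRing A] [CommRing C] [Algebra A C] (p : Ideal A) [hp : p.IsPrime]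
  [IsLocalization.AtPrime C p] {ϖ : A}
  {K : Type*} [CommRing K] [Algebra A K]
  {N : Type*} [AddCommGroup N] [Module A N] [Module K N] [IsScalarTower A K N]

theorem isGenerator_inc_of_le {n : N} (h : ∀ u : N, ∃ k : ℕ, K794.Lat.Le p n (ϖ ^ k • u)) :
    K794.Lat.IsGenerator (algebraMap A C ϖ) (inc (C := A) (B := C) (K := K) n) := by
  intro u
  obtain ⟨h', hh, m, hm⟩ := exists_smul_eq_inc p u
  obtain ⟨k, a, ha, b, hab⟩ := h m
  obtain ⟨r, hr⟩ := (isUnit_of_notMem (C := C) p (K794.Lat.mul_notMem ha hh)).exists_left_inv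
  refine ⟨k, r * algebraMap A C b, ?_⟩
  have h1 : algebraMap A C (a * h') • (algebraMap A C ϖ) ^ k • u = (algebraMap A C b) • inc (C := A) (B := C) (K := K) n := by
    rw [map_mul, mul_smul, smul_comm (algebraMap A C h'), hm, ← map_pow, algebraMap_smul, algebraMap_smul,
      algebraMap_smul, ← map_smul, ← map_smul, hab, map_smul]
  rw [mul_smul, ← h1, smul_smul, hr, one_smul]

end

end K794.Base

namespace K794.Glob

attribute [local instance] algV modV Algebra.TensorProduct.rightAlgebra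

namespace Sit

variable {X Z : Scheme.{u}} {i : Z ⟶ X} {t : Γ(X, ⊤)} {ι : Type*} {ξ : ι → X} (H : Sit i t ξ)
  {L : Z.Modules} (hL : PicF.IsInvertible L) {U₀ : ι → X.Opens} {G : ∀ v, Γ(L, i ⁻¹ᵁ (U₀ v))}

include hL in
/-- Spreading out a generator over the local ring at `x`. -/
theorem pr_of_inc [Finite ι] {φ : ι → ℤ} {x : X} {V : X.Opens} (hV : IsAffineOpen V) (hx : x ∈ V)
    (n : ∀ v : {v : ι // ξ v ⤳ x}, Γ(L, i ⁻¹ᵁ V))
    (hn : ∀ v : {v : ι // ξ v ⤳ x}, EqvAt i (ξ v) ((H.tau (U₀ v)) ^ (φ v) • G v) (n v)) :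
    letI := algS V x hx
    ∀ (s : K794.Base.LB Γ(X, V) (X.presheaf.stalk x) Γ(Z, i ⁻¹ᵁ V) Γ(L, i ⁻¹ᵁ V)),
      K794.Lat.IsGenerator (ts t x) s →
      (∀ v : {v : ι // ξ v ⤳ x}, K794.Lat.Eqv (sp x (ξ v) v.2) (K794.Base.inc (n v)) s) → H.Pr G φ x := by
  let _ := algS V x hx
  intro s hs hs'
  have hloc : IsLocalization.AtPrime (X.presheaf.stalk x) (qi V x hx) := isLocalization_stalk hV x hx
  have ht : algebraMap Γ(X, V) (X.presheaf.stalk x) (tr t V) = ts t x := germ_tr t x hx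
  obtain ⟨h, hh, n₀, hn₀⟩ := K794.Base.exists_smul_eq_inc (qi V x hx) s
  have hu := K794.Base.isUnit_of_notMem (C := X.presheaf.stalk x) (qi V x hx) hh
  have hg : K794.Lat.IsGenerator (algebraMap Γ(X, V) (X.presheaf.stalk x) (tr t V))
      (K794.Base.inc (C := Γ(X, V)) (B := X.presheaf.stalk x) (K := Γ(Z, i ⁻¹ᵁ V)) n₀) := by
    intro u
    obtain ⟨k, c, hc⟩ := hs u
    obtain ⟨r, hr⟩ := hu.exists_left_inv
    refine ⟨k, c * r, ?_⟩
    rw [← hn₀, smul_smul, mul_assoc, hr, mul_one, ht]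
    exact hc
  obtain ⟨h', hh', hgen⟩ := H.exists_isGen hL hV hx n₀ (K794.Base.exists_of_isGenerator_inc (qi V x hx) hg)
  have hz : ∀ v : {v : ι // ξ v ⤳ x}, EqvAt i (ξ v) (n v) n₀ := by
    rintro ⟨v, hv⟩
    rw [H.eqvAt_iff hL hV (hv.mem_open V.2 hx)]
    apply K794.Base.eqv_of_inc (C := X.presheaf.stalk x) (K := Γ(Z, i ⁻¹ᵁ V)) (qi V x hx)
      (𝔮 := sp x (ξ v) hv) (comap_sp x (ξ v) hv hx) (qi_mono hv hx)
    rw [← hn₀]
    refine (hs' ⟨v, hv⟩).smul_right fun h1 => ?_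
    exact (sp_isPrime x (ξ v) hv).ne_top (Ideal.eq_top_of_isUnit_mem _ h1 hu)
  -- a neighbourhood of `x` avoiding the other components
  let F : Set X := ⋃ v : {v : ι // ¬ ξ v ⤳ x}, closure {ξ v}
  have hF : IsClosed F := isClosed_iUnion_of_finite fun v => isClosed_closure
  let W : X.Opens := X.basicOpen h' ⊓ ⟨Fᶜ, hF.isOpen_compl⟩
  have hW : W ≤ X.basicOpen h' := inf_le_left
  refine ⟨W, res L (i.preimage_mono (hW.trans (X.basicOpen_le h'))) n₀, ⟨notMem_qi.1 hh', ?_⟩, ?_, ?_⟩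
  · intro hxF
    obtain ⟨v, hv⟩ := Set.mem_iUnion.1 hxF
    exact v.2 (specializes_iff_mem_closure.2 hv)
  · have := hgen.res (i.preimage_mono hW)
    rwa [res_res] at this
  · intro v hv
    have hvx : ξ v ⤳ x := by
      by_contra hcon
      exact hv.2 (Set.mem_iUnion.2 ⟨⟨v, hcon⟩, subset_closure rfl⟩)
    exact ((hn ⟨v, hvx⟩).trans (hz ⟨v, hvx⟩)).trans (EqvAt.res_right (hW.trans (X.basicOpen_le h')) hv n₀)

include H hL in
/-- extension of the local generators to an affine neighbourhood of `x`. -/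
theorem exists_ext (hG : ∀ v, GenAt i (ξ v) (G v)) {x : X} {V : X.Opens} (hV : IsAffineOpen V) (hx : x ∈ V) :
    ∃ n : {v : ι // ξ v ⤳ x} → Γ(L, i ⁻¹ᵁ V), (∀ v : {v : ι // ξ v ⤳ x}, EqvAt i (ξ v) (G v) (n v)) ∧
      ∀ v : {v : ι // ξ v ⤳ x}, GenAt i (ξ v) (n v) := by
  have h1 : ∀ v : {v : ι // ξ v ⤳ x}, ∃ n : Γ(L, i ⁻¹ᵁ V), EqvAt i (ξ v) (G v) n := fun v =>
    H.exists_eqvAt hL hV (v.2.mem_open V.2 hx) (hG v).mem (G v)
  choose n hn using h1
  exact ⟨n, hn, fun v => (hG v).of_eqvAt (hn v)⟩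

include hL in
/-- At a regular point of a component of `V(t)` every order can be realized. -/
theorem pr_of_prime [Finite ι] (hG : ∀ v, GenAt i (ξ v) (G v)) (x : X) [IsNoetherianRing (X.presheaf.stalk x)]
    (hx : x ∉ X.basicOpen t) (hp : (Ideal.span {ts t x}).IsPrime) (y : X.presheaf.stalk x)
    (hy : y ∈ maximalIdeal (X.presheaf.stalk x))
    (hm : maximalIdeal (X.presheaf.stalk x) ≤ Ideal.span {y} ⊔ Ideal.span {ts t x}) (φ : ι → ℤ) :
    H.Pr G φ x := by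
  obtain ⟨V, hV, hxV⟩ := exists_affine x
  let _ := algS V x hxV
  have hloc : IsLocalization.AtPrime (X.presheaf.stalk x) (qi V x hxV) := isLocalization_stalk hV x hxV
  have ht : algebraMap Γ(X, V) (X.presheaf.stalk x) (tr t V) = ts t x := germ_tr t x hxV
  have haw := H.away hV
  have hinv := H.inv hL hV
  have hK := K794.Base.isLocalization_tensor (X.presheaf.stalk x) (tr t V) Γ(Z, i ⁻¹ᵁ V)
  rw [ht] at hK
  obtain ⟨n, hn, hng⟩ := H.exists_ext hL hG hV hxV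
  have hSt := H.sysStalk x
  have S1 : K794.Lat.Sys (ts t x) (fun _ : Unit => Ideal.span {ts t x}) := 
    { nzd := hSt.nzd
      prime := fun _ => hp
      mem := fun _ => Ideal.mem_span_singleton_self _
      dvd := fun c hc => Ideal.mem_span_singleton.1 (hc ())
      incomp := fun _ _ _ => rfl }
  obtain ⟨⟨v, hv⟩, hvs⟩ := hSt.exists_eq S1 ()
  simp only at hvs
  have htm : ts t x ∈ maximalIdeal (X.presheaf.stalk x) := by
    rw [mem_maximalIdeal, mem_nonunits_iff]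
    intro hu
    exact hx ((Scheme.mem_basicOpen_top X t x).2 hu)
  have hgen : K794.Lat.Gen (ts t x) (Ideal.span {ts t x})
      (K794.Base.inc (C := Γ(X, V)) (B := X.presheaf.stalk x) (K := Γ(Z, i ⁻¹ᵁ V))
        ((H.tau V) ^ (φ v) • n ⟨v, hv⟩)) := by
    rw [← hvs, ← ht]
    apply K794.Base.gen_inc_atPrime (qi V x hxV) (comap_sp x (ξ v) hv hxV) (qi_mono hv hxV)
    exact H.gen_of_genAt hL hV _ _ (H.genAt_tau (hng ⟨v, hv⟩) _)
  obtain ⟨s, hs, hs'⟩ := K794.Lat.exists_generator_of_prime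
    (K := X.presheaf.stalk x ⊗[Γ(X, V)] Γ(Z, i ⁻¹ᵁ V)) hSt.nzd htm hp y hy hm _ hgen
  refine H.pr_of_inc hL hV hxV (fun w => (H.tau V) ^ (φ w) • n w)
    (fun w => H.eqvAt_tau (hn w) _) s hs ?_
  rintro ⟨w, hw⟩
  obtain ⟨_, hvw⟩ := S1.exists_eq hSt ⟨w, hw⟩
  have : w = v := by
    apply H.sp_injective hw hv
    rw [hvs]
    exact hvw.symm
  subst this
  simp only at hvw ⊢
  rw [← hvw]
  exact hs'

include hL in
/-- **The local class at a node.** -/
theorem exists_class [Finite ι] (hG : ∀ v, GenAt i (ξ v) (G v)) (x : X) [IsNoetherianRing (X.presheaf.stalk x)]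
    {B : Type v} [CommRing B] [IsLocalRing B] [IsNoetherianRing B] [Algebra (X.presheaf.stalk x) B]
    [Module.FaithfullyFlat (X.presheaf.stalk x) B] {y z : B} {l : ℕ}
    (N : K794.NodeAlg.NodeData (algebraMap (X.presheaf.stalk x) B (ts t x)) y z l)
    (hmax : (maximalIdeal (X.presheaf.stalk x)).map (algebraMap (X.presheaf.stalk x) B) = maximalIdeal B)
    (v₁ v₂ : ι) (hv : ∀ v, ξ v ⤳ x ↔ (v₁ = v ∨ v₂ = v)) :
    ∃ m : ℤ, ∀ φ : ι → ℤ, H.Pr G φ x ↔ (l : ℤ) ∣ m - (φ v₂ - φ v₁) := by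
  obtain ⟨V, hV, hxV⟩ := exists_affine x
  let _ := algS V x hxV
  have hloc : IsLocalization.AtPrime (X.presheaf.stalk x) (qi V x hxV) := isLocalization_stalk hV x hxV
  have ht : algebraMap Γ(X, V) (X.presheaf.stalk x) (tr t V) = ts t x := germ_tr t x hxV
  have haw := H.away hV
  have hinv := H.inv hL hV
  have hK' := K794.Base.isLocalization_tensor (X.presheaf.stalk x) (tr t V) Γ(Z, i ⁻¹ᵁ V)
  have hK : IsLocalization.Away (ts t x) (X.presheaf.stalk x ⊗[Γ(X, V)] Γ(Z, i ⁻¹ᵁ V)) := by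
    rw [← ht]; exact hK'
  obtain ⟨n, hn, hng⟩ := H.exists_ext hL hG hV hxV
  have hSt := H.sysStalk x
  have SQ := K794.Descent.sysC N
  -- the two primes
  have hQ : ∀ j, ∃ (v : ι) (hv : ξ v ⤳ x), sp x (ξ v) hv = K794.Descent.Q N j := by
    intro j
    obtain ⟨⟨v, hv⟩, h⟩ := hSt.exists_eq SQ j
    exact ⟨v, hv, h⟩
  have hQ' : ∀ (v : ι) (hv : ξ v ⤳ x), ∃ j, K794.Descent.Q N j = sp x (ξ v) hv := by
    intro v hv
    exact SQ.exists_eq hSt ⟨v, hv⟩
  obtain ⟨w₀, hw₀, hq₀⟩ := hQ 0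
  obtain ⟨w₁, hw₁, hq₁⟩ := hQ 1
  -- the local generators over the local ring
  have hgen : ∀ (w : ι) (hw : ξ w ⤳ x), K794.Lat.Gen (ts t x) (sp x (ξ w) hw)
      (K794.Base.inc (C := Γ(X, V)) (B := X.presheaf.stalk x) (K := Γ(Z, i ⁻¹ᵁ V)) (n ⟨w, hw⟩)) := by
    intro w hw
    rw [← ht]
    apply K794.Base.gen_inc_atPrime (qi V x hxV) (comap_sp x (ξ w) hw hxV) (qi_mono hw hxV)
    exact H.gen_of_genAt hL hV _ _ (hng ⟨w, hw⟩)
  have htau : ∀ (a : ℤ) (s : Γ(L, i ⁻¹ᵁ V)),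
      K794.Base.inc (C := Γ(X, V)) (B := X.presheaf.stalk x) (K := Γ(Z, i ⁻¹ᵁ V)) ((H.tau V) ^ a • s) =
      (K794.Lat.pu (ts t x) (X.presheaf.stalk x ⊗[Γ(X, V)] Γ(Z, i ⁻¹ᵁ V))) ^ a •
        K794.Base.inc (C := Γ(X, V)) (B := X.presheaf.stalk x) (K := Γ(Z, i ⁻¹ᵁ V)) s := by
    intro a s
    have h1 : K794.Lat.pu (ts t x) (X.presheaf.stalk x ⊗[Γ(X, V)] Γ(Z, i ⁻¹ᵁ V)) =
        K794.Lat.pu (algebraMap Γ(X, V) (X.presheaf.stalk x) (tr t V))
          (X.presheaf.stalk x ⊗[Γ(X, V)] Γ(Z, i ⁻¹ᵁ V)) := by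
      ext
      rw [K794.Lat.coe_pu, K794.Lat.coe_pu, ht]
    rw [h1, H.tau_eq_pu hV]
    exact K794.Base.inc_zpow (B := X.presheaf.stalk x) (ϖ := tr t V) (K := Γ(Z, i ⁻¹ᵁ V)) a s
  have h0 := hgen w₀ hw₀
  have h1 := hgen w₁ hw₁
  rw [hq₀] at h0
  rw [hq₁] at h1
  obtain ⟨d, hd, hd'⟩ := K794.NodeLoc.exists_order N
    (K := X.presheaf.stalk x ⊗[Γ(X, V)] Γ(Z, i ⁻¹ᵁ V)) hmax h0 h1
  -- the main equivalence, for `w₀`, `w₁`
  have hw01 : K794.Descent.Q N 0 = K794.Descent.Q N 1 → w₀ = w₁ := by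
    intro h
    apply H.sp_injective hw₀ hw₁
    rw [hq₀, hq₁, h]
  have key : ∀ φ : ι → ℤ, H.Pr G φ x ↔ (l : ℤ) ∣ φ w₀ - φ w₁ - d := by
    intro φ
    constructor
    · rintro ⟨U, s, hxU, hs, hsv⟩
      obtain ⟨n₀, hn₀⟩ := H.exists_eqvAt hL hV hxV hxU s
      have hgn := (GenAt.of_isGen (i := i) hxU hs).of_eqvAt hn₀
      have h2 := H.gen_of_genAt hL hV hxV n₀ hgn
      have h3 := K794.Base.isGenerator_inc_of_le (C := X.presheaf.stalk x) (K := Γ(Z, i ⁻¹ᵁ V)) (qi V x hxV)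
        h2.exists_le
      rw [ht] at h3
      have h4 : ∀ (w : ι) (hw : ξ w ⤳ x), K794.Lat.Eqv (sp x (ξ w) hw)
          ((K794.Lat.pu (ts t x) (X.presheaf.stalk x ⊗[Γ(X, V)] Γ(Z, i ⁻¹ᵁ V))) ^ (φ w) •
            K794.Base.inc (C := Γ(X, V)) (B := X.presheaf.stalk x) (K := Γ(Z, i ⁻¹ᵁ V)) (n ⟨w, hw⟩))
          (K794.Base.inc n₀) := by
        intro w hw
        rw [← htau]
        apply K794.Base.eqv_inc
        change K794.Lat.Eqv ((sp x (ξ w) hw).comap (X.presheaf.germ V x hxV).hom) _ _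
        rw [comap_sp, ← H.eqvAt_iff hL hV]
        obtain ⟨T, hT, hT', hxT, g, hg, hg'⟩ := hn₀
        have h5 : EqvAt i (ξ w) s n₀ := ⟨T, hT, hT', hw.mem_open T.2 hxT, g, hg, hg'⟩
        exact ((H.eqvAt_tau (hn ⟨w, hw⟩) _).symm.trans (hsv w (hw.mem_open U.2 hxU))).trans h5
      have e0 := h4 w₀ hw₀
      have e1 := h4 w₁ hw₁
      rw [hq₀] at e0
      rw [hq₁] at e1
      exact hd' _ _ _ h3 e0 e1
    · intro hdvd
      obtain ⟨s, hs, hs0, hs1⟩ := hd (φ w₀) (φ w₁) hdvd (by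
        intro h
        have := hw01 h
        subst this
        have hp := SQ.prime 0
        exact K794.Lat.Eqv.refl _ _)
      refine H.pr_of_inc hL hV hxV (fun w => (H.tau V) ^ (φ w) • n w)
        (fun w => H.eqvAt_tau (hn w) _) s hs ?_
      rintro ⟨w, hw⟩
      obtain ⟨j, hj⟩ := hQ' w hw
      fin_cases j
      · have : w = w₀ := by
          apply H.sp_injective hw hw₀
          rw [hq₀]
          exact hj.symm
        subst this
        rw [htau]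
        simp only
        rw [hq₀]
        exact hs0
      · have : w = w₁ := by
          apply H.sp_injective hw hw₁
          rw [hq₁]
          exact hj.symm
        subst this
        rw [htau]
        simp only
        rw [hq₁]
        exact hs1
  -- comparison with `v₁`, `v₂`
  have e0 := (hv w₀).1 hw₀
  have e1 := (hv w₁).1 hw₁
  have hall : ∀ v, ξ v ⤳ x → v = w₀ ∨ v = w₁ := by
    intro v hv
    obtain ⟨j, hj⟩ := hQ' v hv
    fin_cases j
    · left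
      apply H.sp_injective hv hw₀
      rw [hq₀]; exact hj.symm
    · right
      apply H.sp_injective hv hw₁
      rw [hq₁]; exact hj.symm
  have f1 := hall v₁ ((hv v₁).2 (Or.inl rfl))
  have f2 := hall v₂ ((hv v₂).2 (Or.inr rfl))
  have hcase : (v₁ = w₀ ∧ v₂ = w₁) ∨ (v₁ = w₁ ∧ v₂ = w₀) := by
    rcases f1 with f1 | f1 <;> rcases f2 with f2 | f2
    · rcases e1 with e1 | e1
      · exact Or.inl ⟨f1, f2.trans (f1.symm.trans e1)⟩
      · exact Or.inl ⟨f1, e1⟩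
    · exact Or.inl ⟨f1, f2⟩
    · exact Or.inr ⟨f1, f2⟩
    · rcases e0 with e0 | e0
      · exact Or.inr ⟨f1, f2.trans (f1.symm.trans e0)⟩
      · exact Or.inr ⟨f1, e0⟩
  rcases hcase with ⟨rfl, rfl⟩ | ⟨rfl, rfl⟩
  · refine ⟨-d, fun φ => ?_⟩
    rw [key φ]
    have : -d - (φ v₂ - φ v₁) = φ v₁ - φ v₂ - d := by ring
    rw [this]
  · refine ⟨d, fun φ => ?_⟩
    rw [key φ, ← dvd_neg]
    have : d - (φ v₂ - φ v₁) = -(φ v₂ - φ v₁ - d) := by ring
    rw [this]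

end Sit

end K794.Glob
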