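import Groth.Agent.SemiFact.K794.LatGen
import Mathlib.RingTheory.Filtration

/-!
# Node rings `x * y = π ^ l` (or `x * y = 0`): invertible modules over `B[1/π]`

`F3`: every invertible `B[1/π]`-module is free, with the orders of a generator at the two branches.
`F4`: the orders of a unit of `B[1/π]`.
-/

set_option autoImplicit false
set_option linter.unusedSectionVars false

open IsLocalRing

namespace K794.NodeAlg

open K794.Lat

/-- Abstract node ring of thickness `l` (`l = 0` : infinite thickness). -/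
structure NodeData {B : Type*} [CommRing B] [IsLocalRing B] (π x y : B) (l : ℕ) : Prop where
  nzd : π ∈ nonZeroDivisors B
  rel : x * y = if l = 0 then 0 else π ^ l
  prime1 : (Ideal.span {x, π}).IsPrime
  prime2 : (Ideal.span {y, π}).IsPrime
  y_notMem : y ∉ Ideal.span {x, π}
  x_notMem : x ∉ Ideal.span {y, π}
  max_le : maximalIdeal B ≤ Ideal.span {x, y, π}
  x_mem : x ∈ maximalIdeal B
  y_mem : y ∈ maximalIdeal B
  pi_mem : π ∈ maximalIdeal B

namespace NodeData

variable {B : Type*} [CommRing B] [IsLocalRing B] {π x y : B} {l : ℕ} (N : NodeData π x y l)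

include N

theorem symm : NodeData π y x l where
  nzd := N.nzd
  rel := by rw [mul_comm]; exact N.rel
  prime1 := N.prime2
  prime2 := N.prime1
  y_notMem := N.x_notMem
  x_notMem := N.y_notMem
  max_le := by
    refine N.max_le.trans (Ideal.span_mono ?_)
    rw [Set.insert_comm]
  x_mem := N.y_mem
  y_mem := N.x_mem
  pi_mem := N.pi_mem

theorem exists_rel : ∃ r, x * y = π * r := by
  rw [N.rel]
  split_ifs with h
  · exact ⟨0, by simp⟩
  · obtain ⟨k, rfl⟩ := Nat.exists_eq_succ_of_ne_zero h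
    exact ⟨π ^ k, by rw [pow_succ']⟩

theorem dvd_of_mem {c : B} (h1 : c ∈ Ideal.span {x, π}) (h2 : c ∈ Ideal.span {y, π}) : π ∣ c := by
  obtain ⟨a, b, rfl⟩ := Ideal.mem_span_pair.1 h1
  have hp := N.prime2
  have h3 : a * x ∈ Ideal.span {y, π} := by
    have : b * π ∈ Ideal.span {y, π} := Ideal.mul_mem_left _ _ (Ideal.subset_span (by simp))
    have := Ideal.sub_mem _ h2 this
    rwa [add_sub_cancel_right] at this
  obtain ⟨c, d, hcd⟩ := Ideal.mem_span_pair.1 ((hp.mem_or_mem h3).resolve_right N.x_notMem)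
  obtain ⟨r, hr⟩ := N.exists_rel
  refine ⟨c * r + d * x + b, ?_⟩
  rw [← hcd]
  linear_combination c * hr

/-- the two primes -/
def P (_ : NodeData π x y l) : Fin 2 → Ideal B := ![Ideal.span {x, π}, Ideal.span {y, π}]

theorem prime_P (i : Fin 2) : (N.P i).IsPrime := by
  fin_cases i
  · exact N.prime1
  · exact N.prime2

theorem not_le : ¬ Ideal.span {x, π} ≤ Ideal.span {y, π} := fun h =>
  N.x_notMem (h (Ideal.subset_span (by simp)))

theorem sys : Sys π N.P where
  nzd := N.nzd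
  prime := N.prime_P
  mem := by
    intro i
    fin_cases i <;> exact Ideal.subset_span (by simp)
  dvd := fun c hc => N.dvd_of_mem (hc 0) (hc 1)
  incomp := by
    intro i j h
    fin_cases i <;> fin_cases j
    · rfl
    · exact absurd h N.not_le
    · exact absurd h N.symm.not_le
    · rfl

omit N in
theorem eq_or_eq_maximalIdeal [IsNoetherianRing B] {p : Ideal B} (hp : p.IsPrime) {z : B}
    (hz : z ∈ maximalIdeal B)
    (h : maximalIdeal B ≤ Ideal.span {z} ⊔ p) {Q : Ideal B} (hQ : Q.IsPrime) (hpQ : p ≤ Q) :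
    Q = p ∨ Q = maximalIdeal B := by
  have : Nontrivial (B ⧸ p) := Ideal.Quotient.nontrivial_iff.mpr hp.ne_top
  have hloc : IsLocalRing (B ⧸ p) :=
    IsLocalRing.of_surjective' (Ideal.Quotient.mk p) Ideal.Quotient.mk_surjective
  have hN : IsNoetherianRing (B ⧸ p) :=
    isNoetherianRing_of_surjective B (B ⧸ p) (Ideal.Quotient.mk p) Ideal.Quotient.mk_surjective
  have hlh : IsLocalHom (Ideal.Quotient.mk p) := IsLocalHom.of_surjective _ Ideal.Quotient.mk_surjective
  have hpir : IsPrincipalIdealRing (B ⧸ p) := by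
    refine ((tfae_of_isNoetherianRing_of_isLocalRing_of_isDomain (R := B ⧸ p)).out 0 4).2 ?_
    refine ⟨Ideal.Quotient.mk p z, le_antisymm ?_ ?_⟩
    · intro y hy
      obtain ⟨w, rfl⟩ := Ideal.Quotient.mk_surjective y
      have hw : w ∈ IsLocalRing.maximalIdeal B := by
        rw [IsLocalRing.mem_maximalIdeal, mem_nonunits_iff] at hy ⊢
        exact fun hu => hy (hu.map _)
      obtain ⟨v, hv, w', hw', rfl⟩ := Submodule.mem_sup.1 (h hw)
      obtain ⟨c, rfl⟩ := Ideal.mem_span_singleton'.1 hv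
      rw [map_add, Ideal.Quotient.eq_zero_iff_mem.2 hw', add_zero, map_mul]
      exact Submodule.mem_span_singleton.2 ⟨_, rfl⟩
    · rw [Submodule.span_singleton_le_iff_mem]
      rw [IsLocalRing.mem_maximalIdeal, mem_nonunits_iff] at hz ⊢
      intro hu
      exact hz (isUnit_of_map_unit _ _ hu)
  have hker : RingHom.ker (Ideal.Quotient.mk p) ≤ Q := by rw [Ideal.mk_ker]; exact hpQ
  have hQ' : (Q.map (Ideal.Quotient.mk p)).IsPrime :=
    Ideal.map_isPrime_of_surjective Ideal.Quotient.mk_surjective hker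
  have hcm : (Q.map (Ideal.Quotient.mk p)).comap (Ideal.Quotient.mk p) = Q := by
    rw [Ideal.comap_map_of_surjective _ Ideal.Quotient.mk_surjective, ← RingHom.ker_eq_comap_bot,
      sup_eq_left.2 hker]
  by_cases hbot : Q.map (Ideal.Quotient.mk p) = ⊥
  · left
    rw [hbot, ← RingHom.ker_eq_comap_bot, Ideal.mk_ker] at hcm
    exact hcm.symm
  · right
    have hmax : (Q.map (Ideal.Quotient.mk p)).IsMaximal := IsPrime.to_maximal_ideal hbot
    have := Ideal.comap_isMaximal_of_surjective (Ideal.Quotient.mk p) Ideal.Quotient.mk_surjective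
      (K := Q.map (Ideal.Quotient.mk p))
    rw [hcm] at this
    exact eq_maximalIdeal this

theorem max_le1 : maximalIdeal B ≤ Ideal.span {y} ⊔ Ideal.span {x, π} := by
  refine N.max_le.trans ?_
  rw [← Ideal.span_union]
  refine Ideal.span_mono ?_
  rintro z (rfl | rfl | rfl) <;> simp

theorem max_le2 : maximalIdeal B ≤ Ideal.span {x} ⊔ Ideal.span {y, π} := N.symm.max_le1

/-- primes over `π`. -/
theorem eq_of_prime [IsNoetherianRing B] {Q : Ideal B} (hQ : Q.IsPrime) (hπ : π ∈ Q) :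
    Q = Ideal.span {x, π} ∨ Q = Ideal.span {y, π} ∨ Q = maximalIdeal B := by
  have hxy : x * y ∈ Q := by
    obtain ⟨r, hr⟩ := N.exists_rel
    rw [hr]
    exact Ideal.mul_mem_right _ _ hπ
  rcases hQ.mem_or_mem hxy with hx | hy
  · rcases eq_or_eq_maximalIdeal N.prime1 N.y_mem N.max_le1 hQ
      (Ideal.span_le.2 (by rintro z (rfl | rfl); exacts [hx, hπ])) with h | h
    · exact Or.inl h
    · exact Or.inr (Or.inr h)
  · rcases eq_or_eq_maximalIdeal N.prime2 N.x_mem N.max_le2 hQ
      (Ideal.span_le.2 (by rintro z (rfl | rfl); exacts [hy, hπ])) with h | h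
    · exact Or.inr (Or.inl h)
    · exact Or.inr (Or.inr h)

theorem uni1 {c : B} (hc : c ∈ Ideal.span {x, π}) : ∃ a, a ∉ Ideal.span {x, π} ∧ ∃ b, a * c = π * b :=
  N.sys.uni 0 hc

theorem uni2 {c : B} (hc : c ∈ Ideal.span {y, π}) : ∃ a, a ∉ Ideal.span {y, π} ∧ ∃ b, a * c = π * b :=
  N.sys.uni 1 hc

end NodeData

section F3

variable {B : Type*} [CommRing B] [IsLocalRing B] [IsNoetherianRing B] {π x y : B} {l : ℕ}
  (N : NodeData π x y l)
  {K : Type*} [CommRing K] [Algebra B K] [IsLocalization.Away π K]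
  {L : Type*} [AddCommGroup L] [Module B L] [Module K L] [IsScalarTower B K L]

variable (K) in
include N K in
/-- The step: if the image of `M n` at the second branch jumps then `M n` is cyclic. -/
theorem generator_of_jump [Module.Invertible K L] {g₁ g₂ : L} (h1 : Gen π (Ideal.span {x, π}) g₁)
    (h2 : Gen π (Ideal.span {y, π}) g₂)
    (hjump : ∃ t₀, Le (Ideal.span {x, π}) g₁ t₀ ∧ Le (Ideal.span {y, π}) g₂ t₀ ∧
      ∀ u, Le (Ideal.span {x, π}) (π • g₁) u → Le (Ideal.span {y, π}) g₂ u → 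
        ¬ Le (Ideal.span {y, π}) (π • g₂) (t₀ - u)) :
    ∃ t : L, IsGenerator π t ∧ Eqv (Ideal.span {x, π}) g₁ t ∧ Eqv (Ideal.span {y, π}) g₂ t := by
  have hp1 := N.prime1
  have hp2 := N.prime2
  set P1 := Ideal.span {x, π} with hP1
  set P2 := Ideal.span {y, π} with hP2
  have S := N.sys
  have hπ1 : π ∈ P1 := Ideal.subset_span (by simp)
  have hπ2 : π ∈ P2 := Ideal.subset_span (by simp)
  have hx1 : x ∈ P1 := Ideal.subset_span (by simp)
  have hy2 : y ∈ P2 := Ideal.subset_span (by simp)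
  set M : Submodule B L := lat P1 g₁ ⊓ lat P2 g₂ with hM
  set K1 : Submodule B L := lat P1 (π • g₁) with hK1
  set K2 : Submodule B L := lat P2 (π • g₂) with hK2
  have hfg : M.FG := by
    have h3 := fg_iInf_lat S (K := K) (![g₁, g₂])
    have e : (⨅ i, @lat B _ L _ _ (N.P i) (S.prime i) (![g₁, g₂] i)) = M := by
      apply le_antisymm
      · exact le_inf (iInf_le _ (0 : Fin 2)) (iInf_le _ (1 : Fin 2))
      · refine le_iInf fun i => ?_
        fin_cases i
        · exact inf_le_left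
        · exact inf_le_right
    rwa [e] at h3
  -- the jump
  have hj : ¬ M ≤ (K1 ⊓ lat P2 g₂) ⊔ K2 := by
    intro hle
    obtain ⟨t₀, h01, h02, h0⟩ := hjump
    obtain ⟨u, hu, w, hw, huw⟩ := Submodule.mem_sup.1 (hle ⟨h01, h02⟩)
    refine h0 u hu.1 hu.2 ?_
    rw [← huw, add_sub_cancel_left]
    exact hw
  obtain ⟨t, ht, htc⟩ := cyc (p := P2) (M := M) (M' := K2) hfg
    (val_of_isPrincipal P2 x N.x_mem N.max_le2)
    (fun c hc t ht => le_pi_of_mem (fun c hc => N.uni2 hc) ht.2 hc) (fun a ha t _ h => Le.of_smul ha h)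
    (fun t ht t' ht' => exists_rel (fun c hc => N.uni2 hc) g₂ ht.2 ht'.2)
  obtain ⟨t1, ht1, ht1c⟩ := cyc (p := P1) (M := M) (M' := K1) hfg
    (val_of_isPrincipal P1 y N.y_mem N.max_le1)
    (fun c hc t ht => le_pi_of_mem (fun c hc => N.uni1 hc) ht.1 hc) (fun a ha t _ h => Le.of_smul ha h)
    (fun t ht t' ht' => exists_rel (fun c hc => N.uni1 hc) g₁ ht.1 ht'.1)
  have hxM : ∀ u ∈ M, x • u ∈ K1 ⊓ lat P2 g₂ := fun u hu =>
    ⟨le_pi_of_mem (fun c hc => N.uni1 hc) hu.1 hx1, Le.smul hu.2 x⟩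
  have hyM : ∀ u ∈ M, y • u ∈ K2 := fun u hu =>
    le_pi_of_mem (fun c hc => N.uni2 hc) hu.2 hy2
  have hπM : ∀ u ∈ M, π • u ∈ K2 := fun u hu =>
    le_pi_of_mem (fun c hc => N.uni2 hc) hu.2 hπ2
  -- `t` is not in `K1 + K2`
  have htj : t ∉ (K1 ⊓ lat P2 g₂) ⊔ K2 := by
    intro htj
    apply hj
    intro u hu
    obtain ⟨c, hc⟩ := htc u hu
    rw [← sub_add_cancel u (c • t)]
    exact Submodule.add_mem _ (Submodule.mem_sup_right hc) (Submodule.smul_mem _ _ htj)
  have hmax : ∀ c ∈ maximalIdeal B, ∀ u ∈ M, ∃ v ∈ K1 ⊓ lat P2 g₂, ∃ w ∈ K2, c • u = v + w ∧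
      v ∈ Submodule.span B {u} := by
    intro c hc u hu
    have := N.max_le hc
    rw [Ideal.span_insert, Submodule.mem_sup] at this
    obtain ⟨a, ha, b, hb, rfl⟩ := this
    obtain ⟨a, rfl⟩ := Ideal.mem_span_singleton'.1 ha
    obtain ⟨b, d, rfl⟩ := Ideal.mem_span_pair.1 hb
    refine ⟨a • x • u, Submodule.smul_mem _ _ (hxM u hu), b • y • u + d • π • u,
      Submodule.add_mem _ (Submodule.smul_mem _ _ (hyM u hu)) (Submodule.smul_mem _ _ (hπM u hu)), ?_, ?_⟩
    · rw [add_smul, add_smul, mul_smul, mul_smul, mul_smul]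
    · exact Submodule.smul_mem _ _ (Submodule.smul_mem _ _ (Submodule.mem_span_singleton_self u))
  -- every element is a multiple of `t` modulo `K1`
  have step1 : ∀ u ∈ M, ∃ c : B, u - c • t ∈ K1 := by
    obtain ⟨c, hc⟩ := ht1c t ht
    have hcu : IsUnit c := by
      by_contra hcu
      have hcm : c ∈ maximalIdeal B := hcu
      obtain ⟨v, hv, w, hw, hvw, -⟩ := hmax c hcm t1 ht1
      apply htj
      have h3 : t = (t - c • t1) + v + w := by rw [add_assoc, ← hvw]; abel
      have h4 : t - c • t1 ∈ K1 ⊓ lat P2 g₂ := ⟨hc, (M.sub_mem ht (M.smul_mem c ht1)).2⟩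
      rw [h3]
      exact Submodule.add_mem _ (Submodule.mem_sup_left (Submodule.add_mem _ h4 hv))
        (Submodule.mem_sup_right hw)
    obtain ⟨c', hc'⟩ := hcu.exists_left_inv
    intro u hu
    obtain ⟨d, hd⟩ := ht1c u hu
    refine ⟨d * c', ?_⟩
    have h3 : u - (d * c') • t = (u - d • t1) - (d * c') • (t - c • t1) := by
      rw [smul_sub, smul_smul, mul_assoc, hc', mul_one]
      abel
    rw [h3]
    exact Submodule.sub_mem _ hd (Submodule.smul_mem _ _ hc)
  -- elements of `M ∩ K1` are multiples of `t` modulo `K1 ∩ K2`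
  have step2 : ∀ u ∈ M, u ∈ K1 → ∃ c : B, u - c • t ∈ K1 ⊓ K2 := by
    intro u hu hu1
    obtain ⟨d, hd⟩ := htc u hu
    have hdu : d ∈ maximalIdeal B := by
      rw [IsLocalRing.mem_maximalIdeal, mem_nonunits_iff]
      intro hdu
      obtain ⟨d', hd'⟩ := hdu.exists_left_inv
      apply htj
      have h3 : t = d' • u - d' • (u - d • t) := by
        rw [smul_sub, smul_smul, hd', one_smul]; abel
      rw [h3]
      exact Submodule.sub_mem _ (Submodule.mem_sup_left (Submodule.smul_mem _ _ ⟨hu1, hu.2⟩))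
        (Submodule.mem_sup_right (Submodule.smul_mem _ _ hd))
    obtain ⟨v, hv, w, hw, hvw, hvt⟩ := hmax d hdu t ht
    obtain ⟨c, rfl⟩ := Submodule.mem_span_singleton.1 hvt
    refine ⟨c, Submodule.sub_mem _ hu1 hv.1, ?_⟩
    have h3 : u - c • t = (u - d • t) + w := by rw [hvw]; abel
    rw [h3]
    exact Submodule.add_mem _ hd hw
  -- hence `M` is generated by `t`
  have hcyc : M ≤ Submodule.span B {t} := by
    refine Submodule.le_of_le_smul_of_le_jacobson_bot (I := maximalIdeal B) hfg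
      (IsLocalRing.maximalIdeal_le_jacobson _) ?_
    intro u hu
    obtain ⟨c, hc⟩ := step1 u hu
    obtain ⟨d, hd⟩ := step2 _ (M.sub_mem hu (M.smul_mem c ht)) hc
    obtain ⟨v, hv⟩ := exists_smul_eq π K (u - c • t - d • t)
    have h3 : u = (c + d) • t + π • v := by rw [hv, add_smul]; abel
    rw [h3]
    refine Submodule.add_mem_sup (Submodule.smul_mem _ _ (Submodule.mem_span_singleton_self t)) ?_
    refine Submodule.smul_mem_smul N.pi_mem ⟨?_, ?_⟩
    · rw [← hv] at hd
      exact (le_pi_iff π K).1 hd.1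
    · rw [← hv] at hd
      exact (le_pi_iff π K).1 hd.2
  have := gen_of_cyclic S ![g₁, g₂] (by intro i; fin_cases i; exacts [h1, h2]) (by
      intro i j hij
      fin_cases i <;> fin_cases j
      · exact Eqv.refl P1 g₁
      · exact absurd hij.le N.not_le
      · exact absurd hij.le N.symm.not_le
      · exact Eqv.refl P2 g₂) t (by intro i; fin_cases i; exacts [ht.1, ht.2]) (by
      intro u hu
      obtain ⟨c, hc⟩ := Submodule.mem_span_singleton.1 (hcyc ⟨hu 0, hu 1⟩)
      exact ⟨c, hc.symm⟩)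
  exact ⟨t, this.1, this.2 0, this.2 1⟩

end F3

end K794.NodeAlg
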