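import Groth.Agent.SemiFact.K794.NodeAlg

/-!
# Node rings: existence of generators with prescribed orders (F3), orders of units (F4)
-/

set_option autoImplicit false
set_option linter.unusedSectionVars false

open IsLocalRing

namespace K794.NodeAlg

open K794.Lat

section Zero

variable {B : Type*} [CommRing B] [IsLocalRing B] {π x y : B} (N : NodeData π x y 0)

include N

theorem xy_eq_zero : x * y = 0 := by
  have := N.rel
  rwa [if_pos rfl] at this

theorem nzd_mod_y {a c : B} (h : π * a = y * c) : ∃ d, a = y * d := by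
  have hp := N.prime1
  have h1 : y * c ∈ Ideal.span {x, π} := by
    rw [← h]; exact Ideal.mul_mem_right _ _ (Ideal.subset_span (by simp))
  obtain ⟨u, v, huv⟩ := Ideal.mem_span_pair.1 ((hp.mem_or_mem h1).resolve_left N.y_notMem)
  refine ⟨v, N.sys.mul_cancel ?_⟩
  rw [h, ← huv]
  linear_combination u * xy_eq_zero N

theorem nzd_mod_xy {a b c : B} (h : π * a = x * b + y * c) : a ∈ Ideal.span {x, y} := by
  have hp := N.prime2
  have h1 : x * b ∈ Ideal.span {y, π} := by
    have : x * b = π * a - y * c := by rw [h]; ring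
    rw [this]
    exact Ideal.sub_mem _ (Ideal.mul_mem_right _ _ (Ideal.subset_span (by simp)))
      (Ideal.mul_mem_right _ _ (Ideal.subset_span (by simp)))
  obtain ⟨u, v, huv⟩ := Ideal.mem_span_pair.1 ((hp.mem_or_mem h1).resolve_left N.x_notMem)
  obtain ⟨d, hd⟩ := nzd_mod_y N (a := a - x * v) (c := c) (by
    linear_combination h - x * huv + u * xy_eq_zero N)
  refine Ideal.mem_span_pair.2 ⟨v, d, ?_⟩
  linear_combination -hd

theorem nzd_pow_mod_xy {a : B} (n : ℕ) (h : π ^ n * a ∈ Ideal.span {x, y}) : a ∈ Ideal.span {x, y} := by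
  induction n with
  | zero => simpa using h
  | succ n ih =>
    apply ih
    obtain ⟨b, c, hbc⟩ := Ideal.mem_span_pair.1 h
    apply nzd_mod_xy N (b := b) (c := c)
    rw [← mul_assoc, ← pow_succ', ← hbc]
    ring

theorem div_pow {a b c : B} (k : ℕ) (ha : a ∉ Ideal.span {y, π}) (h : ∃ d, a * c - π ^ k * b = y * d) :
    ∃ c' c'', c = π ^ k * c' + y * c'' := by
  have hp := N.prime2
  induction k generalizing c with
  | zero => exact ⟨c, 0, by simp⟩
  | succ k ih =>
    obtain ⟨d, hd⟩ := h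
    have h1 : a * c ∈ Ideal.span {y, π} := by
      have : a * c = y * d + π * (π ^ k * b) := by rw [← hd]; ring
      rw [this]
      exact Ideal.add_mem _ (Ideal.mul_mem_right _ _ (Ideal.subset_span (by simp)))
        (Ideal.mul_mem_right _ _ (Ideal.subset_span (by simp)))
    obtain ⟨c2, c1, hc⟩ := Ideal.mem_span_pair.1 ((hp.mem_or_mem h1).resolve_left ha)
    obtain ⟨e, he⟩ := nzd_mod_y N (a := a * c1 - π ^ k * b) (c := d - a * c2) (by
      linear_combination hd + a * hc)
    obtain ⟨c', c'', hcc⟩ := ih ⟨e, he⟩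
    refine ⟨c', π * c'' + c2, ?_⟩
    rw [← hc, hcc]
    ring

variable {K : Type*} [CommRing K] [Algebra B K] [IsLocalization.Away π K]

theorem mem_of_algebraMap_mem {b : B}
    (h : algebraMap B K b ∈ (Ideal.span {x, y}).map (algebraMap B K)) : b ∈ Ideal.span {x, y} := by
  rw [IsLocalization.mem_map_algebraMap_iff (Submonoid.powers π) K] at h
  obtain ⟨⟨c, s⟩, hs⟩ := h
  obtain ⟨n, hn⟩ := s.2
  rw [← map_mul] at hs
  have := algebraMap_injective N.sys (K := K) hs
  apply nzd_pow_mod_xy N n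
  have h2 : π ^ n = s.1 := hn
  rw [h2, mul_comm, this]
  exact c.2

theorem red2 {m : ℤ} {h : K} (hh : Le (Ideal.span {y, π}) ((pu π K) ^ m • (1 : K)) h) :
    ∃ b : B, h - ((pu π K) ^ m : Kˣ) * algebraMap B K b ∈ (Ideal.span {x, y}).map (algebraMap B K) := by
  obtain ⟨a, ha, b, hab⟩ := hh
  -- scale
  set h' : K := (((pu π K) ^ m)⁻¹ : Kˣ) * h with hh'
  have h1 : algebraMap B K a * h' = algebraMap B K b := by
    rw [Algebra.smul_def, Algebra.smul_def, Units.smul_def, smul_eq_mul, mul_one] at hab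
    rw [hh', mul_left_comm, hab, mul_left_comm, Units.inv_mul, mul_one]
  obtain ⟨k, c, hc⟩ := exists_pow_mul (ϖ := π) h'
  have h2 : a * c = π ^ k * b := by
    apply algebraMap_injective N.sys (K := K)
    rw [map_mul, map_mul, ← hc, ← h1]
    ring
  obtain ⟨c', c'', hcc⟩ := div_pow N (b := b) (c := c) k ha ⟨0, by rw [h2]; ring⟩
  refine ⟨c', ?_⟩
  have hu : IsUnit (algebraMap B K (π ^ k)) := by
    rw [map_pow]; exact (IsLocalization.Away.algebraMap_isUnit (S := K) π).pow k
  have h3 : h' - algebraMap B K c' ∈ (Ideal.span {x, y}).map (algebraMap B K) := by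
    rw [← Ideal.unit_mul_mem_iff_mem _ hu, mul_sub, hc, hcc, map_add, map_mul, add_sub_cancel_left]
    exact Ideal.mem_map_of_mem _ (Ideal.mul_mem_right _ _ (Ideal.subset_span (by simp)))
  have h4 : h - ((pu π K) ^ m : Kˣ) * algebraMap B K c' = ((pu π K) ^ m : Kˣ) * (h' - algebraMap B K c') := by
    rw [mul_sub, hh', Units.mul_inv_cancel_left]
  rw [h4]
  exact Ideal.mul_mem_left _ _ h3

end Zero

section Jump

variable {B : Type*} [CommRing B] [IsLocalRing B] [IsNoetherianRing B] {π x y : B} {l : ℕ}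
  (N : NodeData π x y l)
  {K : Type*} [CommRing K] [Algebra B K] [IsLocalization.Away π K]
  {L : Type*} [AddCommGroup L] [Module B L] [Module K L] [IsScalarTower B K L]

/-- no jump -/
def NoJump (π x y : B) (g₁ g₂ : L) : Prop := ∀ t₀ : L, Le (Ideal.span {x, π}) g₁ t₀ →
  Le (Ideal.span {y, π}) g₂ t₀ → ∃ u, Le (Ideal.span {x, π}) (π • g₁) u ∧ Le (Ideal.span {y, π}) g₂ u ∧
    Le (Ideal.span {y, π}) (π • g₂) (t₀ - u)

theorem pi_smul_zpow (g : L) (n : ℤ) : π • (pu π K) ^ n • g = (pu π K) ^ (n + 1) • g := by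
  rw [← pu_smul K, smul_smul, ← zpow_one_add, add_comm]

theorem pow_smul_zpow (g : L) (n : ℤ) (k : ℕ) : π ^ k • (pu π K) ^ n • g = (pu π K) ^ (n + k) • g := by
  rw [← pu_pow_smul K, smul_smul, ← zpow_natCast, ← zpow_add, add_comm]

theorem le_of_zpow_le {p : Ideal B} {g u : L} {m n : ℤ} (h : Le p ((pu π K) ^ n • g) u) (hmn : m ≤ n) :
    Le p ((pu π K) ^ m • g) u := by
  obtain ⟨k, rfl⟩ := Int.le.dest hmn
  obtain ⟨a, ha, b, hab⟩ := h
  refine ⟨a, ha, b * π ^ k, ?_⟩
  rw [hab, ← pow_smul_zpow, mul_smul]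

theorem exists_zpow_le {p : Ideal B} {g : L} (hg : Gen π p g) (s : L) :
    ∃ m : ℤ, Le p ((pu π K) ^ m • g) s := by
  obtain ⟨n, hn⟩ := hg.exists_le s
  refine ⟨-n, ?_⟩
  have := hn.unit_smul ((pu π K) ^ (-(n : ℤ)))
  rw [← pu_pow_smul K, smul_smul, ← zpow_natCast, ← zpow_add, neg_add_cancel, zpow_zero, one_smul] at this
  exact this

include N in
theorem chain {g₁ g₂ : L} (H : ∀ n : ℤ, NoJump π x y ((pu π K) ^ n • g₁) g₂) (m : ℤ) (k : ℕ) (t : L)
    (h1 : Le (Ideal.span {x, π}) ((pu π K) ^ m • g₁) t) (h2 : Le (Ideal.span {y, π}) g₂ t) :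
    ∃ u, Le (Ideal.span {x, π}) ((pu π K) ^ (m + k) • g₁) u ∧ Le (Ideal.span {y, π}) g₂ u ∧
      Le (Ideal.span {y, π}) (π • g₂) (t - u) := by
  have hp2 := N.prime2
  induction k with
  | zero => exact ⟨t, by simpa using h1, h2, by rw [sub_self]; exact Le.zero _⟩
  | succ k ih =>
    obtain ⟨u, hu1, hu2, hu3⟩ := ih
    obtain ⟨v, hv1, hv2, hv3⟩ := H _ u hu1 hu2
    refine ⟨v, ?_, hv2, ?_⟩
    · rw [pi_smul_zpow] at hv1
      rw [Nat.cast_succ, ← add_assoc]
      exact hv1
    · have := hu3.add hv3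
      rwa [sub_add_sub_cancel] at this

include N in
theorem iter {g₁ g₂ : L} (hg₁ : Gen π (Ideal.span {x, π}) g₁)
    (H : ∀ n : ℤ, NoJump π x y ((pu π K) ^ n • g₁) g₂) (n : ℤ) (k : ℕ) (s : L)
    (h2 : Le (Ideal.span {y, π}) g₂ s) :
    ∃ u w, s = u + π ^ k • w ∧ Le (Ideal.span {x, π}) ((pu π K) ^ n • g₁) u ∧
      Le (Ideal.span {y, π}) g₂ w := by
  have hp1 := N.prime1
  have hp2 := N.prime2
  induction k with
  | zero => exact ⟨0, s, by simp, Le.zero _, h2⟩
  | succ k ih =>
    obtain ⟨u, w, hs, hu, hw⟩ := ih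
    obtain ⟨m, hm⟩ := exists_zpow_le (K := K) hg₁ w
    obtain ⟨u', hu1', -, hu3'⟩ := chain N H m (n - m).toNat w hm hw
    have hn : n ≤ m + (n - m).toNat := by
      have := Int.self_le_toNat (n - m)
      linarith
    obtain ⟨w', hw'⟩ := exists_smul_eq π K (w - u')
    refine ⟨u + π ^ k • u', w', ?_, hu.add ((le_of_zpow_le hu1' hn).smul _), ?_⟩
    · rw [hs, pow_succ, mul_smul, hw', smul_sub]; abel
    · rw [← hw'] at hu3'
      exact (le_pi_iff π K).1 hu3'

/-- functionals send everything to the ideal of the node. -/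
theorem functional_mem {π x y : B} (N : NodeData π x y 0) [IsLocalization.Away π K] {g₁ g₂ : L}
    (hg₁ : Gen π (Ideal.span {x, π}) g₁)
    (hg₂ : Gen π (Ideal.span {y, π}) g₂)
    (H : ∀ n : ℤ, NoJump π x y ((pu π K) ^ n • g₁) g₂) (f : L →ₗ[K] K) (s : L) :
    f s ∈ (Ideal.span {x, y}).map (algebraMap B K) := by
  have hp1 := N.prime1
  have hp2 := N.prime2
  -- reduce to `s` in the lattice at the second branch
  suffices hs : ∀ s : L, Le (Ideal.span {y, π}) g₂ s →
      f s ∈ (Ideal.span {x, y}).map (algebraMap B K) by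
    obtain ⟨n, hn⟩ := hg₂.exists_le s
    have h1 := hs _ hn
    rw [← algebraMap_smul K (π ^ n) s, map_smul, smul_eq_mul] at h1
    have hu : IsUnit (algebraMap B K (π ^ n)) := by
      rw [map_pow]; exact (IsLocalization.Away.algebraMap_isUnit (S := K) π).pow n
    exact (Ideal.unit_mul_mem_iff_mem _ hu).1 h1
  intro s hs
  have hbd : ∀ (p : Ideal B) [p.IsPrime] (g : L), ∃ c : ℕ, Le p ((pu π K) ^ (-(c : ℤ)) • (1 : K)) (f g) := by
    intro p _ g
    obtain ⟨n, b, hb⟩ := exists_pow_mul (ϖ := π) (f g)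
    refine ⟨n, 1, one_notMem, b, ?_⟩
    have h1 : f g = (pu π K) ^ (-(n : ℤ)) • algebraMap B K b := by
      rw [← hb, map_pow, ← coe_pu, ← Units.val_pow_eq_pow_val, ← smul_eq_mul, ← Units.smul_def, smul_smul,
        ← zpow_natCast, ← zpow_add, neg_add_cancel, zpow_zero, one_smul]
    rw [one_smul, h1, smul_comm, Algebra.smul_def b (1 : K), mul_one]
  obtain ⟨c1, hc1⟩ := hbd (Ideal.span {x, π}) g₁
  obtain ⟨c2, hc2⟩ := hbd (Ideal.span {y, π}) g₂
  obtain ⟨N0, b0, hb0⟩ := exists_pow_mul (ϖ := π) (f s)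
  have hmap : ∀ (p : Ideal B) (g u : L) (m : ℤ), Le p ((pu π K) ^ m • g) u →
      Le p ((pu π K) ^ m • f g) (f u) := by
    rintro p g u m ⟨a, ha, b, hab⟩
    refine ⟨a, ha, b, ?_⟩
    have := congrArg f hab
    rw [← algebraMap_smul K a, ← algebraMap_smul K b, map_smul, map_smul, algebraMap_smul, algebraMap_smul,
      Units.smul_def, map_smul, ← Units.smul_def] at this
    exact this
  have hkey : ∀ M : ℕ, ∃ b', b0 - π ^ M * b' ∈ Ideal.span {x, y} := by
    intro M
    obtain ⟨u, w, hs', hu, hw⟩ := iter N hg₁ H ((c1 : ℤ) + M) (c2 + M) s hs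
    have h1 : Le (Ideal.span {x, π}) ((pu π K) ^ (M : ℤ) • (1 : K)) (f u) := by
      have h3 := hc1.unit_smul ((pu π K) ^ ((c1 : ℤ) + M))
      rw [smul_smul, ← zpow_add] at h3
      have h4 := h3.trans (hmap _ _ _ _ hu)
      rwa [show (c1 : ℤ) + M + -(c1 : ℤ) = M by ring] at h4
    have h2 : Le (Ideal.span {y, π}) ((pu π K) ^ (M : ℤ) • (1 : K)) (f (π ^ (c2 + M) • w)) := by
      have h3 : Le (Ideal.span {y, π}) ((pu π K) ^ (0 : ℤ) • f g₂) (f w) :=
        hmap _ _ _ 0 (by simpa using hw)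
      rw [zpow_zero, one_smul] at h3
      have h4 := (hc2.trans h3).unit_smul ((pu π K) ^ ((c2 : ℤ) + M))
      rw [smul_smul, ← zpow_add, show (c2 : ℤ) + M + -(c2 : ℤ) = M by ring] at h4
      have h5 : f (π ^ (c2 + M) • w) = (pu π K) ^ ((c2 : ℤ) + M) • f w := by
        rw [← algebraMap_smul K (π ^ (c2 + M)) w, map_smul, map_pow, ← coe_pu, ← Units.val_pow_eq_pow_val,
          ← Units.smul_def]
        congr 1
      rw [h5]
      exact h4
    obtain ⟨b1, hb1⟩ := red2 N.symm h1
    obtain ⟨b2, hb2⟩ := red2 N h2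
    rw [show ({y, x} : Set B) = {x, y} from Set.pair_comm y x] at hb1
    refine ⟨π ^ N0 * (b1 + b2), ?_⟩
    apply mem_of_algebraMap_mem N (K := K)
    have h3 := Ideal.mul_mem_left _ (algebraMap B K (π ^ N0)) (Ideal.add_mem _ hb1 hb2)
    have h4 : f s = f u + f (π ^ (c2 + M) • w) := by rw [← map_add, ← hs']
    have h5 : (((pu π K) ^ (M : ℤ) : Kˣ) : K) = algebraMap B K (π ^ M) := by
      rw [zpow_natCast, Units.val_pow_eq_pow_val, coe_pu, map_pow]
    rw [h5] at h3
    have h6 : algebraMap B K (b0 - π ^ M * (π ^ N0 * (b1 + b2))) = algebraMap B K (π ^ N0) *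
      (f u - algebraMap B K (π ^ M) * algebraMap B K b1 + (f (π ^ (c2 + M) • w) -
        algebraMap B K (π ^ M) * algebraMap B K b2)) := by
      rw [map_sub, ← hb0, h4, map_mul, map_mul, map_add]
      ring
    rw [h6]
    exact h3
  -- Krull intersection
  have hb0mem : b0 ∈ Ideal.span {x, y} := by
    by_contra hcon
    have hne : Ideal.span {x, y} ≠ (⊤ : Ideal B) := by
      intro h
      have : Ideal.span {x, y} ≤ maximalIdeal B := Ideal.span_le.2 (by
        rintro z (rfl | rfl)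
        exacts [N.x_mem, N.y_mem])
      rw [h] at this
      exact (maximalIdeal.isMaximal B).ne_top (top_le_iff.1 this)
    have : Nontrivial (B ⧸ Ideal.span {x, y}) := Ideal.Quotient.nontrivial_iff.mpr hne
    have hloc : IsLocalRing (B ⧸ Ideal.span {x, y}) :=
      IsLocalRing.of_surjective' (Ideal.Quotient.mk _) Ideal.Quotient.mk_surjective
    have hN : IsNoetherianRing (B ⧸ Ideal.span {x, y}) :=
      isNoetherianRing_of_surjective B _ (Ideal.Quotient.mk _) Ideal.Quotient.mk_surjective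
    have hlh : IsLocalHom (Ideal.Quotient.mk (Ideal.span {x, y})) :=
      IsLocalHom.of_surjective _ Ideal.Quotient.mk_surjective
    have h0 : (⨅ i : ℕ, maximalIdeal (B ⧸ Ideal.span {x, y}) ^ i) = ⊥ :=
      Ideal.iInf_pow_eq_bot_of_isLocalRing _ (maximalIdeal.isMaximal _).ne_top
    have h1 : Ideal.Quotient.mk (Ideal.span {x, y}) b0 ∈
        (⨅ i : ℕ, maximalIdeal (B ⧸ Ideal.span {x, y}) ^ i) := by
      rw [Ideal.mem_iInf]
      intro M
      obtain ⟨b', hb'⟩ := hkey M
      rw [← Ideal.Quotient.eq] at hb'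
      rw [hb', map_mul, map_pow]
      refine Ideal.mul_mem_right _ _ (Ideal.pow_mem_pow ?_ M)
      have := N.pi_mem
      rw [IsLocalRing.mem_maximalIdeal, mem_nonunits_iff] at this ⊢
      exact fun h => this (isUnit_of_map_unit _ _ h)
    rw [h0, Ideal.mem_bot, Ideal.Quotient.eq_zero_iff_mem] at h1
    exact hcon h1
  have hu : IsUnit (algebraMap B K (π ^ N0)) := by
    rw [map_pow]; exact (IsLocalization.Away.algebraMap_isUnit (S := K) π).pow N0
  rw [← Ideal.unit_mul_mem_iff_mem _ hu, hb0]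
  exact Ideal.mem_map_of_mem _ hb0mem

/-- an element of the lattice of order `0` at the second branch. -/
theorem exists_order_zero {π x y : B} (N : NodeData π x y l) {g₁ g₂ : L}
    (hg₁ : Gen π (Ideal.span {x, π}) g₁) (hg₂ : Gen π (Ideal.span {y, π}) g₂) :
    ∃ t, Le (Ideal.span {x, π}) g₁ t ∧ Le (Ideal.span {y, π}) g₂ t ∧
      ¬ Le (Ideal.span {y, π}) (π • g₂) t := by
  have hp2 := N.prime2
  obtain ⟨s, hs, hs'⟩ := exists_smul_mem N.sys ![g₁, g₂]
    (by intro i; fin_cases i; exacts [hg₁, hg₂]) (by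
      intro i j hij
      fin_cases i <;> fin_cases j
      · exact @Eqv.refl _ _ _ _ _ _ N.prime1 g₁
      · exact absurd hij.le N.not_le
      · exact absurd hij.le N.symm.not_le
      · exact @Eqv.refl _ _ _ _ _ _ N.prime2 g₂) 1
  refine ⟨s • g₂, hs' 0, hs' 1, ?_⟩
  rintro ⟨a, ha, b, hab⟩
  have h1 : (a * s - b * π) • g₂ = 0 := by
    rw [sub_smul, mul_smul, mul_smul, hab, sub_self]
  obtain ⟨d, hd, hd'⟩ := hg₂.torsion_free _ h1
  apply mul_notMem hd (mul_notMem ha hs)
  have h2 : d * (a * s) = d * b * π := by linear_combination hd'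
  rw [h2]
  exact Ideal.mul_mem_left _ _ (Ideal.subset_span (by simp))

/-- there is a jump -/
theorem exists_jump [Module.Invertible K L] {g₁ g₂ : L}
    (N : NodeData π x y l)
    (hg₁ : Gen π (Ideal.span {x, π}) g₁) (hg₂ : Gen π (Ideal.span {y, π}) g₂) :
    ∃ n : ℤ, ¬ NoJump π x y ((pu π K) ^ n • g₁) g₂ := by
  by_contra hcon
  push Not at hcon
  have hp1 := N.prime1
  have hp2 := N.prime2
  by_cases hl : l = 0
  · subst hl
    obtain ⟨n, e, f, -, hfe⟩ := exists_dualBasis (K := K) (L := L)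
    have h1 : (1 : K) ∈ (Ideal.span {x, y}).map (algebraMap B K) := by
      rw [← hfe]
      exact Ideal.sum_mem _ fun j _ => functional_mem N hg₁ hg₂ hcon (f j) (e j)
    rw [← map_one (algebraMap B K)] at h1
    have h2 := mem_of_algebraMap_mem N h1
    have h3 : Ideal.span {x, y} ≤ maximalIdeal B := Ideal.span_le.2 (by
      rintro z (rfl | rfl)
      exacts [N.x_mem, N.y_mem])
    exact (Ideal.ne_top_iff_one _).1 (maximalIdeal.isMaximal B).ne_top (h3 h2)
  · have S := N.sys
    have hfg : (lat (Ideal.span {x, π}) g₁ ⊓ lat (Ideal.span {y, π}) g₂).FG := by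
      have h3 := fg_iInf_lat S (K := K) (![g₁, g₂])
      have e : (⨅ i, @lat B _ L _ _ (N.P i) (S.prime i) (![g₁, g₂] i)) =
          lat (Ideal.span {x, π}) g₁ ⊓ lat (Ideal.span {y, π}) g₂ := by
        apply le_antisymm
        · exact le_inf (iInf_le _ (0 : Fin 2)) (iInf_le _ (1 : Fin 2))
        · refine le_iInf fun i => ?_
          fin_cases i
          · exact inf_le_left
          · exact inf_le_right
      rwa [e] at h3
    have hle : lat (Ideal.span {x, π}) g₁ ⊓ lat (Ideal.span {y, π}) g₂ ≤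
        lat (Ideal.span {y, π}) (π • g₂) := by
      refine Submodule.le_of_le_smul_of_le_jacobson_bot (I := maximalIdeal B) hfg
        (IsLocalRing.maximalIdeal_le_jacobson _) ?_
      intro t ht
      obtain ⟨u, hu1, hu2, hu3⟩ := chain N hcon 0 l t (by rw [zpow_zero, one_smul]; exact ht.1) ht.2
      rw [zero_add] at hu1
      -- `u = x • u'`
      have hxu : x • (pu π K) ^ (-(l : ℤ)) • y • u = u := by
        rw [smul_comm x, smul_smul x y u, N.rel, if_neg hl, ← pu_pow_smul K, smul_smul, ← zpow_natCast,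
          ← zpow_add, neg_add_cancel, zpow_zero, one_smul]
      rw [← sub_add_cancel t u]
      refine Submodule.add_mem_sup hu3 ?_
      rw [← hxu]
      refine Submodule.smul_mem_smul N.x_mem ⟨?_, ?_⟩
      · have := (hu1.smul y).unit_smul ((pu π K) ^ (-(l : ℤ)))
        rw [smul_smul, ← zpow_add, neg_add_cancel, zpow_zero, one_smul] at this
        exact this
      · refine Le.of_smul N.x_notMem ?_
        rw [hxu]
        exact hu2
    obtain ⟨t, h1, h2, h3⟩ := exists_order_zero N hg₁ hg₂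
    exact h3 (hle ⟨h1, h2⟩)

/-- **(F3)** an invertible `B[1/π]`-module is generated by one element, whose orders at the two branches are
`n` and `0` for some `n`. -/
theorem exists_generator [Module.Invertible K L] {g₁ g₂ : L}
    (N : NodeData π x y l)
    (hg₁ : Gen π (Ideal.span {x, π}) g₁) (hg₂ : Gen π (Ideal.span {y, π}) g₂) :
    ∃ (n : ℤ) (t : L), IsGenerator π t ∧ Eqv (Ideal.span {x, π}) ((pu π K) ^ n • g₁) t ∧
      Eqv (Ideal.span {y, π}) g₂ t := by
  obtain ⟨n, hn⟩ := exists_jump (K := K) N hg₁ hg₂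
  refine ⟨n, generator_of_jump N K (hg₁.unit_smul _) hg₂ ?_⟩
  unfold NoJump at hn
  push Not at hn
  obtain ⟨t₀, h1, h2, h3⟩ := hn
  exact ⟨t₀, h1, h2, h3⟩

theorem IsGenerator.unit_smul {t : L} (ht : IsGenerator π t) (u : Kˣ) : IsGenerator π (u • t) := by
  intro v
  obtain ⟨n, c, h⟩ := ht (u⁻¹ • v)
  refine ⟨n, c, ?_⟩
  have := congrArg (fun z => u • z) h
  change u • π ^ n • u⁻¹ • v = u • c • t at this
  rw [smul_comm u (π ^ n), smul_inv_smul, smul_comm u c] at this
  exact this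

theorem order_x {π x y : B} (N : NodeData π x y l) (g : L) (hl : l ≠ 0) :
    Eqv (Ideal.span {x, π}) (π ^ l • g) (x • g) := by
  refine ⟨y, N.y_notMem, 1, @one_notMem _ _ _ N.prime1, ?_⟩
  rw [smul_smul, mul_comm y x, N.rel, if_neg hl, one_smul]

theorem isGenerator_x {t : L} (N : NodeData π x y l) (hl : l ≠ 0) (ht : IsGenerator π t) :
    IsGenerator π (x • t) := by
  intro v
  obtain ⟨n, c, h⟩ := ht v
  refine ⟨l + n, y * c, ?_⟩
  rw [pow_add, mul_smul, h, smul_smul, smul_smul]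
  congr 1
  have := N.rel
  rw [if_neg hl] at this
  linear_combination - c * this

/-- multiplication by powers of `x`. -/
theorem exists_generator_pow {g₁ g₂ : L} (hl : l ≠ 0)
    (N : NodeData π x y l) (k : ℕ) (n : ℤ) (t : L) (ht : IsGenerator π t)
    (h1 : Eqv (Ideal.span {x, π}) ((pu π K) ^ n • g₁) t)
    (h2 : Eqv (Ideal.span {y, π}) g₂ t) : ∃ t' : L, IsGenerator π t' ∧
      Eqv (Ideal.span {x, π}) ((pu π K) ^ (n + l * k) • g₁) t' ∧ Eqv (Ideal.span {y, π}) g₂ t' := by
  have hp1 := N.prime1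
  have hp2 := N.prime2
  induction k with
  | zero => exact ⟨t, ht, by simpa using h1, h2⟩
  | succ k ih =>
    obtain ⟨t', ht', h1', h2'⟩ := ih
    refine ⟨x • t', isGenerator_x N hl ht', ?_, h2'.smul_right N.x_notMem⟩
    have h3 := h1'.map (LinearMap.lsmul B L (π ^ l))
    simp only [LinearMap.lsmul_apply] at h3
    rw [pow_smul_zpow] at h3
    have h4 : n + (l : ℤ) * ((k + 1 : ℕ) : ℤ) = n + l * k + l := by push_cast; ring
    rw [h4]
    exact h3.trans (order_x N t' hl)

/-- **(F3)** with prescribed orders. -/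
theorem exists_generator_of_dvd {g₁ g₂ : L} (N : NodeData π x y l) (n m : ℤ) (hnm : (l : ℤ) ∣ m - n)
    (t : L) (ht : IsGenerator π t)
    (h1 : Eqv (Ideal.span {x, π}) ((pu π K) ^ n • g₁) t)
    (h2 : Eqv (Ideal.span {y, π}) g₂ t) : ∃ t' : L, IsGenerator π t' ∧
      Eqv (Ideal.span {x, π}) ((pu π K) ^ m • g₁) t' ∧ Eqv (Ideal.span {y, π}) g₂ t' := by
  have hp1 := N.prime1
  have hp2 := N.prime2
  by_cases hl : l = 0
  · subst hl
    have : m = n := by
      have h3 : (0 : ℤ) ∣ m - n := by simpa using hnm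
      have := zero_dvd_iff.1 h3
      linarith
    subst this
    exact ⟨t, ht, h1, h2⟩
  obtain ⟨k, hk⟩ := hnm
  rcases Int.le_total 0 k with hk0 | hk0
  · obtain ⟨k, rfl⟩ := Int.eq_ofNat_of_zero_le hk0
    obtain ⟨t', h⟩ := exists_generator_pow hl N k n t ht h1 h2
    refine ⟨t', ?_⟩
    rw [show m = n + l * k by linarith]
    exact h
  · obtain ⟨k', hk'⟩ := Int.eq_ofNat_of_zero_le (Int.neg_nonneg_of_nonpos hk0)
    -- swap the roles of the branches
    have h1' : Eqv (Ideal.span {x, π}) g₁ ((pu π K) ^ (-n) • t) := by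
      have := h1.unit_smul ((pu π K) ^ (-n))
      rwa [smul_smul, ← zpow_add, neg_add_cancel, zpow_zero, one_smul] at this
    have h2' : Eqv (Ideal.span {y, π}) ((pu π K) ^ (-n) • g₂) ((pu π K) ^ (-n) • t) :=
      h2.unit_smul ((pu π K) ^ (-n))
    obtain ⟨t', ht', h3, h4⟩ := exists_generator_pow hl N.symm k' (-n) _ (IsGenerator.unit_smul ht _) h2' h1'
    refine ⟨(pu π K) ^ m • t', IsGenerator.unit_smul ht' _, h4.unit_smul _, ?_⟩
    have h5 := h3.unit_smul ((pu π K) ^ m)
    rw [smul_smul, ← zpow_add, show m + (-n + (l : ℤ) * k') = 0 by rw [← hk']; linarith, zpow_zero,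
      one_smul] at h5
    exact h5

/-- a generator has no torsion. -/
theorem IsGenerator.eq_zero [Module.Invertible K L] {t : L} (ht : IsGenerator π t) {c : K} (h : c • t = 0) :
    c = 0 := by
  apply FaithfulSMul.eq_of_smul_eq_smul (α := L)
  intro u
  rw [zero_smul]
  obtain ⟨n, d, hd⟩ := ht u
  apply pow_smul_inj π K n
  rw [smul_zero, smul_comm, hd, smul_comm, h, smul_zero]

theorem IsGenerator.exists_smul {t : L} (ht : IsGenerator π t) (u : L) : ∃ h : K, u = h • t := by
  obtain ⟨n, d, hd⟩ := ht u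
  refine ⟨(((pu π K) ^ n)⁻¹ : Kˣ) * algebraMap B K d, ?_⟩
  rw [mul_smul, algebraMap_smul, ← hd, ← Units.smul_def, ← pu_pow_smul K, inv_smul_smul]

/-- **(F4)**, first half. -/
theorem f4_aux [Module.Invertible K L] {g₁ g₂ : L} (N : NodeData π x y l) (r : ℕ) (hr : 0 < r)
    (hrl : l = 0 ∨ r < l) (t t' : L) (ht : IsGenerator π t) (ht' : IsGenerator π t')
    (h1 : Eqv (Ideal.span {x, π}) g₁ t)
    (h2 : Eqv (Ideal.span {y, π}) g₂ t) 
    (h1' : Eqv (Ideal.span {x, π}) (π ^ r • g₁) t')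
    (h2' : Eqv (Ideal.span {y, π}) g₂ t') : False := by
  have hp1 := N.prime1
  have hp2 := N.prime2
  have hπ1 : π ∈ Ideal.span {x, π} := Ideal.subset_span (by simp)
  have hπ2 : π ∈ Ideal.span {y, π} := Ideal.subset_span (by simp)
  obtain ⟨h, hh⟩ := IsGenerator.exists_smul (K := K) ht t'
  obtain ⟨h'', hh''⟩ := IsGenerator.exists_smul (K := K) ht' t
  have hinv : h'' * h = 1 := by
    have h3 : (h'' * h - 1) • t = 0 := by
      rw [sub_smul, one_smul, mul_smul, ← hh, ← hh'', sub_self]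
    exact sub_eq_zero.1 (IsGenerator.eq_zero ht h3)
  obtain ⟨a, ha, b, hb, hab⟩ := h1
  obtain ⟨a', ha', b', hb', hab'⟩ := h1'
  obtain ⟨c, hc, d, hd, hcd⟩ := h2
  obtain ⟨c', hc', d', hd', hcd'⟩ := h2'
  -- relations in `K`
  have e1 : algebraMap B K (b * a') * h = algebraMap B K (b' * π ^ r * a) := by
    apply sub_eq_zero.1
    apply IsGenerator.eq_zero ht
    rw [sub_smul, mul_smul, ← hh, algebraMap_smul, algebraMap_smul, mul_smul, hab', mul_smul, hab,
      sub_eq_zero, smul_smul, smul_smul, smul_smul]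
    congr 1
    ring
  have e2 : algebraMap B K (d * c') * h = algebraMap B K (d' * c) := by
    apply sub_eq_zero.1
    apply IsGenerator.eq_zero ht
    rw [sub_smul, mul_smul, ← hh, algebraMap_smul, algebraMap_smul, mul_smul, hcd', mul_smul, hcd,
      sub_eq_zero, smul_smul, smul_smul]
    congr 1
    ring
  have m1 : b * a' ∉ Ideal.span {x, π} := mul_notMem hb ha'
  have m2 : d * c' ∉ Ideal.span {y, π} := mul_notMem hd hc'
  have m3 : b' * a * y ∉ Ideal.span {x, π} := mul_notMem (mul_notMem hb' ha) N.y_notMem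
  have m4 : d' * c ∉ Ideal.span {y, π} := mul_notMem hd' hc
  obtain ⟨c0, hc0⟩ := exists_of_forall N.sys h (by
    intro i
    fin_cases i
    · exact ⟨_, m1, _, e1⟩
    · exact ⟨_, m2, _, e2⟩)
  have inj := algebraMap_injective N.sys (K := K)
  have hc01 : c0 ∈ Ideal.span {x, π} := by
    have h3 : b * a' * c0 = b' * π ^ r * a := by
      apply inj
      rw [map_mul, hc0, e1]
    have h4 : b * a' * c0 ∈ Ideal.span {x, π} := by
      rw [h3]
      exact Ideal.mul_mem_right _ _ (Ideal.mul_mem_left _ _ (Ideal.pow_mem_of_mem _ hπ1 r hr))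
    exact (hp1.mem_or_mem h4).resolve_left (mul_notMem hb ha')
  -- the second element
  have e3 : algebraMap B K (b' * π ^ r * a) * h'' = algebraMap B K (b * a') := by
    rw [← e1, mul_assoc, mul_comm h h'', hinv, mul_one]
  have e4 : algebraMap B K (d' * c) * h'' = algebraMap B K (d * c') := by
    rw [← e2, mul_assoc, mul_comm h h'', hinv, mul_one]
  have hpow : ∃ q ∈ Ideal.span {x, π}, x * y = π ^ r * q := by
    rw [N.rel]
    split_ifs with hl
    · exact ⟨0, Ideal.zero_mem _, by simp⟩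
    · have hrl' : r < l := hrl.resolve_left hl
      refine ⟨π ^ (l - r), Ideal.pow_mem_of_mem _ hπ1 _ (Nat.sub_pos_of_lt hrl'), ?_⟩
      rw [← pow_add, Nat.add_sub_cancel' hrl'.le]
  obtain ⟨q, hq, hxyq⟩ := hpow
  have e5 : algebraMap B K (b' * a * y) * (algebraMap B K x * h'') = algebraMap B K (b * a' * q) := by
    have hu : IsUnit (algebraMap B K (π ^ r)) := by
      rw [map_pow]; exact (IsLocalization.Away.algebraMap_isUnit (S := K) π).pow r
    apply hu.mul_left_cancel
    have h3 := congrArg (algebraMap B K) hxyq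
    simp only [map_mul] at h3 e3 ⊢
    linear_combination (algebraMap B K x * algebraMap B K y) * e3 + 
      (algebraMap B K b * algebraMap B K a') * h3
  obtain ⟨d0, hd0⟩ := exists_of_forall N.sys (algebraMap B K x * h'') (by
    intro i
    fin_cases i
    · exact ⟨_, m3, _, e5⟩
    · refine ⟨_, m4, x * (d * c'), ?_⟩
      rw [mul_left_comm, e4, ← map_mul])
  have hd01 : d0 ∈ Ideal.span {x, π} := by
    have h3 : b' * a * y * d0 = b * a' * q := by
      apply inj
      rw [map_mul, hd0, e5]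
    have h4 : b' * a * y * d0 ∈ Ideal.span {x, π} := by
      rw [h3]
      exact Ideal.mul_mem_left _ _ hq
    exact (hp1.mem_or_mem h4).resolve_left (mul_notMem (mul_notMem hb' ha) N.y_notMem)
  have hx : x = d0 * c0 := by
    apply inj
    rw [map_mul, hd0, hc0, mul_assoc, hinv, mul_one]
  obtain ⟨c1, c2, hc12⟩ := Ideal.mem_span_pair.1 hc01
  obtain ⟨d1, d2, hd12⟩ := Ideal.mem_span_pair.1 hd01
  have h3 : x * (1 - d1 * c1 * x) ∈ Ideal.span {y, π} := by
    have : x * (1 - d1 * c1 * x) = π * (d1 * x * c2 + d2 * (c1 * x + c2 * π)) := by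
      have h4 : x = (d1 * x + d2 * π) * (c1 * x + c2 * π) := by rw [hc12, hd12]; exact hx
      linear_combination h4
    rw [this]
    exact Ideal.mul_mem_right _ _ hπ2
  have h4 := (hp2.mem_or_mem h3).resolve_left N.x_notMem
  have h5 : Ideal.span {y, π} ≤ maximalIdeal B := Ideal.span_le.2 (by
      rintro z (rfl | rfl)
      exacts [N.y_mem, N.pi_mem])
  have h6 : (1 : B) ∈ maximalIdeal B := by
    have := Ideal.add_mem _ (h5 h4) (Ideal.mul_mem_left _ (d1 * c1) N.x_mem)
    rwa [sub_add_cancel] at this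
  exact (Ideal.ne_top_iff_one _).1 (maximalIdeal.isMaximal B).ne_top h6

/-- **(F4)** the orders of two generators are congruent modulo the thickness. -/
theorem f4 [Module.Invertible K L] {g₁ g₂ : L} (N : NodeData π x y l) (n m : ℤ)
    (t t' : L) (ht : IsGenerator π t) (ht' : IsGenerator π t')
    (h1 : Eqv (Ideal.span {x, π}) ((pu π K) ^ n • g₁) t)
    (h2 : Eqv (Ideal.span {y, π}) g₂ t) 
    (h1' : Eqv (Ideal.span {x, π}) ((pu π K) ^ m • g₁) t')
    (h2' : Eqv (Ideal.span {y, π}) g₂ t') : (l : ℤ) ∣ m - n := by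
  have hp1 := N.prime1
  have hp2 := N.prime2
  by_contra hcon
  have key : ∀ (n m : ℤ) (t t' : L), IsGenerator π t → IsGenerator π t' → 
    Eqv (Ideal.span {x, π}) ((pu π K) ^ n • g₁) t → Eqv (Ideal.span {y, π}) g₂ t →
    Eqv (Ideal.span {x, π}) ((pu π K) ^ m • g₁) t' → Eqv (Ideal.span {y, π}) g₂ t' → n < m →
      (l = 0 ∨ m - n < l) → False := by
    intro n m t t' ht ht' h1 h2 h1' h2' hlt hl
    have hm : m = n + (m - n).toNat := by
      have := Int.toNat_of_nonneg (show 0 ≤ m - n by linarith)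
      linarith
    refine f4_aux N (K := K) (g₁ := (pu π K) ^ n • g₁) (m - n).toNat (by omega) ?_ t t' ht ht' h1 h2 ?_ h2'
    · rcases hl with hl | hl
      · exact Or.inl hl
      · right; omega
    · rw [pow_smul_zpow, ← hm]
      exact h1'
  by_cases hl : l = 0
  · subst hl
    have hne : m ≠ n := by
      rintro rfl
      exact hcon (by simp)
    rcases lt_or_gt_of_ne hne with h | h
    · exact key m n t' t ht' ht h1' h2' h1 h2 h (Or.inl rfl)
    · exact key n m t t' ht ht' h1 h2 h1' h2' h (Or.inl rfl)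
  · -- reduce modulo `l`
    have hl' : (0 : ℤ) < l := by exact_mod_cast Nat.pos_of_ne_zero hl
    set r := (m - n) % l with hr
    have hr0 : 0 ≤ r := Int.emod_nonneg _ (ne_of_gt hl')
    have hrl : r < l := Int.emod_lt_of_pos _ hl'
    have hrne : r ≠ 0 := fun h => hcon (Int.dvd_of_emod_eq_zero h)
    obtain ⟨t'', ht'', h3, h4⟩ := exists_generator_of_dvd N m (n + r)
      (by
        have := Int.emod_add_mul_ediv (m - n) l
        refine ⟨- ((m - n) / l), ?_⟩
        rw [← hr] at this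
        linear_combination this) t' ht' h1' h2'
    exact key n (n + r) t t'' ht ht'' h1 h2 h3 h4 (by omega) (Or.inr (by omega))

end Jump

end K794.NodeAlg
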