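import Groth.Agent.SemiFact.K794.NodeF3
import Groth.Agent.SemiFact.K793.NodeDesc
import Mathlib.RingTheory.Flat.FaithfullyFlat.Algebra
import Mathlib.RingTheory.Filtration

/-!
# Node rings: flat base change, comparison of thicknesses
-/

set_option autoImplicit false
set_option linter.unusedSectionVars false

universe u

open IsLocalRing

namespace K794.NodeAlg

open K794.Lat

/-- A local noetherian ring whose maximal ideal is generated by a nonzerodivisor is a domain. -/
theorem isDomain_of_max {A : Type*} [CommRing A] [IsLocalRing A] [IsNoetherianRing A] {t : A}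
    (htm : t ∈ maximalIdeal A) (ht : ∀ a, t * a = 0 → a = 0) (hm : maximalIdeal A ≤ Ideal.span {t}) :
    IsDomain A := by
  have hne : Ideal.span {t} ≠ ⊤ := fun h => (maximalIdeal.isMaximal A).ne_top
    (top_le_iff.1 (h ▸ (Ideal.span_singleton_le_iff_mem _).2 htm))
  have hfac : ∀ a : A, a ≠ 0 → ∃ (n : ℕ) (u : A), IsUnit u ∧ a = t ^ n * u := by
    intro a ha
    have hk : ∃ n : ℕ, a ∉ Ideal.span {t} ^ n := by
      by_contra hcon
      push Not at hcon
      apply ha
      have h1 : a ∈ (⨅ i : ℕ, Ideal.span {t} ^ i : Ideal A) := (Submodule.mem_iInf _).2 hcon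
      rwa [Ideal.iInf_pow_eq_bot_of_isLocalRing _ hne, Ideal.mem_bot] at h1
    classical
    have h1 := Nat.find_spec hk
    have h0 : Nat.find hk ≠ 0 := by
      intro h
      rw [h] at h1
      exact h1 (by simp)
    obtain ⟨m, hm'⟩ := Nat.exists_eq_succ_of_ne_zero h0
    have h2 : a ∈ Ideal.span {t} ^ m := by
      by_contra h
      have := Nat.find_min' hk h
      omega
    rw [Ideal.span_singleton_pow, Ideal.mem_span_singleton'] at h2
    obtain ⟨u, hu⟩ := h2
    refine ⟨m, u, ?_, by rw [← hu, mul_comm]⟩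
    by_contra hnu
    obtain ⟨v, hv⟩ := Ideal.mem_span_singleton'.1 (hm hnu)
    apply h1
    rw [hm', Ideal.span_singleton_pow, Ideal.mem_span_singleton']
    exact ⟨v, by rw [← hu, ← hv, Nat.succ_eq_add_one, pow_succ]; ring⟩
  have hpow : ∀ (n : ℕ) (a : A), t ^ n * a = 0 → a = 0 := by
    intro n
    induction n with
    | zero => intro a h; simpa using h
    | succ n ih =>
      intro a h
      apply ht
      apply ih
      rw [← mul_assoc, ← pow_succ]
      exact h
  have : NoZeroDivisors A := ⟨by
    intro a b hab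
    by_contra hcon
    push Not at hcon
    obtain ⟨n, u, hu, rfl⟩ := hfac a hcon.1
    obtain ⟨m, v, hv, rfl⟩ := hfac b hcon.2
    have h1 : t ^ (n + m) * (u * v) = 0 := by rw [← hab]; ring
    have h2 := hpow _ _ h1
    exact (hu.mul hv).ne_zero h2⟩
  exact NoZeroDivisors.to_isDomain A

namespace NodeData

section Flat

variable {B B' : Type u} [CommRing B] [IsLocalRing B] [CommRing B'] [IsLocalRing B'] [IsNoetherianRing B']
  [Algebra B B'] [Module.FaithfullyFlat B B'] {π x y : B} {l : ℕ}

theorem prime_of_flat (hmax : (maximalIdeal B).map (algebraMap B B') = maximalIdeal B')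
    (N : NodeData π x y l) : (Ideal.span {algebraMap B B' x, algebraMap B B' π}).IsPrime := by
  have hp := N.prime1
  have e : Ideal.span {algebraMap B B' x, algebraMap B B' π} = (Ideal.span {x, π}).map (algebraMap B B') := by
    rw [Ideal.map_span]
    congr 1
    simp [Set.image_insert_eq, Set.image_singleton]
  rw [e]
  have hne : (Ideal.span {x, π}).map (algebraMap B B') ≠ ⊤ := by
    intro h
    apply (maximalIdeal.isMaximal B').ne_top
    rw [← top_le_iff, ← h, ← hmax]
    exact Ideal.map_mono (IsLocalRing.le_maximalIdeal hp.ne_top)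
  have hnt : Nontrivial (B' ⧸ (Ideal.span {x, π}).map (algebraMap B B')) := Ideal.Quotient.nontrivial_iff.mpr hne
  have hloc : IsLocalRing (B' ⧸ (Ideal.span {x, π}).map (algebraMap B B')) :=
    IsLocalRing.of_surjective' (Ideal.Quotient.mk _) Ideal.Quotient.mk_surjective
  have hN : IsNoetherianRing (B' ⧸ (Ideal.span {x, π}).map (algebraMap B B')) :=
    isNoetherianRing_of_surjective B' _ (Ideal.Quotient.mk _) Ideal.Quotient.mk_surjective
  rw [← Ideal.Quotient.isDomain_iff_prime]
  have hlh : IsLocalHom (Ideal.Quotient.mk ((Ideal.span {x, π}).map (algebraMap B B'))) :=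
    IsLocalHom.of_surjective _ Ideal.Quotient.mk_surjective
  have hym : algebraMap B B' y ∈ maximalIdeal B' := by
    rw [← hmax]; exact Ideal.mem_map_of_mem _ N.y_mem
  refine isDomain_of_max (t := Ideal.Quotient.mk _ (algebraMap B B' y)) ?_ ?_ ?_
  · rw [mem_maximalIdeal, mem_nonunits_iff]
    intro hu
    exact hym ((isUnit_map_iff _ _).1 hu)
  · intro b hb
    obtain ⟨b, rfl⟩ := Ideal.Quotient.mk_surjective b
    rw [← map_mul, Ideal.Quotient.eq_zero_iff_mem] at hb
    exact Ideal.Quotient.eq_zero_iff_mem.2 (K793.NodeDesc.mem_map_of_mul_mem (fun c hc =>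
      (hp.mem_or_mem hc).resolve_left N.y_notMem) hb)
  · intro b hb
    obtain ⟨b, rfl⟩ := Ideal.Quotient.mk_surjective b
    have hbm : b ∈ maximalIdeal B' := by
      rw [mem_maximalIdeal, mem_nonunits_iff] at hb ⊢
      exact fun h => hb (h.map _)
    rw [← hmax] at hbm
    have h1 := Ideal.map_mono (f := algebraMap B B') N.max_le1 hbm
    rw [Ideal.map_sup, Ideal.map_span, Set.image_singleton, Submodule.mem_sup] at h1
    obtain ⟨c, hc, d, hd, rfl⟩ := h1
    obtain ⟨c, rfl⟩ := Ideal.mem_span_singleton'.1 hc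
    rw [map_add, Ideal.Quotient.eq_zero_iff_mem.2 hd, add_zero, map_mul]
    exact Ideal.mul_mem_left _ _ (Ideal.mem_span_singleton_self _)

theorem map_span_pair (a b : B) : (Ideal.span {a, b}).map (algebraMap B B') =
    Ideal.span {algebraMap B B' a, algebraMap B B' b} := by
  rw [Ideal.map_span]
  congr 1
  simp [Set.image_insert_eq, Set.image_singleton]

theorem notMem_of_flat (N : NodeData π x y l) :
    algebraMap B B' y ∉ Ideal.span {algebraMap B B' x, algebraMap B B' π} := by
  intro h
  apply N.y_notMem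
  rw [← map_span_pair] at h
  rw [← Ideal.comap_map_eq_self_of_faithfullyFlat (B := B') (Ideal.span {x, π})]
  exact h

/-- **Flat base change of node rings.** -/
theorem of_flat (hmax : (maximalIdeal B).map (algebraMap B B') = maximalIdeal B')
    (N : NodeData π x y l) : NodeData (algebraMap B B' π) (algebraMap B B' x) (algebraMap B B' y) l where
  nzd := by
    have h1 : IsSMulRegular B π := by
      rw [isSMulRegular_iff_right_eq_zero_of_smul]
      intro z hz
      rw [smul_eq_mul, mul_comm] at hz
      exact (mem_nonZeroDivisors_iff_right.1 N.nzd) z hz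
    have h2 : IsSMulRegular B' (algebraMap B B' π) := h1.of_flat
    rw [isSMulRegular_iff_right_eq_zero_of_smul] at h2
    rw [mem_nonZeroDivisors_iff_right]
    intro z hz
    exact h2 z (by rw [smul_eq_mul, mul_comm]; exact hz)
  rel := by
    rw [← map_mul, N.rel]
    split_ifs
    · rw [map_zero]
    · rw [map_pow]
  prime1 := prime_of_flat hmax N
  prime2 := prime_of_flat hmax N.symm
  y_notMem := notMem_of_flat N
  x_notMem := notMem_of_flat N.symm
  max_le := by
    rw [← hmax]
    refine (Ideal.map_mono N.max_le).trans ?_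
    rw [Ideal.map_span]
    apply Ideal.span_mono
    rintro _ ⟨z, hz, rfl⟩
    rcases hz with rfl | rfl | rfl <;> simp
  x_mem := by rw [← hmax]; exact Ideal.mem_map_of_mem _ N.x_mem
  y_mem := by rw [← hmax]; exact Ideal.mem_map_of_mem _ N.y_mem
  pi_mem := by rw [← hmax]; exact Ideal.mem_map_of_mem _ N.pi_mem

end Flat

section Cmp

variable {B : Type u} [CommRing B] [IsLocalRing B] {π x y : B} {l : ℕ} (N : NodeData π x y l)

include N

/-- modulo `π` the maximal ideal of a node ring is not principal -/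
theorem not_principal {h : B} (hh : h ∈ maximalIdeal B) (hm : maximalIdeal B ≤ Ideal.span {π, h}) : False := by
  have hp1 := N.prime1
  have hp2 := N.prime2
  obtain ⟨β, α, hx⟩ := Ideal.mem_span_pair.1 (hm N.x_mem)
  obtain ⟨c, hc, d, hd, hcd⟩ := Submodule.mem_sup.1 (N.max_le2 hh)
  obtain ⟨γ, rfl⟩ := Ideal.mem_span_singleton'.1 hc
  have hπ1 : π ∈ Ideal.span {x, π} := Ideal.subset_span (by simp)
  have hπ2 : π ∈ Ideal.span {y, π} := Ideal.subset_span (by simp)
  have hx1 : x ∈ Ideal.span {x, π} := Ideal.subset_span (by simp)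
  have h1 : (1 - α * γ) * x ∈ Ideal.span {y, π} := by
    have : (1 - α * γ) * x = α * d + β * π := by linear_combination -hx - α * hcd
    rw [this]
    exact Ideal.add_mem _ (Ideal.mul_mem_left _ _ hd) (Ideal.mul_mem_left _ _ hπ2)
  have h2 := IsLocalRing.le_maximalIdeal hp2.ne_top ((hp2.mem_or_mem h1).resolve_right N.x_notMem)
  have hα : IsUnit α := by
    by_contra hα
    have h3 : α * γ ∈ maximalIdeal B := Ideal.mul_mem_right _ _ hα
    have h4 := Ideal.add_mem _ h2 h3
    rw [sub_add_cancel] at h4
    exact (maximalIdeal.isMaximal B).ne_top ((Ideal.eq_top_iff_one _).2 h4)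
  have h5 : α * h ∈ Ideal.span {x, π} := by
    have : α * h = x - β * π := by linear_combination hx
    rw [this]
    exact Ideal.sub_mem _ hx1 (Ideal.mul_mem_left _ _ hπ1)
  have h6 : h ∈ Ideal.span {x, π} := (hp1.mem_or_mem h5).resolve_left fun h7 =>
    hp1.ne_top (Ideal.eq_top_of_isUnit_mem _ h7 hα)
  apply N.y_notMem
  refine (hm.trans (Ideal.span_le.2 ?_)) N.y_mem
  rintro z (rfl | rfl)
  · exact hπ1
  · exact h6

/-- if the primes agree in order -/
theorem dvd_of_eq [IsNoetherianRing B] {u v : B} {n : ℕ} (N' : NodeData π u v n)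
    (e1 : Ideal.span {u, π} = Ideal.span {x, π}) (e2 : Ideal.span {v, π} = Ideal.span {y, π}) (hn : n ≠ 0) :
    l ∣ n := by
  have hp1 := N.prime1
  have hp2 := N.prime2
  let K := Localization.Away π
  have hrel : u * v = π ^ n := by rw [N'.rel, if_neg hn]
  have h := f4 (K := K) (L := K) (g₁ := (1 : K)) (g₂ := (1 : K)) N 0 (n : ℤ) (1 : K) (algebraMap B K u) 
    (fun κ => by
      obtain ⟨k, c, hc⟩ := exists_pow_mul (ϖ := π) κ
      exact ⟨k, c, by rw [Algebra.smul_def, Algebra.smul_def, hc, mul_one]⟩)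
    (fun κ => by
      obtain ⟨k, c, hc⟩ := exists_pow_mul (ϖ := π) κ
      refine ⟨n + k, c * v, ?_⟩
      rw [Algebra.smul_def, Algebra.smul_def, ← map_mul, pow_add, map_mul, mul_assoc, hc, ← map_mul, ← hrel]
      congr 1
      ring)
    (by rw [zpow_zero, one_smul]; exact Eqv.refl _ _)
    (Eqv.refl _ _)
    (by
      refine ⟨v, by rw [← e1]; exact N'.y_notMem, 1, one_notMem, ?_⟩
      rw [Algebra.smul_def, Algebra.smul_def, map_one, one_mul, ← map_mul, mul_comm v u, hrel, zpow_natCast,
        Units.smul_def, Units.val_pow_eq_pow_val, coe_pu, smul_eq_mul, mul_one, map_pow])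
    (by
      refine ⟨1, one_notMem, u, by rw [← e2]; exact N'.x_notMem, ?_⟩
      rw [Algebra.smul_def, Algebra.smul_def, map_one, one_mul, mul_one])
  rw [sub_zero] at h
  exact Int.natCast_dvd_natCast.1 h

/-- **Comparison of thicknesses.** -/
theorem dvd_of_nodeData [IsNoetherianRing B] {u v : B} {n : ℕ} (N' : NodeData π u v n) : l ∣ n := by
  by_cases hn : n = 0
  · rw [hn]; exact dvd_zero l
  have h0 := N.eq_of_prime N'.prime1 (Ideal.subset_span (by simp))
  have h1 := N.eq_of_prime N'.prime2 (Ideal.subset_span (by simp))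
  have m0 : Ideal.span {u, π} ≠ maximalIdeal B := fun h => N'.y_notMem (h ▸ N'.y_mem)
  have m1 : Ideal.span {v, π} ≠ maximalIdeal B := fun h => N'.x_notMem (h ▸ N'.x_mem)
  have hne : Ideal.span {u, π} ≠ Ideal.span {v, π} := fun h => N'.not_le h.le
  rcases h0 with h0 | h0 | h0
  · rcases h1 with h1 | h1 | h1
    · exact absurd (h0.trans h1.symm) hne
    · exact dvd_of_eq N N' h0 h1 hn
    · exact absurd h1 m1
  · rcases h1 with h1 | h1 | h1
    · exact dvd_of_eq N.symm N' h0 h1 hn
    · exact absurd (h0.trans h1.symm) hne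
    · exact absurd h1 m1
  · exact absurd h0 m0

end Cmp

end NodeData

end K794.NodeAlg
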