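import Groth.Agent.SemiFact.K794.NodeFlat
import Groth.Agent.Models.NodeNodalA
import Mathlib.RingTheory.Localization.AtPrime.Basic

/-!
# The local rings of `D[u, v]/(uv - a)` over a discrete valuation ring `D`
-/

set_option autoImplicit false
set_option linter.unusedSectionVars false

universe u

open IsLocalRing Polynomial

namespace K794.NodeW

open K794.NodeAlg Groth.Agent.Models.NodeRing

variable {D : Type u} [CommRing D] [IsDomain D] [IsDiscreteValuationRing D] {t : D} (ht : Irreducible t)
  {a : D}

/-- restriction to the `v`-axis modulo `t`. -/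
noncomputable def Th (hta : t ∣ a) : W D a →+* Polynomial (D ⧸ Ideal.span {t}) :=
  lift ((Polynomial.C).comp (Ideal.Quotient.mk _)) 0 Polynomial.X (by
    rw [zero_mul, RingHom.comp_apply, Ideal.Quotient.eq_zero_iff_mem.2 (Ideal.mem_span_singleton.2 hta), map_zero])

theorem Th_aeval (hta : t ∣ a) (p : Polynomial D) :
    Th hta (Polynomial.aeval (vv D a) p) = p.map (Ideal.Quotient.mk (Ideal.span {t})) := by
  induction p using Polynomial.induction_on' with
  | add p q hp hq => rw [map_add, map_add, hp, hq, Polynomial.map_add]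
  | monomial n d =>
    rw [Polynomial.aeval_monomial, map_mul, map_pow, Polynomial.map_monomial,
      ← Polynomial.C_mul_X_pow_eq_monomial]
    simp [Th]

theorem exists_aeval (w : W D a) : ∃ p : Polynomial D,
    w - Polynomial.aeval (vv D a) p ∈ Ideal.span {uu D a, algebraMap D (W D a) t} := by
  induction w using induction with
  | hC d => exact ⟨Polynomial.C d, by simp⟩
  | hadd x y hx hy =>
    obtain ⟨p, hp⟩ := hx
    obtain ⟨q, hq⟩ := hy
    refine ⟨p + q, ?_⟩
    rw [map_add, add_sub_add_comm]
    exact add_mem hp hq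
  | hu x hx =>
    refine ⟨0, ?_⟩
    rw [map_zero, sub_zero]
    exact Ideal.mul_mem_left _ _ (Ideal.subset_span (by simp))
  | hv x hx =>
    obtain ⟨p, hp⟩ := hx
    refine ⟨p * Polynomial.X, ?_⟩
    rw [map_mul, Polynomial.aeval_X, ← sub_mul]
    exact Ideal.mul_mem_right _ _ hp

theorem ker_Th (hta : t ∣ a) : RingHom.ker (Th hta) = Ideal.span {uu D a, algebraMap D (W D a) t} := by
  apply le_antisymm
  · intro w hw
    obtain ⟨p, hp⟩ := exists_aeval (t := t) w
    have hle : Ideal.span {uu D a, algebraMap D (W D a) t} ≤ RingHom.ker (Th hta) := by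
      rw [Ideal.span_le]
      rintro z (rfl | rfl)
      · simp [Th, RingHom.mem_ker]
      · simp [Th, RingHom.mem_ker]
    have h1 : Polynomial.aeval (vv D a) p ∈ RingHom.ker (Th hta) := by
      have := (RingHom.ker (Th hta)).sub_mem hw (hle hp)
      rwa [sub_sub_cancel] at this
    rw [RingHom.mem_ker, Th_aeval] at h1
    have h2 : Polynomial.C t ∣ p := by
      rw [Polynomial.C_dvd_iff_dvd_coeff]
      intro i
      have := congrArg (fun q => Polynomial.coeff q i) h1
      simp only [Polynomial.coeff_map, Polynomial.coeff_zero] at this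
      exact Ideal.mem_span_singleton.1 (Ideal.Quotient.eq_zero_iff_mem.1 this)
    obtain ⟨q, rfl⟩ := h2
    have h3 : Polynomial.aeval (vv D a) (Polynomial.C t * q) ∈ Ideal.span {uu D a, algebraMap D (W D a) t} := by
      rw [map_mul, Polynomial.aeval_C]
      exact Ideal.mul_mem_right _ _ (Ideal.subset_span (by simp))
    have := add_mem hp h3
    rwa [sub_add_cancel] at this
  · rw [Ideal.span_le]
    rintro z (rfl | rfl)
    · simp [Th, RingHom.mem_ker]
    · simp [Th, RingHom.mem_ker]

include ht in
theorem prime_uu (hta : t ∣ a) : (Ideal.span {uu D a, algebraMap D (W D a) t}).IsPrime := by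
  have hmaxD : IsLocalRing.maximalIdeal D = Ideal.span {t} :=
    (IsDiscreteValuationRing.irreducible_iff_uniformizer t).1 ht
  have : (Ideal.span {t}).IsPrime := by rw [← hmaxD]; infer_instance
  rw [← ker_Th hta]
  exact RingHom.ker_isPrime _

include ht in
theorem vv_notMem (hta : t ∣ a) : vv D a ∉ Ideal.span {uu D a, algebraMap D (W D a) t} := by
  have hmaxD : IsLocalRing.maximalIdeal D = Ideal.span {t} :=
    (IsDiscreteValuationRing.irreducible_iff_uniformizer t).1 ht
  have : (Ideal.span {t}).IsPrime := by rw [← hmaxD]; infer_instance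
  rw [← ker_Th hta, RingHom.mem_ker]
  have h : Th hta (vv D a) = Polynomial.X := by simp [Th]
  rw [h]
  exact Polynomial.X_ne_zero

theorem map_swap (b c : W D a) : (Ideal.span {b, c}).comap (swap D a) =
    Ideal.span {swap D a b, swap D a c} := by
  have hinv : ∀ z : W D a, swap D a (swap D a z) = z := by
    intro z
    have h : ((swap D a).toRingHom.comp (swap D a).toRingHom) = RingHom.id (W D a) := by
      apply hom_ext
      · intro d; simp
      · simp
      · simp
    exact congrArg (fun φ : W D a →+* W D a => φ z) h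
  ext z
  rw [Ideal.mem_comap, Ideal.mem_span_pair, Ideal.mem_span_pair]
  constructor
  · rintro ⟨p, q, h⟩
    refine ⟨swap D a p, swap D a q, ?_⟩
    rw [← map_mul, ← map_mul, ← map_add, h, hinv]
  · rintro ⟨p, q, h⟩
    refine ⟨swap D a p, swap D a q, ?_⟩
    rw [← h, map_add, map_mul, map_mul, hinv, hinv]

include ht in
theorem prime_vv (hta : t ∣ a) : (Ideal.span {vv D a, algebraMap D (W D a) t}).IsPrime := by
  have h := prime_uu ht hta
  have h2 : (Ideal.span {uu D a, algebraMap D (W D a) t}).comap (swap D a) =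
    Ideal.span {vv D a, algebraMap D (W D a) t} := by
    rw [map_swap]; simp
  rw [← h2]
  exact Ideal.comap_isPrime _ _

include ht in
theorem uu_notMem (hta : t ∣ a) : uu D a ∉ Ideal.span {vv D a, algebraMap D (W D a) t} := by
  have h2 : (Ideal.span {uu D a, algebraMap D (W D a) t}).comap (swap D a) =
    Ideal.span {vv D a, algebraMap D (W D a) t} := by
    rw [map_swap]; simp
  rw [← h2, Ideal.mem_comap, swap_uu]
  exact vv_notMem ht hta

section Loc

variable (P : Ideal (W D a)) [hP : P.IsPrime] (Wp : Type u) [CommRing Wp] [IsLocalRing Wp] [Algebra (W D a) Wp]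
  [IsLocalization.AtPrime Wp P]

theorem algebraMap_span_pair (b c : W D a) : (Ideal.span {b, c}).map (algebraMap (W D a) Wp) =
    Ideal.span {algebraMap (W D a) Wp b, algebraMap (W D a) Wp c} := by
  rw [Ideal.map_span]
  congr 1
  simp [Set.image_insert_eq, Set.image_singleton]

theorem prime_loc {b c : W D a} (hb : b ∈ P) (hc : c ∈ P) (h : (Ideal.span {b, c}).IsPrime) :
    (Ideal.span {algebraMap (W D a) Wp b, algebraMap (W D a) Wp c}).IsPrime := by
  rw [← algebraMap_span_pair]
  apply IsLocalization.isPrime_of_isPrime_disjoint P.primeCompl Wp _ h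
  rw [Set.disjoint_left]
  intro z hz hz'
  apply hz
  revert hz'
  change z ∈ Ideal.span {b, c} → z ∈ P
  intro hz'
  exact (Ideal.span_le.2 (by rintro w (rfl | rfl); exacts [hb, hc]) : Ideal.span {b, c} ≤ P) hz'

theorem notMem_loc {b c d : W D a} (hb : b ∈ P) (hc : c ∈ P) (h : (Ideal.span {b, c}).IsPrime)
    (hd : d ∉ Ideal.span {b, c}) :
    algebraMap (W D a) Wp d ∉ Ideal.span {algebraMap (W D a) Wp b, algebraMap (W D a) Wp c} := by
  rw [← algebraMap_span_pair]
  have hdis : Disjoint (P.primeCompl : Set (W D a)) (Ideal.span {b, c} : Ideal (W D a)) := by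
    rw [Set.disjoint_left]
    intro z hz hz'
    apply hz
    revert hz'
    change z ∈ Ideal.span {b, c} → z ∈ P
    intro hz'
    exact (Ideal.span_le.2 (by rintro w (rfl | rfl); exacts [hb, hc]) : Ideal.span {b, c} ≤ P) hz'
  intro hmem
  apply hd
  have := IsLocalization.under_map_of_isPrime_disjoint P.primeCompl Wp h hdis
  rw [← this]
  exact hmem

include ht in
/-- **The local ring at the origin is a node ring.** -/
theorem nodeData (n : ℕ) (ha : a = if n = 0 then 0 else t ^ n) (hu : uu D a ∈ P) (hv : vv D a ∈ P)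
    (htP : algebraMap D (W D a) t ∈ P) :
    NodeData (algebraMap (W D a) Wp (algebraMap D (W D a) t)) (algebraMap (W D a) Wp (uu D a))
      (algebraMap (W D a) Wp (vv D a)) n := by
  have hta : t ∣ a := by
    rw [ha]
    split_ifs with h
    · exact dvd_zero t
    · exact dvd_pow_self t h
  have hmax : maximalIdeal Wp = P.map (algebraMap (W D a) Wp) :=
    (IsLocalization.AtPrime.map_eq_maximalIdeal P Wp).symm
  refine
    { nzd := ?_
      rel := ?_
      prime1 := prime_loc P Wp hu htP (prime_uu ht hta)
      prime2 := prime_loc P Wp hv htP (prime_vv ht hta)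
      y_notMem := notMem_loc P Wp hu htP (prime_uu ht hta) (vv_notMem ht hta)
      x_notMem := notMem_loc P Wp hv htP (prime_vv ht hta) (uu_notMem ht hta)
      max_le := ?_
      x_mem := by rw [hmax]; exact Ideal.mem_map_of_mem _ hu
      y_mem := by rw [hmax]; exact Ideal.mem_map_of_mem _ hv
      pi_mem := by rw [hmax]; exact Ideal.mem_map_of_mem _ htP }
  · have h1 : IsSMulRegular D t := by
      rw [isSMulRegular_iff_right_eq_zero_of_smul]
      intro z hz
      rw [smul_eq_mul, mul_eq_zero] at hz
      exact hz.resolve_left ht.ne_zero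
    have h2 : IsSMulRegular (W D a) (algebraMap D (W D a) t) := h1.of_flat
    rw [isSMulRegular_iff_right_eq_zero_of_smul] at h2
    have h3 : algebraMap D (W D a) t ∈ nonZeroDivisors (W D a) := by
      rw [mem_nonZeroDivisors_iff_right]
      intro z hz
      exact h2 z (by rw [smul_eq_mul, mul_comm]; exact hz)
    exact IsLocalization.map_nonZeroDivisors_le P.primeCompl Wp (Submonoid.mem_map_of_mem _ h3)
  · rw [← map_mul, uu_mul_vv]
    have : ∀ b : D, b = (if n = 0 then 0 else t ^ n) →
        algebraMap D (W D a) b = if n = 0 then 0 else (algebraMap D (W D a) t) ^ n := by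
      rintro b rfl
      split_ifs
      · rw [map_zero]
      · rw [map_pow]
    rw [this a ha]
    split_ifs
    · rw [map_zero]
    · rw [map_pow]
  · rw [hmax]
    conv_lhs => rw [eq_span_of_mem D t ht P hu hv htP]
    rw [Ideal.map_span]
    apply Ideal.span_mono
    rintro _ ⟨z, hz, rfl⟩
    rcases hz with rfl | rfl | rfl <;> simp

include ht in
/-- At a prime over `t` not containing `u` the maximal ideal is generated by `t` and one more element. -/
theorem exists_max_le (hu : uu D a ∉ P) :
    ∃ h ∈ maximalIdeal Wp, maximalIdeal Wp ≤ Ideal.span {algebraMap (W D a) Wp (algebraMap D (W D a) t), h} := by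
  have hmaxD : IsLocalRing.maximalIdeal D = Ideal.span {t} :=
    (IsDiscreteValuationRing.irreducible_iff_uniformizer t).1 ht
  have hmax : maximalIdeal Wp = P.map (algebraMap (W D a) Wp) :=
    (IsLocalization.AtPrime.map_eq_maximalIdeal P Wp).symm
  have hmx : (Ideal.span {t}).IsMaximal := by rw [← hmaxD]; infer_instance
  let _ : Field (D ⧸ Ideal.span {t}) := Ideal.Quotient.field _
  let Q : Ideal (Polynomial D) := P.comap (Polynomial.aeval (uu D a))
  let m : Polynomial D →+* Polynomial (D ⧸ Ideal.span {t}) := Polynomial.mapRingHom (Ideal.Quotient.mk _)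
  have hm : Function.Surjective m := Polynomial.map_surjective _ Ideal.Quotient.mk_surjective
  obtain ⟨h', hh'⟩ := (IsPrincipalIdealRing.principal (Q.map m)).principal
  have hh'2 : h' ∈ Q.map m := by rw [hh']; exact Submodule.mem_span_singleton_self _
  obtain ⟨h, hhQ, rfl⟩ := (Ideal.mem_map_iff_of_surjective m hm).1 hh'2
  have key : ∀ p ∈ Q, Polynomial.aeval (uu D a) p ∈
      Ideal.span {algebraMap D (W D a) t, Polynomial.aeval (uu D a) h} := by
    intro p hp
    have h1 : m p ∈ Q.map m := Ideal.mem_map_of_mem m hp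
    rw [hh', Submodule.mem_span_singleton] at h1
    obtain ⟨c, hc⟩ := h1
    obtain ⟨c, rfl⟩ := hm c
    have h2 : m (p - c * h) = 0 := by rw [map_sub, map_mul, ← hc, smul_eq_mul, sub_self]
    have h3 : Polynomial.C t ∣ p - c * h := by
      rw [Polynomial.C_dvd_iff_dvd_coeff]
      intro i
      have := congrArg (fun q => Polynomial.coeff q i) h2
      simp only [m, Polynomial.coe_mapRingHom, Polynomial.coeff_map, Polynomial.coeff_zero] at this
      exact Ideal.mem_span_singleton.1 (Ideal.Quotient.eq_zero_iff_mem.1 this)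
    obtain ⟨q, hq⟩ := h3
    refine Ideal.mem_span_pair.2 ⟨Polynomial.aeval (uu D a) q, Polynomial.aeval (uu D a) c, ?_⟩
    have h4 := congrArg (Polynomial.aeval (uu D a)) hq
    rw [map_sub, map_mul, map_mul, Polynomial.aeval_C] at h4
    linear_combination -h4
  refine ⟨algebraMap (W D a) Wp (Polynomial.aeval (uu D a) h), by rw [hmax]; exact Ideal.mem_map_of_mem _ hhQ, ?_⟩
  rw [hmax, Ideal.map_le_iff_le_comap]
  intro w hw
  rw [Ideal.mem_comap]
  obtain ⟨n, p, hp⟩ := exists_mul_pow_eq D a w
  have h1 : p ∈ Q := by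
    change Polynomial.aeval (uu D a) p ∈ P
    rw [← hp]
    exact Ideal.mul_mem_right _ _ hw
  have h2 := key p h1
  rw [← hp] at h2
  have h3 := Ideal.mem_map_of_mem (algebraMap (W D a) Wp) h2
  rw [algebraMap_span_pair, map_mul, map_pow] at h3
  have h4 : IsUnit (algebraMap (W D a) Wp (uu D a)) := IsLocalization.map_units Wp (⟨uu D a, hu⟩ : P.primeCompl)
  exact (Ideal.mul_unit_mem_iff_mem _ (h4.pow n)).1 h3

include ht in
/-- At a prime over `t` not containing `v` the maximal ideal is generated by `t` and one more element. -/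
theorem exists_max_le' (hv : vv D a ∉ P) :
    ∃ h ∈ maximalIdeal Wp, maximalIdeal Wp ≤ Ideal.span {algebraMap (W D a) Wp (algebraMap D (W D a) t), h} := by
  have h2 : uu D a ∉ P.comap (swap D a) := by
    rw [Ideal.mem_comap, swap_uu]
    exact hv
  let alg0 : Algebra (W D a) Wp := inferInstance
  have hloc0 : @IsLocalization (W D a) _ P.primeCompl Wp _ alg0 := inferInstanceAs (IsLocalization.AtPrime Wp P)
  let alg : Algebra (W D a) Wp := (alg0.algebraMap.comp (swap D a).toRingHom).toAlgebra
  have hloc : @IsLocalization.AtPrime (W D a) _ Wp _ alg (P.comap (swap D a)) _ := by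
    exact @IsLocalization.of_ringEquiv_left (W D a) _ (W D a) _ Wp _ alg (swap D a) alg0 P.primeCompl
      (P.comap (swap D a)).primeCompl ((swap D a).map_primeCompl_comap_eq P) (fun _ => rfl) hloc0
  have key := @exists_max_le D _ _ _ t ht a (P.comap (swap D a)) _ Wp _ _ alg hloc h2
  obtain ⟨h, hh, hle⟩ := key
  refine ⟨h, hh, ?_⟩
  have e : @algebraMap (W D a) Wp _ _ alg (algebraMap D (W D a) t) =
      @algebraMap (W D a) Wp _ _ alg0 (algebraMap D (W D a) t) := by
    change alg0.algebraMap (swap D a (algebraMap D (W D a) t)) = _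
    rw [swap_algebraMap]
  rw [e] at hle
  exact hle

end Loc

end K794.NodeW
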