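import Groth.Agent.SemiFact.K794.Sit
import Groth.Agent.Picfga.LineInv
import Groth.Agent.Sga4B.PicAffine

/-!
# Sections of an invertible module on `Z = D(t)` near a point of `X`
-/

set_option autoImplicit false
set_option linter.unusedSectionVars false
set_option linter.dupNamespace false
universe u
open CategoryTheory CategoryTheory.Limits AlgebraicGeometry IsLocalRing TopologicalSpace Opposite
open Groth.Agent.Fdesc.LocGen

namespace K794.Glob

section Basic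

variable {X Z : Scheme.{u}} (i : Z ⟶ X) {L : Z.Modules}

/-- `s` and `s'` differ by a unit of `O_{X,z}` near `z`. -/
def EqvAt (z : X) {U U' : X.Opens} (s : Γ(L, i ⁻¹ᵁ U)) (s' : Γ(L, i ⁻¹ᵁ U')) : Prop :=
  ∃ (T : X.Opens) (h : T ≤ U) (h' : T ≤ U'), z ∈ T ∧ ∃ g : Γ(X, T), IsUnit g ∧
    res L (i.preimage_mono h') s' = (i.app T g : Γ(Z, i ⁻¹ᵁ T)) • res L (i.preimage_mono h) s

/-- `s` generates `L` on `i⁻¹ T` for a neighbourhood `T` of `z`. -/
def GenAt (z : X) {U : X.Opens} (s : Γ(L, i ⁻¹ᵁ U)) : Prop :=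
  ∃ (T : X.Opens) (h : T ≤ U), z ∈ T ∧ IsGen (res L (i.preimage_mono h) s)

variable {i} {z : X} {U U' U'' : X.Opens} {s : Γ(L, i ⁻¹ᵁ U)} {s' : Γ(L, i ⁻¹ᵁ U')} {s'' : Γ(L, i ⁻¹ᵁ U'')}

theorem app_ores' {U V : X.Opens} (h : V ≤ U) (a : Γ(X, U)) :
    i.app V (ores h a) = ores (i.preimage_mono h) (i.app U a) :=
  ConcreteCategory.congr_hom (i.naturality (homOfLE h).op) a

theorem EqvAt.mono {T T' : X.Opens} (h : T ≤ U) (h' : T ≤ U') {g : Γ(X, T)}
    (hg : res L (i.preimage_mono h') s' = (i.app T g : Γ(Z, i ⁻¹ᵁ T)) • res L (i.preimage_mono h) s)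
    (hT : T' ≤ T) : res L (i.preimage_mono (hT.trans h')) s' =
      (i.app T' (ores hT g) : Γ(Z, i ⁻¹ᵁ T')) • res L (i.preimage_mono (hT.trans h)) s := by
  have := congrArg (res L (i.preimage_mono hT)) hg
  rw [res_smul, res_res, res_res, ← app_ores'] at this
  exact this

theorem EqvAt.mem_left (h : EqvAt i z s s') : z ∈ U := by
  obtain ⟨T, h, h', hz, -⟩ := h
  exact h hz

theorem EqvAt.mem_right (h : EqvAt i z s s') : z ∈ U' := by
  obtain ⟨T, h, h', hz, -⟩ := h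
  exact h' hz

theorem EqvAt.refl (hz : z ∈ U) (s : Γ(L, i ⁻¹ᵁ U)) : EqvAt i z s s :=
  ⟨U, le_rfl, le_rfl, hz, 1, isUnit_one, by rw [map_one, one_smul]⟩

theorem EqvAt.res_right {V : X.Opens} (hV : V ≤ U) (hz : z ∈ V) (s : Γ(L, i ⁻¹ᵁ U)) :
    EqvAt i z s (res L (i.preimage_mono hV) s) :=
  ⟨V, hV, le_rfl, hz, 1, isUnit_one, by rw [map_one, one_smul, res_res]⟩

theorem EqvAt.symm (h : EqvAt i z s s') : EqvAt i z s' s := by
  obtain ⟨T, h, h', hz, g, ⟨g, rfl⟩, hg⟩ := h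
  refine ⟨T, h', h, hz, ↑g⁻¹, Units.isUnit _, ?_⟩
  rw [hg, smul_smul, ← map_mul, Units.inv_mul, map_one, one_smul]

theorem EqvAt.trans (h₁ : EqvAt i z s s') (h₂ : EqvAt i z s' s'') : EqvAt i z s s'' := by
  obtain ⟨T, h, h', hz, g, hg, hg'⟩ := h₁
  obtain ⟨S, k, k', hz', g', hu, hu'⟩ := h₂
  refine ⟨T ⊓ S, inf_le_left.trans h, inf_le_right.trans k', ⟨hz, hz'⟩,
    ores inf_le_right g' * ores inf_le_left g, (hu.map _).mul (hg.map _), ?_⟩
  have e1 := EqvAt.mono h h' hg' (inf_le_left : T ⊓ S ≤ T)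
  have e2 := EqvAt.mono k k' hu' (inf_le_right : T ⊓ S ≤ S)
  rw [e2, map_mul, mul_smul]
  congr 1

theorem GenAt.of_isGen (hz : z ∈ U) (h : IsGen s) : GenAt i z s :=
  ⟨U, le_rfl, hz, h.res _⟩

theorem GenAt.mem (h : GenAt i z s) : z ∈ U := by
  obtain ⟨T, h, hz, -⟩ := h
  exact h hz

theorem GenAt.of_eqvAt (h : GenAt i z s) (h' : EqvAt i z s s') : GenAt i z s' := by
  obtain ⟨S, k, hz', hg⟩ := h
  obtain ⟨T, h, h', hz, g, hu, hg'⟩ := h'
  refine ⟨T ⊓ S, inf_le_left.trans h', ⟨hz, hz'⟩, ?_⟩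
  have e1 := EqvAt.mono h h' hg' (inf_le_left : T ⊓ S ≤ T)
  have e2 := hg.res (i.preimage_mono (inf_le_right : T ⊓ S ≤ S))
  rw [res_res] at e2
  rw [e1]
  exact e2.unit_smul ((hu.map _).map (i.app _).hom)

/-- multiplication by units of `X` near `z` -/
theorem EqvAt.smul_right (h : EqvAt i z s s') {a : Γ(X, U')} (ha : z ∈ X.basicOpen a) :
    EqvAt i z s ((i.app U' a : Γ(Z, i ⁻¹ᵁ U')) • s') := by
  refine h.trans ⟨X.basicOpen a, X.basicOpen_le a, X.basicOpen_le a, ha, ores (X.basicOpen_le a) a,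
    RingedSpace.isUnit_res_basicOpen _ a, ?_⟩
  rw [res_smul, ← app_ores']

end Basic

namespace Sit

variable {X Z : Scheme.{u}} {i : Z ⟶ X} {t : Γ(X, ⊤)} {ι : Type*} {ξ : ι → X} (H : Sit i t ξ)
  {L : Z.Modules}

section Tau

include H

theorem isUnit_app_tr (U : X.Opens) : IsUnit (i.app U (tr t U)) := by
  have h1 : IsUnit (ores (X.basicOpen_le (tr t U)) (tr t U)) := RingedSpace.isUnit_res_basicOpen _ _
  obtain ⟨e, he⟩ := H.exists_equiv U
  rw [← he]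
  exact h1.map e

/-- `t` as a unit on `i⁻¹ U` -/
noncomputable def tau (U : X.Opens) : (Γ(Z, i ⁻¹ᵁ U))ˣ := (H.isUnit_app_tr U).unit

theorem coe_tau (U : X.Opens) : ((H.tau U : (Γ(Z, i ⁻¹ᵁ U))ˣ) : Γ(Z, i ⁻¹ᵁ U)) = i.app U (tr t U) :=
  IsUnit.unit_spec _

theorem map_tau {U V : X.Opens} (h : V ≤ U) :
    Units.map (ores (i.preimage_mono h) : Γ(Z, i ⁻¹ᵁ U) →* Γ(Z, i ⁻¹ᵁ V)) (H.tau U) = H.tau V := by
  ext
  rw [Units.coe_map, coe_tau, coe_tau]
  change ores (i.preimage_mono h) _ = _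
  rw [← app_ores h, ores_tr]

theorem ores_tau {U V : X.Opens} (h : V ≤ U) (n : ℤ) :
    ores (i.preimage_mono h) (((H.tau U) ^ n : (Γ(Z, i ⁻¹ᵁ U))ˣ) : Γ(Z, i ⁻¹ᵁ U)) =
      (((H.tau V) ^ n : (Γ(Z, i ⁻¹ᵁ V))ˣ) : Γ(Z, i ⁻¹ᵁ V)) := by
  rw [← H.map_tau h, ← map_zpow]
  rfl

theorem res_tau {U V : X.Opens} (h : V ≤ U) (n : ℤ) (s : Γ(L, i ⁻¹ᵁ U)) :
    res L (i.preimage_mono h) ((H.tau U) ^ n • s) = (H.tau V) ^ n • res L (i.preimage_mono h) s := by
  rw [Units.smul_def, res_smul, H.ores_tau h, ← Units.smul_def]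

theorem eqvAt_tau {z : X} {U U' : X.Opens} {s : Γ(L, i ⁻¹ᵁ U)} {s' : Γ(L, i ⁻¹ᵁ U')} (h : EqvAt i z s s')
    (n : ℤ) : EqvAt i z ((H.tau U) ^ n • s) ((H.tau U') ^ n • s') := by
  obtain ⟨T, h, h', hz, g, hu, hg⟩ := h
  refine ⟨T, h, h', hz, g, hu, ?_⟩
  rw [H.res_tau h', H.res_tau h, hg, smul_comm]

theorem isGen_tau {U : X.Opens} {s : Γ(L, i ⁻¹ᵁ U)} (hs : IsGen s) (n : ℤ) : IsGen ((H.tau U) ^ n • s) := by
  rw [Units.smul_def]
  exact hs.unit_smul (Units.isUnit _)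

theorem genAt_tau {z : X} {U : X.Opens} {s : Γ(L, i ⁻¹ᵁ U)} (hs : GenAt i z s) (n : ℤ) :
    GenAt i z ((H.tau U) ^ n • s) := by
  obtain ⟨T, h, hz, hg⟩ := hs
  refine ⟨T, h, hz, ?_⟩
  rw [H.res_tau h]
  exact H.isGen_tau hg n

end Tau

end Sit

section Affine

variable {X Z : Scheme.{u}}

/-- `Γ(Z, i⁻¹ V)` as an algebra over `Γ(X, V)` -/
@[reducible] noncomputable def algV (i : Z ⟶ X) (V : X.Opens) : Algebra Γ(X, V) Γ(Z, i ⁻¹ᵁ V) :=
  (i.app V).hom.toAlgebra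

/-- `Γ(L, i⁻¹ V)` as a module over `Γ(X, V)` -/
@[reducible] noncomputable def modV (i : Z ⟶ X) (L : Z.Modules) (V : X.Opens) :
    Module Γ(X, V) Γ(L, i ⁻¹ᵁ V) :=
  Module.compHom _ (i.app V).hom

attribute [local instance] algV modV

theorem algV_apply (i : Z ⟶ X) (V : X.Opens) (a : Γ(X, V)) :
    algebraMap Γ(X, V) Γ(Z, i ⁻¹ᵁ V) a = i.app V a := rfl

theorem modV_smul (i : Z ⟶ X) (L : Z.Modules) (V : X.Opens) (a : Γ(X, V)) (s : Γ(L, i ⁻¹ᵁ V)) :
    a • s = (i.app V a : Γ(Z, i ⁻¹ᵁ V)) • s := rfl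

instance towerV (i : Z ⟶ X) (L : Z.Modules) (V : X.Opens) :
    IsScalarTower Γ(X, V) Γ(Z, i ⁻¹ᵁ V) Γ(L, i ⁻¹ᵁ V) where
  smul_assoc a k s := by
    rw [modV_smul, Algebra.smul_def, algV_apply, mul_smul]

namespace Sit

variable {i : Z ⟶ X} {t : Γ(X, ⊤)} {ι : Type*} {ξ : ι → X} (H : Sit i t ξ)
  {L : Z.Modules} (hL : PicF.IsInvertible L)

include H

theorem away {V : X.Opens} (hV : IsAffineOpen V) : IsLocalization.Away (tr t V) Γ(Z, i ⁻¹ᵁ V) :=
  H.isLocalization_away hV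

theorem tau_eq_pu {V : X.Opens} (hV : IsAffineOpen V) :
    letI := H.away hV
    H.tau V = K794.Lat.pu (tr t V) Γ(Z, i ⁻¹ᵁ V) := by
  let _ := H.away hV
  ext
  rw [coe_tau, K794.Lat.coe_pu, algV_apply]

include hL

theorem loc {V : X.Opens} (hV : IsAffineOpen V) : Groth.Agent.CohqB.QC2.Loc L (i ⁻¹ᵁ V) := by
  have := Groth.Agent.Sga4B.PicAffine.isQuasicoherent_of_isInvertible L hL
  exact Groth.Agent.CohqB.QC2.loc_of_isQuasicoherent L (H.isAffineOpen_preimage hV)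

theorem inv {V : X.Opens} (hV : IsAffineOpen V) : Module.Invertible Γ(Z, i ⁻¹ᵁ V) Γ(L, i ⁻¹ᵁ V) :=
  Groth.Agent.Picfga.LineInv.invertible_sections hL (H.isAffineOpen_preimage hV)

/-- sections of `L` vanishing over a basic open -/
theorem exists_smul_eq_zero {V : X.Opens} (hV : IsAffineOpen V) (h : Γ(X, V)) (s : Γ(L, i ⁻¹ᵁ V))
    (h0 : res L (i.preimage_mono (X.basicOpen_le h)) s = 0) : ∃ n : ℕ, h ^ n • s = 0 := by
  have e : Z.basicOpen (i.app V h) = i ⁻¹ᵁ (X.basicOpen h) := (Scheme.preimage_basicOpen i h).symm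
  obtain ⟨n, hn⟩ := (H.loc hL hV).eq_zero (i.app V h) s (by
    have := congrArg (res L e.le) h0
    rw [res_res, map_zero] at this
    exact this)
  refine ⟨n, ?_⟩
  rw [modV_smul, map_pow]
  exact hn

/-- sections of `L` over a basic open extend after multiplication by a power. -/
theorem exists_extend {V : X.Opens} (hV : IsAffineOpen V) (h : Γ(X, V)) (s : Γ(L, i ⁻¹ᵁ (X.basicOpen h))) :
    ∃ (n : ℕ) (u : Γ(L, i ⁻¹ᵁ V)), res L (i.preimage_mono (X.basicOpen_le h)) u =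
      (i.app _ (ores (X.basicOpen_le h) (h ^ n)) : Γ(Z, i ⁻¹ᵁ (X.basicOpen h))) • s := by
  have e : Z.basicOpen (i.app V h) = i ⁻¹ᵁ (X.basicOpen h) := (Scheme.preimage_basicOpen i h).symm
  obtain ⟨n, u, hu⟩ := (H.loc hL hV).exists_lift (i.app V h) (res L e.le s)
  refine ⟨n, u, ?_⟩
  have h1 := congrArg (res L e.ge) hu
  have h2 : res L e.ge (Groth.Agent.CohqB.QC2.res L (Z.basicOpen_le (i.app V h)) u) =
      res L (i.preimage_mono (X.basicOpen_le h)) u := res_res L _ _ u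
  rw [h2] at h1
  rw [h1, res_smul, res_res, res_refl, app_ores (X.basicOpen_le h), map_pow, map_pow, map_pow]
  congr 1
  congr 1
  exact ores_ores _ _ _

/-- `EqvAt` on affine opens. -/
theorem eqvAt_iff {V : X.Opens} (hV : IsAffineOpen V) {z : X} (hz : z ∈ V) (s s' : Γ(L, i ⁻¹ᵁ V)) :
    EqvAt i z s s' ↔ K794.Lat.Eqv (qi V z hz) s s' := by
  constructor
  · rintro ⟨T, h, h', hzT, g, hu, hg⟩
    obtain ⟨f, hf, hzf⟩ := hV.exists_basicOpen_le ⟨z, hzT⟩ hz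
    have hlh := hV.isLocalization_basicOpen f
    obtain ⟨n, a, ha⟩ := K794.Lat.exists_pow_mul (ϖ := f) (ores hf g : Γ(X, X.basicOpen f))
    have ha' : ores (X.basicOpen_le f) (f ^ n) * ores hf g = ores (X.basicOpen_le f) a := ha
    have hzf' : z ∈ X.basicOpen f := hzf
    have hazn : a ∉ qi V z hz := by
      rw [← mem_qi_ores (X.basicOpen_le f) hzf', ← ha']
      have h1 : ores (X.basicOpen_le f) (f ^ n) ∉ qi (X.basicOpen f) z hzf' := by
        rw [mem_qi_ores]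
        exact K794.Lat.pow_notMem (notMem_qi.2 hzf') n
      have h2 : ores hf g ∉ qi (X.basicOpen f) z hzf' := fun h3 =>
        (qi_isPrime _ _ hzf').ne_top (Ideal.eq_top_of_isUnit_mem _ h3 (hu.map _))
      exact K794.Lat.mul_notMem h1 h2
    have h1 : res L (i.preimage_mono (X.basicOpen_le f)) (f ^ n • s' - a • s) = 0 := by
      have e1 := EqvAt.mono h h' hg hf
      rw [map_sub, modV_smul, modV_smul, res_smul, res_smul, ← app_ores (X.basicOpen_le f),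
        ← app_ores (X.basicOpen_le f), e1, smul_smul, ← map_mul, ha', sub_self]
    obtain ⟨m, hm⟩ := H.exists_smul_eq_zero hL hV f _ h1
    refine ⟨f ^ (m + n), K794.Lat.pow_notMem (notMem_qi.2 hzf') _, f ^ m * a,
      K794.Lat.mul_notMem (K794.Lat.pow_notMem (notMem_qi.2 hzf') _) hazn, ?_⟩
    rw [smul_sub, sub_eq_zero, smul_smul, smul_smul, ← pow_add] at hm
    exact hm
  · rintro ⟨a, ha, b, hb, hab⟩
    have hza : z ∈ X.basicOpen a := notMem_qi.1 ha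
    have hzb : z ∈ X.basicOpen b := notMem_qi.1 hb
    have h1 : EqvAt i z s (b • s) := (EqvAt.refl hz s).smul_right hzb
    have h2 : EqvAt i z s' (a • s') := (EqvAt.refl hz s').smul_right hza
    rw [← hab] at h1
    exact h1.trans h2.symm

/-- extension of a section to an affine open, up to units near `z` -/
theorem exists_eqvAt {V : X.Opens} (hV : IsAffineOpen V) {z : X} (hz : z ∈ V) {U : X.Opens} (hzU : z ∈ U)
    (s : Γ(L, i ⁻¹ᵁ U)) : ∃ n : Γ(L, i ⁻¹ᵁ V), EqvAt i z s n := by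
  obtain ⟨f, hf, hzf⟩ := hV.exists_basicOpen_le ⟨z, hzU⟩ hz
  have hzf' : z ∈ X.basicOpen f := hzf
  obtain ⟨n, u, hu⟩ := H.exists_extend hL hV f (res L (i.preimage_mono hf) s)
  refine ⟨u, X.basicOpen f, hf, X.basicOpen_le f, hzf', ores (X.basicOpen_le f) (f ^ n), ?_, hu⟩
  rw [map_pow]
  exact (RingedSpace.isUnit_res_basicOpen _ f).pow n

/-- `GenAt` on affine opens. -/
theorem gen_of_genAt {V : X.Opens} (hV : IsAffineOpen V) {z : X} (hz : z ∈ V) (s : Γ(L, i ⁻¹ᵁ V))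
    (hs : GenAt i z s) : K794.Lat.Gen (tr t V) (qi V z hz) s := by
  obtain ⟨T, h, hzT, hg⟩ := hs
  obtain ⟨f, hf, hzf⟩ := hV.exists_basicOpen_le ⟨z, hzT⟩ hz
  have hzf' : z ∈ X.basicOpen f := hzf
  have hgf := hg.res (i.preimage_mono hf)
  rw [res_res] at hgf
  have hVf := hV.basicOpen f
  have hlf := hV.isLocalization_basicOpen f
  have haw := H.away hVf
  refine ⟨fun u => ?_, fun c hc => ?_⟩
  · obtain ⟨κ, hκ⟩ := hgf.exists_eq (res L (i.preimage_mono (X.basicOpen_le f)) u)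
    obtain ⟨k, a, ha⟩ := K794.Lat.exists_pow_mul (ϖ := tr t (X.basicOpen f)) κ
    obtain ⟨m, b, hb⟩ := K794.Lat.exists_pow_mul (ϖ := f) (a : Γ(X, X.basicOpen f))
    have hb' : ores (X.basicOpen_le f) (f ^ m) * a = ores (X.basicOpen_le f) b := hb
    have ha' : i.app (X.basicOpen f) (tr t (X.basicOpen f) ^ k) * κ = i.app (X.basicOpen f) a := ha
    have h1 : res L (i.preimage_mono (X.basicOpen_le f)) (f ^ m • (tr t V) ^ k • u - b • s) = 0 := by
      rw [map_sub, modV_smul, modV_smul, modV_smul, res_smul, res_smul, res_smul, ← app_ores (X.basicOpen_le f),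
        ← app_ores (X.basicOpen_le f), ← app_ores (X.basicOpen_le f), hκ, ← hb', map_mul, ← ha',
        map_pow (ores (X.basicOpen_le f)) (tr t V), ores_tr, smul_smul, smul_smul, mul_assoc, sub_self]
    obtain ⟨n, hn⟩ := H.exists_smul_eq_zero hL hV f _ h1
    refine ⟨k, f ^ (n + m), K794.Lat.pow_notMem (notMem_qi.2 hzf') _, f ^ n * b, ?_⟩
    rw [smul_sub, sub_eq_zero] at hn
    rw [pow_add, mul_smul (f ^ n) (f ^ m), mul_smul (f ^ n) b]
    exact hn
  · have h1 : i.app (X.basicOpen f) (ores (X.basicOpen_le f) c) = i.app (X.basicOpen f) 0 := by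
      apply hgf.ext
      rw [map_zero, zero_smul, app_ores (X.basicOpen_le f), ← res_smul]
      have : (i.app V c : Γ(Z, i ⁻¹ᵁ V)) • s = 0 := hc
      rw [this, map_zero]
    have h2 := H.app_injective _ h1
    obtain ⟨n, hn⟩ := exists_pow_mul_eq_zero_of_res_basicOpen_eq_zero_of_isCompact X hV.isCompact c f h2
    exact ⟨f ^ n, K794.Lat.pow_notMem (notMem_qi.2 hzf') _, hn⟩

/-- A section generating `Γ(L, i⁻¹ V)` up to denominators prime to `z` generates `L` near `z`. -/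
theorem exists_isGen {V : X.Opens} (hV : IsAffineOpen V) {z : X} (hz : z ∈ V) (s : Γ(L, i ⁻¹ᵁ V))
    (hs : ∀ u : Γ(L, i ⁻¹ᵁ V), ∃ h, h ∉ qi V z hz ∧ ∃ (k : ℕ) (c : Γ(X, V)), (h * (tr t V) ^ k) • u = c • s) :
    ∃ h, h ∉ qi V z hz ∧ IsGen (res L (i.preimage_mono (X.basicOpen_le h)) s) := by
  classical
  have hinv := H.inv hL hV
  have haw := H.away hV
  have hqp := qi_isPrime V z hz
  obtain ⟨S, hS⟩ := (Module.Finite.fg_top : (⊤ : Submodule Γ(Z, i ⁻¹ᵁ V) Γ(L, i ⁻¹ᵁ V)).FG)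
  choose h hh k c hc using hs
  set F := ∏ u ∈ S, h u with hF
  have hFz : F ∉ qi V z hz := K794.Lat.prod_notMem S h fun u _ => hh u
  -- every section is a multiple of `s` after multiplication by `F` and a power of `t`
  have key : ∀ u : Γ(L, i ⁻¹ᵁ V), ∃ (k : ℕ) (c : Γ(X, V)), (F * (tr t V) ^ k) • u = c • s := by
    intro u
    have hu : u ∈ Submodule.span Γ(Z, i ⁻¹ᵁ V) (S : Set Γ(L, i ⁻¹ᵁ V)) := by rw [hS]; trivial
    induction hu using Submodule.span_induction with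
    | mem u hu =>
      refine ⟨k u, (∏ w ∈ S.erase u, h w) * c u, ?_⟩
      have e : F = (∏ w ∈ S.erase u, h w) * h u := by
        rw [mul_comm]
        exact (Finset.mul_prod_erase S h (Finset.mem_coe.1 hu)).symm
      rw [e, mul_assoc, mul_smul, hc, mul_smul]
    | zero => exact ⟨0, 0, by rw [smul_zero, zero_smul]⟩
    | add u w _ _ hu hw =>
      obtain ⟨k, c, hc⟩ := hu
      obtain ⟨k', c', hc'⟩ := hw
      refine ⟨k + k', (tr t V) ^ k' * c + (tr t V) ^ k * c', ?_⟩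
      rw [smul_add, add_smul, mul_smul ((tr t V) ^ k') c s, mul_smul ((tr t V) ^ k) c' s, ← hc, ← hc', smul_smul,
        smul_smul]
      congr 2 <;> ring
    | smul κ u _ hu =>
      obtain ⟨k, c, hc⟩ := hu
      obtain ⟨m, a, ha⟩ := K794.Lat.exists_pow_mul (ϖ := tr t V) κ
      refine ⟨m + k, a * c, ?_⟩
      have e1 : (F * (tr t V) ^ (m + k)) • κ • u = (F * (tr t V) ^ k) • (algebraMap Γ(X, V) Γ(Z, i ⁻¹ᵁ V) ((tr t V) ^ m) * κ) • u := by
        rw [mul_smul (algebraMap Γ(X, V) Γ(Z, i ⁻¹ᵁ V) ((tr t V) ^ m)), algebraMap_smul, smul_smul]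
        congr 1
        ring
      rw [e1, ha, algebraMap_smul, smul_comm, hc, mul_smul]
  refine ⟨F, hFz, ?_⟩
  rw [isGen_iff_forall_exists]
  intro y hy
  obtain ⟨U, e, hyU, he⟩ := (isInvertible_iff L).1 hL y
  have hVi := H.isAffineOpen_preimage hV
  have hyV : y ∈ i ⁻¹ᵁ V := i.preimage_mono (X.basicOpen_le F) hy
  obtain ⟨g, hg, hyg⟩ := hVi.exists_basicOpen_le (V := U ⊓ i ⁻¹ᵁ (X.basicOpen F)) ⟨y, hyU, hy⟩ hyV
  have hyg' : y ∈ Z.basicOpen g := hyg
  have heg := he.res (hg.trans inf_le_left)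
  refine ⟨Z.basicOpen g, hg.trans inf_le_right, hyg', ?_⟩
  rw [res_res]
  obtain ⟨a, ha⟩ := heg.exists_eq (res L ((hg.trans inf_le_right).trans (i.preimage_mono (X.basicOpen_le F))) s)
  rw [ha]
  apply heg.unit_smul
  obtain ⟨n, u, hu⟩ := (H.loc hL hV).exists_lift g (res L (hg.trans inf_le_left) e)
  obtain ⟨k, c, hc⟩ := key u
  -- restrict to the basic open
  have h1 := congrArg (res L (Z.basicOpen_le g)) hc
  rw [modV_smul, modV_smul, res_smul, res_smul] at h1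
  have h2 : res L (Z.basicOpen_le g) u = (ores (Z.basicOpen_le g) g) ^ n • res L (hg.trans inf_le_left) e := hu
  have h3 : res L (Z.basicOpen_le g) s = a • res L (hg.trans inf_le_left) e := ha
  rw [h2, h3, smul_smul, smul_smul] at h1
  have h4 := heg.ext h1
  have h5 : IsUnit (ores (Z.basicOpen_le g) (i.app V (F * (tr t V) ^ k)) * (ores (Z.basicOpen_le g) g) ^ n) := by
    have e1 : IsUnit (ores (Z.basicOpen_le g) g) := RingedSpace.isUnit_res_basicOpen _ g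
    have e2 : IsUnit (i.app V (tr t V)) := H.isUnit_app_tr V
    have e3 : IsUnit (ores (Z.basicOpen_le g) (i.app V F)) := by
      have e4 : IsUnit (ores (X.basicOpen_le F) F) := RingedSpace.isUnit_res_basicOpen _ F
      have e5 := (e4.map (i.app _).hom).map (ores (X := Z) (hg.trans inf_le_right))
      change IsUnit (ores _ (i.app _ _)) at e5
      rw [app_ores (X.basicOpen_le F), ores_ores] at e5
      exact e5
    rw [map_mul, map_mul, map_pow, map_pow]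
    exact (e3.mul ((e2.map _).pow k)).mul (e1.pow n)
  rw [h4] at h5
  exact isUnit_of_mul_isUnit_right h5

end Sit

end Affine

end K794.Glob
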