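import Groth.Agent.SemiFact.K794.NodeFlat
import Groth.Agent.SemiFact.K794.Base

/-!
# Sections through a thick node: the local equation and its orders along the two branches
-/

set_option autoImplicit false
set_option linter.unusedSectionVars false

universe u

open IsLocalRing

namespace K794.SecAlg

open K794.Lat K794.NodeAlg

section Ker

variable {B : Type u} [CommRing B] [IsLocalRing B] [IsNoetherianRing B] {π u v : B} {n : ℕ}
  (N : NodeData π u v n) (hn : n ≠ 1)
  {R : Type*} [CommRing R] [IsDomain R] (ρ : B →+* R) (hu : ρ u = ρ π)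
  (hv : ρ v = ρ (if n = 0 then 0 else π ^ (n - 1))) (hπ : ρ π ≠ 0)

variable (π n) in
/-- the second coordinate of the section -/
def co : B := if n = 0 then 0 else π ^ (n - 1)

include N in
theorem mul_co : u * v = π * co π n := by
  rw [N.rel, co]
  split_ifs with h
  · rw [mul_zero]
  · rw [← pow_succ', Nat.sub_add_cancel (Nat.pos_of_ne_zero h)]

include hn in
theorem dvd_co : π ∣ co π n := by
  rw [co]
  split_ifs with h
  · exact dvd_zero _
  · exact dvd_pow_self _ (by omega)

include N in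
/-- `π (v - co) = - v (u - π)` -/
theorem mul_sub_co : π * (v - co π n) = - v * (u - π) := by
  linear_combination mul_co N

include N hn hu hv hπ in
/-- the kernel of the section -/
theorem ker_eq : RingHom.ker ρ = Ideal.span {u - π, v - co π n} := by
  have hle : Ideal.span {u - π, v - co π n} ≤ RingHom.ker ρ := by
    rw [Ideal.span_le]
    rintro z (rfl | rfl)
    · rw [SetLike.mem_coe, RingHom.mem_ker, map_sub, hu, sub_self]
    · rw [SetLike.mem_coe, RingHom.mem_ker, map_sub, hv, co, sub_self]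
  apply le_antisymm _ hle
  have hprime : (RingHom.ker ρ).IsPrime := RingHom.ker_isPrime ρ
  refine Submodule.le_of_le_smul_of_le_jacobson_bot (I := maximalIdeal B) (IsNoetherian.noetherian _)
      (IsLocalRing.maximalIdeal_le_jacobson _) ?_
  intro b hb
  have hbm := IsLocalRing.le_maximalIdeal hprime.ne_top hb
  have h1 := N.max_le hbm
  rw [Ideal.mem_span_insert] at h1
  obtain ⟨a, z, hz, rfl⟩ := h1
  obtain ⟨b, c, rfl⟩ := Ideal.mem_span_pair.1 hz
  obtain ⟨d, hd⟩ := dvd_co (π := π) hn
  have e : a * u + (b * v + c * π) = (a * (u - π) + b * (v - co π n)) + π * (a + b * d + c) := by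
    rw [hd]; ring
  rw [e] at hb ⊢
  have h2 : a * (u - π) + b * (v - co π n) ∈ Ideal.span {u - π, v - co π n} := Ideal.mem_span_pair.2 ⟨a, b, rfl⟩
  have h3 : π * (a + b * d + c) ∈ RingHom.ker ρ := by
    have := Ideal.sub_mem _ hb (hle h2)
    rwa [add_sub_cancel_left] at this
  have h4 : (a + b * d + c) ∈ RingHom.ker ρ := (hprime.mem_or_mem h3).resolve_left fun h => hπ h
  exact Submodule.add_mem_sup h2 (Submodule.smul_mem_smul N.pi_mem h4)

include N hn hu hv hπ in
/-- elements of the kernel are multiples of `u - π` after inverting `π`. -/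
theorem exists_mul_eq {b : B} (hb : b ∈ RingHom.ker ρ) : ∃ c, π * b = c * (u - π) := by
  rw [ker_eq N hn ρ hu hv hπ] at hb
  obtain ⟨a, c, rfl⟩ := Ideal.mem_span_pair.1 hb
  exact ⟨π * a - c * v, by linear_combination c * mul_sub_co N⟩

include N hn in
/-- `u - π` is a nonzerodivisor. -/
theorem eq_zero_of_mul {b : B} (hb : (u - π) * b = 0) : b = 0 := by
  obtain ⟨d, hd⟩ := dvd_co (π := π) hn
  have key : ∀ b : B, (u - π) * b = 0 → ∃ b', b = π * b' ∧ (u - π) * b' = 0 := by
    intro b hb
    have h1 : (v - co π n) * b = 0 := by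
      apply N.sys.mul_cancel
      rw [mul_zero, ← mul_assoc, mul_sub_co N, mul_assoc, hb, mul_zero]
    have m1 : b ∈ Ideal.span {u, π} := by
      have hp := N.prime1
      have h2 : v * b ∈ Ideal.span {u, π} := by
        have : v * b = π * (d * b) := by rw [hd] at h1; linear_combination h1
        rw [this]
        exact Ideal.mul_mem_right _ _ (Ideal.subset_span (by simp))
      exact (hp.mem_or_mem h2).resolve_left N.y_notMem
    have m2 : b ∈ Ideal.span {v, π} := by
      have hp := N.prime2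
      have h2 : u * b ∈ Ideal.span {v, π} := by
        have : u * b = π * b := by linear_combination hb
        rw [this]
        exact Ideal.mul_mem_right _ _ (Ideal.subset_span (by simp))
      exact (hp.mem_or_mem h2).resolve_left N.x_notMem
    obtain ⟨b', rfl⟩ := N.dvd_of_mem m1 m2
    refine ⟨b', rfl, ?_⟩
    apply N.sys.mul_cancel
    rw [mul_zero, ← hb]
    ring
  have hpow : ∀ (k : ℕ) (b : B), (u - π) * b = 0 → b ∈ Ideal.span {π} ^ k := by
    intro k
    induction k with
    | zero => intro b _; simp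
    | succ k ih =>
      intro b hb
      obtain ⟨b', rfl, hb'⟩ := key b hb
      have := ih b' hb'
      rw [pow_succ']
      exact Ideal.mul_mem_mul (Ideal.mem_span_singleton_self _) this
  have hne : Ideal.span {π} ≠ ⊤ := fun h => (maximalIdeal.isMaximal B).ne_top
    (top_le_iff.1 (h ▸ (Ideal.span_singleton_le_iff_mem _).2 N.pi_mem))
  have h1 : b ∈ (⨅ i : ℕ, Ideal.span {π} ^ i : Ideal B) := (Submodule.mem_iInf _).2 fun k => hpow k b hb
  rwa [Ideal.iInf_pow_eq_bot_of_isLocalRing _ hne, Ideal.mem_bot] at h1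

end Ker

section Gen

variable {A B : Type u} [CommRing A] [CommRing B] [IsLocalRing B] [IsNoetherianRing B] [Algebra A B]
  {R : Type*} [CommRing R] [IsDomain R] (ρ : B →+* R) (ι : R →+* A)

/-- the ideal of the section is generated by functions downstairs -/
theorem map_comap_ker (hι : ∀ r, ρ (algebraMap A B (ι r)) = r) {ϖ : R} (hϖ : Irreducible ϖ)
    (hR : ∀ r : R, ¬ IsUnit r → ϖ ∣ r)
    (m : Ideal A) (hm : maximalIdeal B = m.map (algebraMap A B))
    (hϖm : algebraMap A B (ι ϖ) ∈ maximalIdeal B) :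
    ((RingHom.ker ρ).comap (algebraMap A B)).map (algebraMap A B) = RingHom.ker ρ := by
  have hprime : (RingHom.ker ρ).IsPrime := RingHom.ker_isPrime ρ
  apply le_antisymm Ideal.map_comap_le
  refine Submodule.le_of_le_smul_of_le_jacobson_bot (I := maximalIdeal B) (IsNoetherian.noetherian _)
      (IsLocalRing.maximalIdeal_le_jacobson _) ?_
  -- `m ≤ P + ϖ`
  have h1 : maximalIdeal B ≤ ((RingHom.ker ρ).comap (algebraMap A B)).map (algebraMap A B) ⊔
      Ideal.span {algebraMap A B (ι ϖ)} := by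
    conv_lhs => rw [hm]
    rw [Ideal.map_le_iff_le_comap]
    intro α hα
    rw [Ideal.mem_comap]
    have h2 : ¬ IsUnit (ρ (algebraMap A B α)) := by
      intro hu
      -- then `α - ι r` lies in the kernel, `r` a unit
      have h3 : algebraMap A B α - algebraMap A B (ι (ρ (algebraMap A B α))) ∈ RingHom.ker ρ := by
        rw [RingHom.mem_ker, map_sub, hι, sub_self]
      have h4 := IsLocalRing.le_maximalIdeal hprime.ne_top h3
      have h5 : algebraMap A B α ∈ maximalIdeal B := by rw [hm]; exact Ideal.mem_map_of_mem _ hα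
      have h6 := Ideal.sub_mem _ h5 h4
      rw [sub_sub_cancel] at h6
      have h7 : IsUnit (algebraMap A B (ι (ρ (algebraMap A B α)))) := (hu.map ι).map _
      exact h6 h7
    obtain ⟨r, hr⟩ := hR _ h2
    have h3 : α - ι (ϖ * r) ∈ (RingHom.ker ρ).comap (algebraMap A B) := by
      rw [Ideal.mem_comap, RingHom.mem_ker, map_sub, map_sub, hι, hr, sub_self]
    have h4 : algebraMap A B α = algebraMap A B (α - ι (ϖ * r)) + algebraMap A B (ι r) * algebraMap A B (ι ϖ) := by
      rw [map_sub, map_mul, map_mul]; ring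
    rw [h4]
    exact Submodule.add_mem_sup (Ideal.mem_map_of_mem _ h3)
      (Ideal.mul_mem_left _ _ (Ideal.mem_span_singleton_self _))
  intro b hb
  obtain ⟨p, hp, c, hc, rfl⟩ := Submodule.mem_sup.1 (h1 (IsLocalRing.le_maximalIdeal hprime.ne_top hb))
  obtain ⟨c, rfl⟩ := Ideal.mem_span_singleton'.1 hc
  have h2 : c * algebraMap A B (ι ϖ) ∈ RingHom.ker ρ := by
    have := Ideal.sub_mem _ hb (Ideal.map_comap_le hp)
    rwa [add_sub_cancel_left] at this
  have h3 : c ∈ RingHom.ker ρ := (hprime.mem_or_mem h2).resolve_right fun h => by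
    rw [RingHom.mem_ker, hι] at h
    exact hϖ.ne_zero h
  refine Submodule.add_mem_sup hp ?_
  rw [mul_comm]
  exact Submodule.smul_mem_smul hϖm h3

end Gen

section Class

variable {A B : Type u} [CommRing A] [CommRing B] [IsLocalRing B] [IsNoetherianRing B] [Algebra A B]
  {ϖ : A} {u v : B} {n : ℕ} (N : NodeData (algebraMap A B ϖ) u v n) (hn : n ≠ 1)
  {R : Type*} [CommRing R] [IsDomain R] (ρ : B →+* R) (hu : ρ u = ρ (algebraMap A B ϖ))
  (hv : ρ v = ρ (if n = 0 then 0 else (algebraMap A B ϖ) ^ (n - 1))) (hπ : ρ (algebraMap A B ϖ) ≠ 0)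
  (hgen : ((RingHom.ker ρ).comap (algebraMap A B)).map (algebraMap A B) = RingHom.ker ρ)
  {K : Type*} [CommRing K] [Algebra A K] [IsLocalization.Away ϖ K]

include N hn hu hv hπ hgen in
/-- **The orders of a local equation of the section along the two branches.** -/
theorem dvd_of_eqv (κ : K)
    (h1 : ∃ (k : ℕ) (α : A), ρ (algebraMap A B α) = 0 ∧ algebraMap A K (ϖ ^ k) * κ = algebraMap A K α)
    (h2 : ∀ α : A, ρ (algebraMap A B α) = 0 → ∃ c : K, algebraMap A K α = c * κ) (a b : ℤ)
    (e0 : Eqv ((Ideal.span {u, algebraMap A B ϖ}).comap (algebraMap A B)) ((pu ϖ K) ^ a • (1 : K)) κ)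
    (e1 : Eqv ((Ideal.span {v, algebraMap A B ϖ}).comap (algebraMap A B)) ((pu ϖ K) ^ b • (1 : K)) κ) :
    (n : ℤ) ∣ a - b - 1 := by
  set π := algebraMap A B ϖ with hπdef
  have hp1 := N.prime1
  have hp2 := N.prime2
  let KB := Localization.Away π
  let θ : K →+* KB := IsLocalization.Away.lift ϖ (g := (algebraMap B KB).comp (algebraMap A B))
    (IsLocalization.Away.algebraMap_isUnit π)
  have hθ : ∀ α, θ (algebraMap A K α) = algebraMap B KB (algebraMap A B α) := fun α =>
    IsLocalization.Away.lift_eq ϖ _ α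
  have hθp : ∀ (m : ℤ), θ (((pu ϖ K) ^ m : Kˣ) : K) = (((pu π KB) ^ m : KBˣ) : KB) := by
    intro m
    have h3 : Units.map (θ : K →* KB) (pu ϖ K) = pu π KB := by
      ext
      rw [Units.coe_map, MonoidHom.coe_coe, coe_pu, coe_pu, hθ]
    rw [← h3, ← map_zpow]
    rfl
  -- transport of `Eqv`
  have hE : ∀ (p : Ideal B) (m : ℤ), Eqv (p.comap (algebraMap A B)) ((pu ϖ K) ^ m • (1 : K)) κ →
      Eqv p ((pu π KB) ^ m • (1 : KB)) (θ κ) := by
    rintro p m ⟨α, hα, β, hβ, hαβ⟩
    refine ⟨algebraMap A B α, hα, algebraMap A B β, hβ, ?_⟩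
    have := congrArg θ hαβ
    rw [Algebra.smul_def, Algebra.smul_def, map_mul, map_mul, hθ, hθ, Units.smul_def, smul_eq_mul, mul_one,
      hθp] at this
    rw [Algebra.smul_def, Algebra.smul_def, this, Units.smul_def, smul_eq_mul, mul_one]
  have f0 := hE _ a e0
  have f1 := hE _ b e1
  -- the element `w = u - π`
  have hinj := algebraMap_injective N.sys (K := KB)
  have hw : ∀ z : KB, algebraMap B KB (u - π) * z = 0 → z = 0 := by
    intro z hz
    obtain ⟨k, c, hc⟩ := exists_pow_mul (ϖ := π) z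
    have h3 : algebraMap B KB ((u - π) * c) = algebraMap B KB 0 := by
      rw [map_mul, ← hc, mul_left_comm, hz, mul_zero, map_zero]
    have h4 := eq_zero_of_mul N hn (hinj h3)
    rw [h4, map_zero] at hc
    have h5 : IsUnit (algebraMap B KB (π ^ k)) := by
      rw [map_pow]
      exact (IsLocalization.Away.algebraMap_isUnit π).pow k
    exact (h5.mul_right_eq_zero).1 hc
  -- `θ κ = ε w`
  obtain ⟨ε, hε⟩ : ∃ ε : KB, θ κ = ε * algebraMap B KB (u - π) := by
    obtain ⟨k, α, hα, hκ⟩ := h1
    obtain ⟨c, hc⟩ := exists_mul_eq N hn ρ hu hv hπ (b := algebraMap A B α) hα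
    have h3 := congrArg θ hκ
    rw [map_mul, hθ, hθ, map_pow] at h3
    have h5 : IsUnit (algebraMap B KB (π ^ (k + 1))) := by
      rw [map_pow]
      exact (IsLocalization.Away.algebraMap_isUnit π).pow _
    obtain ⟨r, hr⟩ := h5.exists_left_inv
    refine ⟨r * algebraMap B KB c, ?_⟩
    have h6 : algebraMap B KB (π ^ (k + 1)) * θ κ = algebraMap B KB c * algebraMap B KB (u - π) := by
      rw [← map_mul, ← hc, map_mul, ← h3, pow_succ', map_mul, mul_assoc]
    rw [mul_assoc, ← h6, ← mul_assoc, hr, one_mul]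
  -- `w = ε' θ κ`
  obtain ⟨ε', hε'⟩ : ∃ ε' : KB, algebraMap B KB (u - π) = ε' * θ κ := by
    have hwk : (u - π) ∈ RingHom.ker ρ := by rw [RingHom.mem_ker, map_sub, hu, sub_self]
    rw [← hgen] at hwk
    have key : ∀ z ∈ ((RingHom.ker ρ).comap (algebraMap A B)).map (algebraMap A B),
        algebraMap B KB z ∈ Ideal.span {θ κ} := by
      intro z hz
      have h3 : ((RingHom.ker ρ).comap (algebraMap A B)).map (algebraMap A B) ≤
          (Ideal.span {θ κ}).comap (algebraMap B KB) := by
        rw [Ideal.map_le_iff_le_comap]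
        intro α hα
        obtain ⟨c, hc⟩ := h2 α hα
        rw [Ideal.mem_comap, Ideal.mem_comap, ← hθ, hc, map_mul]
        exact Ideal.mul_mem_left _ _ (Ideal.mem_span_singleton_self _)
      exact h3 hz
    obtain ⟨c, hc⟩ := Ideal.mem_span_singleton'.1 (key _ hwk)
    exact ⟨c, hc.symm⟩
  have hεε : ε' * ε = 1 := by
    have h3 : algebraMap B KB (u - π) * (ε' * ε - 1) = 0 := by
      have : algebraMap B KB (u - π) = ε' * (ε * algebraMap B KB (u - π)) := by rw [← hε]; exact hε'
      linear_combination -this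
    exact sub_eq_zero.1 (hw _ h3)
  -- orders of `ε`
  have hvu : v * (u - π) = π * (co π n - v) := by linear_combination mul_sub_co N
  obtain ⟨d, hd⟩ := dvd_co (π := π) hn
  have hcv : co π n - v ∉ Ideal.span {u, π} := by
    intro h
    apply N.y_notMem
    have h3 : co π n ∈ Ideal.span {u, π} := by
      rw [hd]; exact Ideal.mul_mem_right _ _ (Ideal.subset_span (by simp))
    have := Ideal.sub_mem _ h3 h
    rwa [sub_sub_cancel] at this
  have huw : u - π ∉ Ideal.span {v, π} := by
    intro h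
    apply N.x_notMem
    have := Ideal.add_mem _ h (Ideal.subset_span (by simp) : π ∈ Ideal.span {v, π})
    rwa [sub_add_cancel] at this
  have g0 : Eqv (Ideal.span {u, π}) ((pu π KB) ^ (a - 1 - b) • (1 : KB)) ((pu π KB) ^ (-b) • ε) := by
    obtain ⟨α, hα, β, hβ, hαβ⟩ := f0
    refine ⟨α * (co π n - v), mul_notMem hα hcv, β * v, mul_notMem hβ N.y_notMem, ?_⟩
    rw [Algebra.smul_def, Algebra.smul_def, Units.smul_def, smul_eq_mul, mul_one] at hαβ
    rw [Algebra.smul_def, Algebra.smul_def, Units.smul_def, Units.smul_def, smul_eq_mul, smul_eq_mul, mul_one]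
    have h3 : (((pu π KB) ^ a : KBˣ) : KB) = ((pu π KB : KBˣ) : KB) * (((pu π KB) ^ (a - 1 - b) : KBˣ) : KB) *
        (((pu π KB) ^ b : KBˣ) : KB) := by
      rw [← Units.val_mul, ← Units.val_mul, ← zpow_one_add, ← zpow_add]
      congr 2
      ring
    have h4 : (((pu π KB) ^ (-b) : KBˣ) : KB) * (((pu π KB) ^ b : KBˣ) : KB) = 1 := by
      rw [← Units.val_mul, ← zpow_add, neg_add_cancel, zpow_zero, Units.val_one]
    have h5 := congrArg (algebraMap B KB) hvu
    rw [map_mul, map_mul, ← coe_pu π KB] at h5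
    rw [h3, hε] at hαβ
    apply (Units.isUnit (pu π KB)).mul_left_cancel
    rw [map_mul, map_mul]
    linear_combination ((((pu π KB) ^ (-b) : KBˣ) : KB) * algebraMap B KB v) * hαβ -
      (((pu π KB) ^ (-b) : KBˣ) : KB) * algebraMap B KB α * ε * h5 + (algebraMap B KB v * algebraMap B KB β *
      ((pu π KB : KBˣ) : KB) * (((pu π KB) ^ (a - 1 - b) : KBˣ) : KB)) * h4
  have g1 : Eqv (Ideal.span {v, π}) (1 : KB) ((pu π KB) ^ (-b) • ε) := by
    obtain ⟨α, hα, β, hβ, hαβ⟩ := f1
    refine ⟨α * (u - π), mul_notMem hα huw, β, hβ, ?_⟩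
    rw [Algebra.smul_def, Algebra.smul_def, Units.smul_def, smul_eq_mul, mul_one] at hαβ
    rw [Algebra.smul_def, Algebra.smul_def, Units.smul_def, smul_eq_mul, mul_one]
    have h4 : (((pu π KB) ^ (-b) : KBˣ) : KB) * (((pu π KB) ^ b : KBˣ) : KB) = 1 := by
      rw [← Units.val_mul, ← zpow_add, neg_add_cancel, zpow_zero, Units.val_one]
    rw [hε] at hαβ
    rw [map_mul]
    linear_combination (((pu π KB) ^ (-b) : KBˣ) : KB) * hαβ + algebraMap B KB β * h4
  have h := f4 (K := KB) (L := KB) (g₁ := (1 : KB)) (g₂ := (1 : KB)) N 0 (a - 1 - b) (1 : KB)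
    ((pu π KB) ^ (-b) • ε)
    (fun κ => by
      obtain ⟨k, c, hc⟩ := exists_pow_mul (ϖ := π) κ
      exact ⟨k, c, by rw [Algebra.smul_def, Algebra.smul_def, hc, mul_one]⟩)
    (fun κ => by
      obtain ⟨k, c, hc⟩ := exists_pow_mul (ϖ := π) (κ * ((((pu π KB) ^ b : KBˣ) : KB) * ε'))
      refine ⟨k, c, ?_⟩
      have h4 : (((pu π KB) ^ (-b) : KBˣ) : KB) * (((pu π KB) ^ b : KBˣ) : KB) = 1 := by
        rw [← Units.val_mul, ← zpow_add, neg_add_cancel, zpow_zero, Units.val_one]
      rw [Algebra.smul_def, Algebra.smul_def, ← hc, Units.smul_def, smul_eq_mul]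
      linear_combination (-algebraMap B KB (π ^ k) * κ * ε' * ε) * h4 - (algebraMap B KB (π ^ k) * κ) * hεε)
    (by rw [zpow_zero, one_smul]; exact Eqv.refl _ _)
    (Eqv.refl _ _) g0 g1
  have e : a - b - 1 = a - 1 - b - 0 := by ring
  rw [e]
  exact h

end Class

end K794.SecAlg
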