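import Groth.Agent.SemiFact.K794.Nodal2
import Groth.Agent.SemiFact.K794.Conv
import Groth.Agent.SemiFact.K794.SecBase
import Groth.Agent.Dix.PointIdeal
import Groth.Agent.Dix.IdealModCartier

/-!
# The ideal of the generic point of a section through a thick node
-/

set_option autoImplicit false
set_option linter.unusedSectionVars false
universe u v
open CategoryTheory CategoryTheory.Limits AlgebraicGeometry IsLocalRing TopologicalSpace Opposite
open Groth.Agent.Fdesc.LocGen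

namespace K794.SecDiv

open K794.Glob K794.Nodal K794.SecBase K793.Basic

section Points

variable {R : Type u} [CommRing R] [IsDomain R] [IsDiscreteValuationRing R] {ϖ : R} (hϖ : Irreducible ϖ)
  {X : Scheme.{u}} {f : X ⟶ Spec (CommRingCat.of R)} {n : ℕ} (S : NSec ϖ f n)

theorem f_sec (p : Spec (CommRingCat.of R)) : f (S.e (S.s p)) = p := by
  have h := congrArg (fun g : Spec (CommRingCat.of R) ⟶ Spec (CommRingCat.of R) => g p) S.hs
  exact h

theorem eq_eta_or (p : Spec (CommRingCat.of R)) : p = eta ∨ p = closedPoint R := by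
  by_cases h : p.asIdeal = ⊥
  · left
    exact PrimeSpectrum.ext h
  · right
    have h1 : p.asIdeal.IsMaximal := p.isPrime.isMaximal h
    exact PrimeSpectrum.ext (eq_maximalIdeal h1)

include hϖ in
theorem eta_ne : (eta : Spec (CommRingCat.of R)) ≠ closedPoint R := by
  intro h
  have h1 : (⊥ : Ideal R) = maximalIdeal R := congrArg PrimeSpectrum.asIdeal h
  have h2 : ϖ ∈ (⊥ : Ideal R) := by rw [h1]; exact hϖ.not_isUnit
  exact hϖ.ne_zero h2

include hϖ in
theorem pt1_mem : S.pt1 ∈ X.basicOpen (gl f ϖ) := by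
  rw [mem_basicOpen_iff f hϖ]
  have h : f S.pt1 = eta := f_sec S eta
  rw [h]
  exact eta_ne hϖ

include hϖ in
theorem pt0_notMem : S.pt0 ∉ X.basicOpen (gl f ϖ) := by
  rw [mem_basicOpen_iff f hϖ, not_not]
  exact f_sec S (closedPoint R)

/-- the points of the section -/
theorem range_eq : Set.range (S.s ≫ S.e) = {S.pt0, S.pt1} := by
  ext x
  constructor
  · rintro ⟨p, rfl⟩
    rcases eq_eta_or p with rfl | rfl
    · right; rfl
    · left; rfl
  · rintro (rfl | rfl)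
    · exact ⟨closedPoint R, rfl⟩
    · exact ⟨eta, rfl⟩

theorem isClosed_range [IsSeparated f] : IsClosed ({S.pt0, S.pt1} : Set X) := by
  rw [← range_eq]
  have h1 : IsClosedImmersion ((S.s ≫ S.e) ≫ f) := by
    rw [S.hs]; infer_instance
  have h2 : IsClosedImmersion (S.s ≫ S.e) := IsClosedImmersion.of_comp (S.s ≫ S.e) f
  exact (S.s ≫ S.e).isClosedEmbedding.isClosed_range

/-- the complement of the section -/
def compl [IsSeparated f] : X.Opens := ⟨({S.pt0, S.pt1} : Set X)ᶜ, (isClosed_range S).isOpen_compl⟩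

theorem mem_compl [IsSeparated f] {x : X} : x ∈ compl S ↔ x ≠ S.pt0 ∧ x ≠ S.pt1 := by
  change x ∉ ({S.pt0, S.pt1} : Set X) ↔ _
  rw [Set.mem_insert_iff, Set.mem_singleton_iff, not_or]

theorem mem_compl_of_notMem (hϖ : Irreducible ϖ) [IsSeparated f] {x : X} (hx : x ∉ X.basicOpen (gl f ϖ))
    (h0 : x ≠ S.pt0) : x ∈ compl S := by
  rw [mem_compl]
  refine ⟨h0, ?_⟩
  rintro rfl
  exact hx (pt1_mem hϖ S)

variable {Z : Scheme.{u}} {i : Z ⟶ X} {ι : Type v} {ξ : ι → X} (H : Sit i (gl f ϖ) ξ)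

include hϖ H in
theorem exists_delta : ∃ δ : Z, i δ = S.pt1 := by
  have := H.openImm
  have h := pt1_mem hϖ S
  rw [← H.range] at h
  exact h

variable {δ : Z} (hδ : i δ = S.pt1)

include hϖ H hδ in
theorem preimage_range : (i : Z → X) ⁻¹' ({S.pt0, S.pt1} : Set X) = {δ} := by
  have := H.openImm
  ext z
  rw [Set.mem_preimage, Set.mem_insert_iff, Set.mem_singleton_iff, Set.mem_singleton_iff]
  constructor
  · rintro (h | h)
    · exfalso
      apply pt0_notMem hϖ S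
      rw [← h, ← H.range]
      exact ⟨z, rfl⟩
    · exact i.isOpenEmbedding.injective (h.trans hδ.symm)
  · rintro rfl
    right
    exact hδ

include hϖ H hδ in
theorem isClosed_delta [IsSeparated f] : IsClosed ({δ} : Set Z) := by
  rw [← preimage_range hϖ S H hδ]
  exact (isClosed_range S).preimage i.continuous

include hϖ H hδ in
/-- **The generic point of the section is a Cartier divisor.** -/
theorem isEff [IsLocallyNoetherian Z] (hcl : IsClosed ({δ} : Set Z)) :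
    BlowUp.IsEffCartierIdeal (Groth.Agent.Dix.PointIdeal.pt δ hcl) := by
  apply Groth.Agent.Divis.CartierBasic.isEffCartierIdeal_of_stalkIdeal
  intro z hz
  rw [Groth.Agent.Dix.PointIdeal.mem_support_pt] at hz
  subst hz
  rw [Groth.Agent.Dix.PointIdeal.stalkIdeal_pt]
  have := H.openImm
  have hiso : IsIso (i.stalkMap z) := inferInstance
  obtain ⟨g, hg, hg'⟩ : ∃ g ∈ nonZeroDivisors (X.presheaf.stalk (i z)),
      maximalIdeal (X.presheaf.stalk (i z)) = Ideal.span {g} := by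
    rw [hδ]
    exact S.exists_gen_pt1 hϖ
  let E : X.presheaf.stalk (i z) ≃+* Z.presheaf.stalk z := (asIso (i.stalkMap z)).commRingCatIsoToRingEquiv
  refine ⟨E g, ?_, ?_⟩
  · rw [mem_nonZeroDivisors_iff_right] at hg ⊢
    intro c hc
    obtain ⟨c, rfl⟩ := E.surjective c
    rw [← map_mul, map_eq_zero_iff E E.injective] at hc
    rw [hg c hc, map_zero]
  · have h1 : (maximalIdeal (X.presheaf.stalk (i z))).map (E : X.presheaf.stalk (i z) →+* Z.presheaf.stalk z) =
        maximalIdeal (Z.presheaf.stalk z) := by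
      ext c
      rw [Ideal.mem_map_iff_of_surjective (E : X.presheaf.stalk (i z) →+* Z.presheaf.stalk z) E.surjective]
      constructor
      · rintro ⟨c, hc, rfl⟩
        change E c ∈ _
        rw [mem_maximalIdeal, mem_nonunits_iff] at hc ⊢
        intro h
        exact hc ((isUnit_map_iff E c).1 h)
      · intro hc
        refine ⟨E.symm c, ?_, E.apply_symm_apply c⟩
        rw [mem_maximalIdeal, mem_nonunits_iff] at hc ⊢
        intro h
        exact hc ((isUnit_map_iff E.symm c).1 h)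
    rw [← h1, hg', Ideal.map_span, Set.image_singleton]
    rfl

end Points

section Orders

open Groth.Agent.Dix.IdealModCartier

attribute [local instance] algV modV

variable {R : Type u} [CommRing R] [IsDomain R] [IsDiscreteValuationRing R] {ϖ : R} (hϖ : Irreducible ϖ)
  {X : Scheme.{u}} [IsLocallyNoetherian X] {f : X ⟶ Spec (CommRingCat.of R)} {n : ℕ} (S : NSec ϖ f n)
  {Z : Scheme.{u}} {i : Z ⟶ X} {ι : Type v} {ξ : ι → X} (H : Sit i (gl f ϖ) ξ)
  {δ : Z} (hδ : i δ = S.pt1) (hcl : IsClosed ({δ} : Set Z))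

theorem isInvertible_structureModule (Z : Scheme.{u}) : PicF.IsInvertible (Coh.structureModule Z) := by
  rw [isInvertible_iff]
  intro x
  exact ⟨⊤, one ⊤, trivial, isGen_one ⊤⟩

include hϖ H hδ in
/-- functions on `V` vanishing at the generic point of the section -/
theorem mem_ideal_iff {V : X.Opens} (hV : IsAffineOpen V) (hx : S.pt0 ∈ V) (a : Γ(X, V)) :
    (i.app V a : Γ(Z, i ⁻¹ᵁ V)) ∈ (Groth.Agent.Dix.PointIdeal.pt δ hcl).ideal ⟨i ⁻¹ᵁ V, H.isAffineOpen_preimage hV⟩ ↔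
      rho S.s (S.toB V hx a) = 0 := by
  have h1 : S.pt1 ∈ V := S.pt1_specializes.mem_open V.2 hx
  have hδV : δ ∈ i ⁻¹ᵁ V := by
    change i δ ∈ V
    rw [hδ]; exact h1
  rw [Groth.Agent.Dix.PointIdeal.ideal_pt δ hcl _ _ hδV, asIdeal_primeIdealOf, mem_qi, ← Scheme.preimage_basicOpen,
    ← S.mem_qi_pt1 V hx, mem_qi]
  change ¬ (i δ ∈ X.basicOpen a) ↔ _
  rw [hδ]

include hϖ hδ in
/-- **The orders of the ideal of the section.** -/
theorem dvd_of_pr [Finite ι] {U₀ : ι → X.Opens}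
    {G : ∀ v, Γ(ClSub.idealMod (Groth.Agent.Dix.PointIdeal.pt δ hcl), i ⁻¹ᵁ (U₀ v))}
    (hG : ∀ v, (ClSub.idealModι (Groth.Agent.Dix.PointIdeal.pt δ hcl)).app (i ⁻¹ᵁ (U₀ v)) (G v) =
      one (i ⁻¹ᵁ (U₀ v))) (φ : ι → ℤ) (h : H.Pr G φ S.pt0) :
    ∃ w₀ w₁, ξ w₀ ⤳ S.pt0 ∧ ξ w₁ ⤳ S.pt0 ∧ (∀ v, ξ v ⤳ S.pt0 → v = w₀ ∨ v = w₁) ∧
      (n : ℤ) ∣ φ w₀ - φ w₁ - 1 := by
  set J := Groth.Agent.Dix.PointIdeal.pt δ hcl with hJ
  obtain ⟨U, s, hxU, hs, hsv⟩ := h
  obtain ⟨_, ⟨V, hV, rfl⟩, hx, hVU⟩ := (X.isBasis_affineOpens).exists_subset_of_mem_open hxU U.2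
  replace hx : S.pt0 ∈ V := hx
  replace hV : IsAffineOpen V := hV
  replace hVU : V ≤ U := hVU
  -- the local equation
  have hs' : IsGen (res (ClSub.idealMod J) (i.preimage_mono hVU) s) := hs.res _
  set s' := res (ClSub.idealMod J) (i.preimage_mono hVU) s with hs'def
  set κ : Γ(Z, i ⁻¹ᵁ V) := val J s' with hκ
  have hgen := genOn_of_isGen hs' ⟨i ⁻¹ᵁ V, H.isAffineOpen_preimage hV⟩ le_rfl
  rw [ores_refl] at hgen
  -- the local ring of the étale neighbourhood
  let B := S.U.presheaf.stalk (S.s (closedPoint R))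
  let C := X.presheaf.stalk S.pt0
  let _ : Algebra Γ(X, V) B := (S.toB V hx).toAlgebra
  let _ : Algebra Γ(X, V) C := algS V S.pt0 hx
  let _ : Algebra C B := (S.e.stalkMap (S.s (closedPoint R))).hom.toAlgebra
  have hBt : algebraMap Γ(X, V) B (tr (gl f ϖ) V) = DualGr.stalkHom (S.e ≫ f) (S.s (closedPoint R)) ϖ :=
    S.toB_sec V hx ϖ
  have hCt : algebraMap Γ(X, V) C (tr (gl f ϖ) V) = ts (gl f ϖ) S.pt0 := germ_tr _ _ _
  have hcomp : ∀ a, algebraMap C B (algebraMap Γ(X, V) C a) = algebraMap Γ(X, V) B a := fun _ => rfl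
  have hCB : algebraMap C B (ts (gl f ϖ) S.pt0) = DualGr.stalkHom (S.e ≫ f) (S.s (closedPoint R)) ϖ := by
    rw [← hCt, hcomp, hBt]
  have hflat : Module.Flat C B := Flat.stalkMap S.e (S.s (closedPoint R))
  have hlochom : IsLocalHom (algebraMap C B) := inferInstanceAs (IsLocalHom (S.e.stalkMap (S.s (closedPoint R))).hom)
  have hff : Module.FaithfullyFlat C B := Module.FaithfullyFlat.of_flat_of_isLocalHom
  have NC : K794.NodeAlg.NodeData (algebraMap C B (ts (gl f ϖ) S.pt0)) S.u S.v n := by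
    rw [hCB]; exact S.N
  have NA : K794.NodeAlg.NodeData (algebraMap Γ(X, V) B (tr (gl f ϖ) V)) S.u S.v n := by
    rw [hBt]; exact S.N
  have SQ := K794.Descent.sysC NC
  have hSt := H.sysStalk S.pt0
  have hQ : ∀ j, ∃ (v : ι) (hv : ξ v ⤳ S.pt0), sp S.pt0 (ξ v) hv = K794.Descent.Q NC j := by
    intro j
    obtain ⟨⟨v, hv⟩, h⟩ := hSt.exists_eq SQ j
    exact ⟨v, hv, h⟩
  have hQ' : ∀ (v : ι) (hv : ξ v ⤳ S.pt0), ∃ j, K794.Descent.Q NC j = sp S.pt0 (ξ v) hv := by
    intro v hv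
    exact SQ.exists_eq hSt ⟨v, hv⟩
  obtain ⟨w₀, hw₀, hq₀⟩ := hQ 0
  obtain ⟨w₁, hw₁, hq₁⟩ := hQ 1
  refine ⟨w₀, w₁, hw₀, hw₁, ?_, ?_⟩
  · intro v hv
    obtain ⟨j, hj⟩ := hQ' v hv
    fin_cases j
    · left
      apply H.sp_injective hv hw₀
      rw [hq₀]; exact hj.symm
    · right
      apply H.sp_injective hv hw₁
      rw [hq₁]; exact hj.symm
  · have haw := H.away hV
    have hE : ∀ w (hw : ξ w ⤳ S.pt0), K794.Lat.Eqv (qi V (ξ w) (hw.mem_open V.2 hx))
        ((K794.Lat.pu (tr (gl f ϖ) V) Γ(Z, i ⁻¹ᵁ V)) ^ (φ w) • (1 : Γ(Z, i ⁻¹ᵁ V))) κ := by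
      intro w hw
      have hwV := hw.mem_open V.2 hx
      have e1 := (hsv w (hVU hwV)).trans (EqvAt.res_right hVU hwV s)
      have e2 := e1.map (ClSub.idealModι J)
      rw [Units.smul_def, Scheme.Modules.Hom.app_smul, hG] at e2
      have e3 : EqvAt i (ξ w) ((H.tau V) ^ (φ w) • one (i ⁻¹ᵁ V)) ((H.tau (U₀ w)) ^ (φ w) • one (i ⁻¹ᵁ (U₀ w))) := by
        apply H.eqvAt_tau
        refine ⟨V ⊓ U₀ w, inf_le_left, inf_le_right, ⟨hwV, e2.mem_left⟩, 1, isUnit_one, ?_⟩
        rw [map_one, one_smul, res_one, res_one]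
      have e4 := e3.trans e2
      rw [H.eqvAt_iff (isInvertible_structureModule Z) hV hwV, H.tau_eq_pu hV] at e4
      exact e4
    refine K794.SecAlg.dvd_of_eqv (A := Γ(X, V)) (B := B) (ϖ := tr (gl f ϖ) V) (K := Γ(Z, i ⁻¹ᵁ V)) NA S.hn
      (rho S.s) ?_ ?_ ?_ ?_ κ ?_ ?_ (φ w₀) (φ w₁) ?_ ?_
    · rw [hBt]; exact S.rho_u
    · rw [hBt]; exact S.rho_v
    · rw [hBt]; exact S.rho_pi_ne hϖ
    · exact S.map_comap_ker hϖ V hV hx
    · obtain ⟨k, α, hα⟩ := K794.Lat.exists_pow_mul (ϖ := tr (gl f ϖ) V) κ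
      refine ⟨k, α, ?_, hα⟩
      have h1 := mem_ideal_iff hϖ S H hδ hcl hV hx α
      apply h1.1
      have h2 : (i.app V α : Γ(Z, i ⁻¹ᵁ V)) = algebraMap Γ(X, V) Γ(Z, i ⁻¹ᵁ V) (tr (gl f ϖ) V ^ k) * κ := hα.symm
      rw [hgen.2, h2]
      exact Ideal.mul_mem_left _ _ (Ideal.mem_span_singleton_self _)
    · intro α hα
      have h1 := (mem_ideal_iff hϖ S H hδ hcl hV hx α).2 hα
      rw [hgen.2] at h1
      obtain ⟨c, hc⟩ := Ideal.mem_span_singleton'.1 h1
      exact ⟨c, hc.symm⟩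
    · have h1 := hE w₀ hw₀
      rw [← comap_sp S.pt0 (ξ w₀) hw₀ hx, hq₀] at h1
      have h2 : (K794.Descent.Q NC 0).comap (X.presheaf.germ V S.pt0 hx).hom =
          (Ideal.span {S.u, algebraMap Γ(X, V) B (tr (gl f ϖ) V)}).comap (algebraMap Γ(X, V) B) := by
        rw [hBt, ← hCB]
        rfl
      rw [h2] at h1
      exact h1
    · have h1 := hE w₁ hw₁
      rw [← comap_sp S.pt0 (ξ w₁) hw₁ hx, hq₁] at h1
      have h2 : (K794.Descent.Q NC 1).comap (X.presheaf.germ V S.pt0 hx).hom =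
          (Ideal.span {S.v, algebraMap Γ(X, V) B (tr (gl f ϖ) V)}).comap (algebraMap Γ(X, V) B) := by
        rw [hBt, ← hCB]
        rfl
      rw [h2] at h1
      exact h1

theorem sp_eq_of_eq (x z : X) (h : z ⤳ x) (e : z = x) : sp x z h = maximalIdeal (X.presheaf.stalk x) := by
  subst e
  unfold sp
  rw [TopCat.Presheaf.stalkSpecializes_refl]
  rfl

include H in
/-- the generic points of the components are not the node. -/
theorem xi_ne_pt0 [Finite ι] (v : ι) : ξ v ≠ S.pt0 := by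
  intro h
  have hv : ξ v ⤳ S.pt0 := by rw [h]
  let B := S.U.presheaf.stalk (S.s (closedPoint R))
  let C := X.presheaf.stalk S.pt0
  let _ : Algebra C B := (S.e.stalkMap (S.s (closedPoint R))).hom.toAlgebra
  have hCB : algebraMap C B (ts (gl f ϖ) S.pt0) = DualGr.stalkHom (S.e ≫ f) (S.s (closedPoint R)) ϖ := by
    have h1 := S.toB_sec ⊤ trivial ϖ
    rw [← h1]
    change algebraMap C B _ = algebraMap C B (X.presheaf.germ ⊤ S.pt0 trivial (sec f ⊤ ϖ))
    congr 1
    exact (K793.Basic.germ_sec f ⊤ S.pt0 trivial ϖ).symm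
  have hflat : Module.Flat C B := Flat.stalkMap S.e (S.s (closedPoint R))
  have hlochom : IsLocalHom (algebraMap C B) := inferInstanceAs (IsLocalHom (S.e.stalkMap (S.s (closedPoint R))).hom)
  have hff : Module.FaithfullyFlat C B := Module.FaithfullyFlat.of_flat_of_isLocalHom
  have NC : K794.NodeAlg.NodeData (algebraMap C B (ts (gl f ϖ) S.pt0)) S.u S.v n := by
    rw [hCB]; exact S.N
  have SQ := K794.Descent.sysC NC
  have hSt := H.sysStalk S.pt0
  have hmax : (maximalIdeal C).map (algebraMap C B) = maximalIdeal B :=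
    K315.NodeEtale.map_maximalIdeal_of_etale S.e (S.s (closedPoint R))
  obtain ⟨j, hj⟩ := SQ.exists_eq hSt ⟨v, hv⟩
  rw [sp_eq_of_eq S.pt0 (ξ v) hv h] at hj
  fin_cases j
  · have h1 : maximalIdeal C ≤ (Ideal.span {S.u, algebraMap C B (ts (gl f ϖ) S.pt0)}).comap (algebraMap C B) :=
      hj.ge
    rw [← Ideal.map_le_iff_le_comap, hmax] at h1
    exact NC.y_notMem (h1 NC.y_mem)
  · have h1 : maximalIdeal C ≤ (Ideal.span {S.v, algebraMap C B (ts (gl f ϖ) S.pt0)}).comap (algebraMap C B) :=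
      hj.ge
    rw [← Ideal.map_le_iff_le_comap, hmax] at h1
    exact NC.x_notMem (h1 NC.x_mem)

end Orders

section One

open Groth.Agent.Dix.IdealModCartier

variable {Z : Scheme.{u}} {δ : Z} (hcl : IsClosed ({δ} : Set Z))

theorem ideal_eq_top (W : Z.affineOpens) (h : δ ∉ W.1) :
    (Groth.Agent.Dix.PointIdeal.pt δ hcl).ideal W = ⊤ := by
  have h1 : (Groth.Agent.Dix.PointIdeal.pt δ hcl).ideal W =
    PrimeSpectrum.vanishingIdeal (W.2.fromSpec ⁻¹' {δ}) := rfl
  have h2 : W.2.fromSpec ⁻¹' {δ} = ∅ := by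
    rw [Set.eq_empty_iff_forall_notMem]
    intro p hp
    apply h
    have h3 : W.2.fromSpec p ∈ Set.range W.2.fromSpec := ⟨p, rfl⟩
    rw [W.2.range_fromSpec] at h3
    rw [Set.mem_preimage, Set.mem_singleton_iff] at hp
    rw [hp] at h3
    exact h3
  exact h1.trans ((congrArg PrimeSpectrum.vanishingIdeal h2).trans PrimeSpectrum.vanishingIdeal_empty)

theorem genOn_one (W : Z.Opens) (h : δ ∉ W) : GenOn (Groth.Agent.Dix.PointIdeal.pt δ hcl) (1 : Γ(Z, W)) := by
  intro U hU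
  rw [map_one]
  exact ⟨one_mem _, by rw [ideal_eq_top hcl U fun hh => h (hU hh), Ideal.span_singleton_one]⟩

/-- away from the point, the ideal is trivial -/
theorem exists_one (W : Z.Opens) (h : δ ∉ W) : ∃ s : Γ(ClSub.idealMod (Groth.Agent.Dix.PointIdeal.pt δ hcl), W),
    (ClSub.idealModι (Groth.Agent.Dix.PointIdeal.pt δ hcl)).app W s = one W ∧ IsGen s := by
  obtain ⟨s, hs⟩ := exists_val_eq_of_local (Groth.Agent.Dix.PointIdeal.pt δ hcl) W (1 : Γ(Z, W)) (by
    intro x hx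
    obtain ⟨V, hxV, hVW⟩ := exists_affine_mem_le W x hx
    refine ⟨V, hVW, hxV, ?_⟩
    rw [ideal_eq_top hcl V fun hh => h (hVW hh)]
    trivial)
  refine ⟨s, hs, isGen_of_genOn ?_⟩
  rw [hs]
  exact genOn_one hcl W h

end One

end K794.SecDiv
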