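import Groth.Agent.Fdesc.LocGen
import Groth.Agent.SemiFact.K794.Base
import Mathlib.AlgebraicGeometry.Noetherian

/-!
# Schemes with a nonzerodivisor `t` with reduced zero locus: primes of affine opens, lifting of functions

`Sit i t ξ`: `i : Z ⟶ X` is an open immersion onto `D(t)`, `ξ v` are the generic points of `V(t)`.
-/

set_option autoImplicit false
set_option linter.unusedSectionVars false
universe u
open CategoryTheory CategoryTheory.Limits AlgebraicGeometry IsLocalRing TopologicalSpace Opposite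
open Groth.Agent.Fdesc.LocGen

namespace K794.Glob

section Points

variable {X : Scheme.{u}}

/-- The ideal of functions on `V` vanishing at `x`. -/
noncomputable def qi (V : X.Opens) (x : X) (hx : x ∈ V) : Ideal Γ(X, V) :=
  (maximalIdeal (X.presheaf.stalk x)).comap (X.presheaf.germ V x hx).hom

theorem mem_qi {V : X.Opens} {x : X} {hx : x ∈ V} {a : Γ(X, V)} : a ∈ qi V x hx ↔ x ∉ X.basicOpen a := by
  rw [Scheme.mem_basicOpen X a x hx, qi, Ideal.mem_comap, mem_maximalIdeal, mem_nonunits_iff]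

theorem notMem_qi {V : X.Opens} {x : X} {hx : x ∈ V} {a : Γ(X, V)} : a ∉ qi V x hx ↔ x ∈ X.basicOpen a := by
  rw [mem_qi, not_not]

instance qi_isPrime (V : X.Opens) (x : X) (hx : x ∈ V) : (qi V x hx).IsPrime :=
  Ideal.comap_isPrime _ _

theorem asIdeal_primeIdealOf {V : X.Opens} (hV : IsAffineOpen V) (x : X) (hx : x ∈ V) :
    (hV.primeIdealOf ⟨x, hx⟩).asIdeal = qi V x hx := by
  rw [hV.primeIdealOf_eq_map_closedPoint]
  rfl

/-- Every prime of an affine open is the ideal of a point. -/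
theorem exists_eq_qi {V : X.Opens} (hV : IsAffineOpen V) (P : Ideal Γ(X, V)) [hP : P.IsPrime] :
    ∃ (x : X) (hx : x ∈ V), P = qi V x hx := by
  have hx : hV.fromSpec ⟨P, hP⟩ ∈ V := by
    have := hV.range_fromSpec
    rw [← SetLike.mem_coe, ← this]
    exact ⟨_, rfl⟩
  refine ⟨_, hx, ?_⟩
  rw [← asIdeal_primeIdealOf hV]
  have h1 := hV.fromSpec_primeIdealOf ⟨_, hx⟩
  have h2 := hV.fromSpec.isOpenEmbedding.injective h1
  rw [h2]

/-- specialization in terms of ideals -/
theorem qi_mono {V : X.Opens} {x y : X} (h : x ⤳ y) (hy : y ∈ V) :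
    qi V x (h.mem_open V.2 hy) ≤ qi V y hy := by
  intro a ha
  rw [mem_qi] at ha ⊢
  intro h'
  exact ha (h.mem_open (X.basicOpen a).2 h')

theorem specializes_of_qi_le {V : X.Opens} (hV : IsAffineOpen V) {x y : X} (hx : x ∈ V) (hy : y ∈ V)
    (h : qi V x hx ≤ qi V y hy) : x ⤳ y := by
  rw [← asIdeal_primeIdealOf hV, ← asIdeal_primeIdealOf hV] at h
  have h1 : hV.primeIdealOf ⟨x, hx⟩ ⤳ hV.primeIdealOf ⟨y, hy⟩ :=
    (PrimeSpectrum.le_iff_specializes _ _).1 h
  have h2 := h1.map hV.fromSpec.continuous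
  rwa [hV.fromSpec_primeIdealOf, hV.fromSpec_primeIdealOf] at h2

/-- the stalk is the localization -/
theorem isLocalization_stalk {V : X.Opens} (hV : IsAffineOpen V) (x : X) (hx : x ∈ V) :
    @IsLocalization.AtPrime _ _ (X.presheaf.stalk x) _ (X.presheaf.germ V x hx).hom.toAlgebra (qi V x hx) _ := by
  have h1 := hV.isLocalization_stalk ⟨x, hx⟩
  have h2 : (hV.primeIdealOf ⟨x, hx⟩).asIdeal.primeCompl = (qi V x hx).primeCompl := by
    congr 1
    exact asIdeal_primeIdealOf hV x hx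
  unfold IsLocalization.AtPrime at h1 ⊢
  rw [h2] at h1
  exact h1

theorem basicOpen_ores {U V : X.Opens} (h : V ≤ U) (a : Γ(X, U)) :
    X.basicOpen (ores h a) = V ⊓ X.basicOpen a := X.basicOpen_res a (homOfLE h).op

theorem mem_qi_ores {U V : X.Opens} (h : V ≤ U) {x : X} (hx : x ∈ V) (a : Γ(X, U)) :
    ores h a ∈ qi V x hx ↔ a ∈ qi U x (h hx) := by
  rw [mem_qi, mem_qi, basicOpen_ores]
  constructor
  · intro h' h''
    exact h' ⟨hx, h''⟩
  · intro h' h''
    exact h' h''.2

end Points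

section Algebraic

variable {X : Scheme.{u}}

/-- the restriction of a global function -/
noncomputable def tr (t : Γ(X, ⊤)) (V : X.Opens) : Γ(X, V) := ores le_top t

theorem ores_tr (t : Γ(X, ⊤)) {U V : X.Opens} (h : V ≤ U) : ores h (tr t U) = tr t V := ores_ores _ _ _

theorem basicOpen_tr (t : Γ(X, ⊤)) (V : X.Opens) : X.basicOpen (tr t V) = V ⊓ X.basicOpen t :=
  basicOpen_ores _ _

theorem ores_injective_of_eq {U V : X.Opens} (h : V ≤ U) (e : U = V) : Function.Bijective (ores (X := X) h) := by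
  subst e
  have : ores (X := X) h = RingHom.id Γ(X, U) := by
    ext m; exact ores_refl m
  rw [this]
  exact Function.bijective_id

end Algebraic

/-- `i : Z ⟶ X` is an open immersion onto `D(t)`, `t` is a nonzerodivisor with reduced zero locus, and the
`ξ v` are the generic points of `V(t)`. -/
structure Sit {X Z : Scheme.{u}} (i : Z ⟶ X) (t : Γ(X, ⊤)) {ι : Type*} (ξ : ι → X) : Prop where
  openImm : IsOpenImmersion i
  range : i.opensRange = X.basicOpen t
  nzd : ∀ (V : X.Opens) (a : Γ(X, V)), tr t V * a = 0 → a = 0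
  rad : ∀ V : X.Opens, IsAffineOpen V → ∀ (a : Γ(X, V)) (n : ℕ), a ^ n ∈ Ideal.span {tr t V} →
    a ∈ Ideal.span {tr t V}
  mem : ∀ v, ξ v ∉ X.basicOpen t
  exists_specializes : ∀ z ∉ X.basicOpen t, ∃ v, ξ v ⤳ z
  incomp : ∀ v w, ξ v ⤳ ξ w → v = w

namespace Sit

variable {X Z : Scheme.{u}} {i : Z ⟶ X} {t : Γ(X, ⊤)} {ι : Type*} {ξ : ι → X} (H : Sit i t ξ)

include H

theorem preimage_basicOpen_tr (V : X.Opens) : i ⁻¹ᵁ (X.basicOpen (tr t V)) = i ⁻¹ᵁ V := by
  have := H.openImm
  rw [basicOpen_tr, ← H.range, Scheme.Hom.preimage_inf, Scheme.Hom.preimage_opensRange, inf_top_eq]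

theorem isAffineOpen_preimage {V : X.Opens} (hV : IsAffineOpen V) : IsAffineOpen (i ⁻¹ᵁ V) := by
  have := H.openImm
  rw [← H.preimage_basicOpen_tr]
  apply IsAffineOpen.preimage_of_isOpenImmersion (hV.basicOpen _)
  rw [H.range, basicOpen_tr]
  exact inf_le_right

/-- the comparison of `Γ(X, V)[1/t]` and `Γ(Z, i⁻¹ V)` -/
theorem exists_equiv (V : X.Opens) : ∃ e : Γ(X, X.basicOpen (tr t V)) ≃+* Γ(Z, i ⁻¹ᵁ V),
    ∀ a : Γ(X, V), e (ores (X.basicOpen_le _) a) = i.app V a := by
  have := H.openImm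
  have h1 : IsIso (i.app (X.basicOpen (tr t V))) := by
    apply i.isIso_app
    rw [H.range, basicOpen_tr]
    exact inf_le_right
  have h2 : Function.Bijective (i.app (X.basicOpen (tr t V))).hom :=
    ConcreteCategory.bijective_of_isIso (i.app (X.basicOpen (tr t V)))
  have h3 := ores_injective_of_eq (i.preimage_mono (X.basicOpen_le (tr t V))) (H.preimage_basicOpen_tr V).symm
  let e1 := RingEquiv.ofBijective (i.app (X.basicOpen (tr t V))).hom h2
  let e2 := RingEquiv.ofBijective (ores (i.preimage_mono (X.basicOpen_le (tr t V)))) h3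
  refine ⟨e1.trans e2.symm, fun a => ?_⟩
  change e2.symm (e1 _) = _
  rw [RingEquiv.symm_apply_eq]
  exact ConcreteCategory.congr_hom (i.naturality (homOfLE (X.basicOpen_le (tr t V))).op) a

theorem isLocalization_away {V : X.Opens} (hV : IsAffineOpen V) :
    @IsLocalization.Away _ _ (tr t V) Γ(Z, i ⁻¹ᵁ V) _ (i.app V).hom.toAlgebra := by
  obtain ⟨e, he⟩ := H.exists_equiv V
  let _ := (i.app V).hom.toAlgebra
  have hloc := hV.isLocalization_basicOpen (tr t V)
  let e' : Γ(X, X.basicOpen (tr t V)) ≃ₐ[Γ(X, V)] Γ(Z, i ⁻¹ᵁ V) := AlgEquiv.ofRingEquiv (f := e) he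
  exact IsLocalization.isLocalization_of_algEquiv (Submonoid.powers (tr t V)) e'

/-- the primes of `Γ(X, V)` at the generic points of `V(t)` form a system. -/
theorem sys {V : X.Opens} (hV : IsAffineOpen V) : K794.Lat.Sys (tr t V)
    (fun v : {v : ι // ξ v ∈ V} => qi V (ξ v) v.2) where
  nzd := by
    rw [mem_nonZeroDivisors_iff_right]
    intro a ha
    exact H.nzd V a (by rw [mul_comm]; exact ha)
  prime := fun v => inferInstance
  mem := by
    rintro ⟨v, hv⟩
    rw [mem_qi, basicOpen_tr]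
    exact fun h => H.mem v h.2
  dvd := by
    intro c hc
    have h1 : c ∈ (Ideal.span {tr t V}).radical := by
      rw [Ideal.radical_eq_sInf, Submodule.mem_sInf]
      rintro P ⟨hP1, hP2⟩
      obtain ⟨x, hx, rfl⟩ := exists_eq_qi hV P
      have h2 : tr t V ∈ qi V x hx := hP1 (Ideal.mem_span_singleton_self _)
      have h3 : x ∉ X.basicOpen t := by
        rw [mem_qi, basicOpen_tr] at h2
        exact fun h => h2 ⟨hx, h⟩
      obtain ⟨v, hv⟩ := H.exists_specializes x h3
      exact qi_mono hv hx (hc ⟨v, hv.mem_open V.2 hx⟩)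
    obtain ⟨n, hn⟩ := h1
    exact Ideal.mem_span_singleton.1 (H.rad V hV c n hn)
  incomp := by
    rintro ⟨v, hv⟩ ⟨w, hw⟩ h
    have := H.incomp v w (specializes_of_qi_le hV hv hw h)
    subst this
    rfl

/-- `i.app V` is injective for affine `V` -/
theorem app_injective_of_affine {V : X.Opens} (hV : IsAffineOpen V) : Function.Injective (i.app V).hom := by
  let _ := (i.app V).hom.toAlgebra
  have := H.isLocalization_away hV
  exact K794.Lat.algebraMap_injective (H.sys hV) (K := Γ(Z, i ⁻¹ᵁ V))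

omit H in
theorem app_ores {U V : X.Opens} (h : V ≤ U) (a : Γ(X, U)) :
    i.app V (ores h a) = ores (i.preimage_mono h) (i.app U a) :=
  ConcreteCategory.congr_hom (i.naturality (homOfLE h).op) a

omit H in
theorem iSup_affine (V : X.Opens) : V ≤ ⨆ W : {W : X.Opens // IsAffineOpen W ∧ W ≤ V}, (W : X.Opens) := by
  intro x hx
  obtain ⟨_, ⟨W, hW, rfl⟩, hxW, hWV⟩ := (X.isBasis_affineOpens).exists_subset_of_mem_open hx V.2
  exact Opens.mem_iSup.2 ⟨⟨W, hW, hWV⟩, hxW⟩

theorem app_injective (V : X.Opens) {a b : Γ(X, V)} (h : i.app V a = i.app V b) : a = b := by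
  refine ores_ext (fun W : {W : X.Opens // IsAffineOpen W ∧ W ≤ V} => (W : X.Opens)) (fun W => W.2.2)
    (iSup_affine V) fun W => ?_
  apply H.app_injective_of_affine W.2.1
  change i.app _ _ = i.app _ _
  rw [app_ores, app_ores, h]

/-- functions on `i⁻¹ V` which extend near the generic points of `V(t)` extend: affine case -/
theorem exists_app_eq_of_affine {V : X.Opens} (hV : IsAffineOpen V) (c : Γ(Z, i ⁻¹ᵁ V))
    (hc : ∀ v, ξ v ∈ V → ∃ (T : X.Opens) (hT : T ≤ V), ξ v ∈ T ∧ ∃ g : Γ(X, T),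
      i.app T g = ores (i.preimage_mono hT) c) : ∃ g : Γ(X, V), i.app V g = c := by
  let _ := (i.app V).hom.toAlgebra
  have hloc := H.isLocalization_away hV
  apply K794.Lat.exists_of_forall (H.sys hV) (K := Γ(Z, i ⁻¹ᵁ V)) c
  rintro ⟨v, hv⟩
  obtain ⟨T, hT, hvT, g, hg⟩ := hc v hv
  obtain ⟨h, hh, hvh⟩ := hV.exists_basicOpen_le ⟨ξ v, hvT⟩ hv
  have hlh := hV.isLocalization_basicOpen h
  obtain ⟨n, a, ha⟩ := K794.Lat.exists_pow_mul (ϖ := h) (ores hh g : Γ(X, X.basicOpen h))
  -- the difference vanishes on the basic open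
  have h1 : ores (i.preimage_mono (X.basicOpen_le h)) (i.app V (h ^ n) * c - i.app V a) = 0 := by
    have ha' : ores (X.basicOpen_le h) (h ^ n) * ores hh g = ores (X.basicOpen_le h) a := ha
    rw [map_sub, map_mul, ← app_ores (X.basicOpen_le h), ← app_ores (X.basicOpen_le h), ← ha', map_mul,
      app_ores hh, hg, ores_ores, sub_self]
  have h2 : Z.basicOpen (i.app V h) = i ⁻¹ᵁ (X.basicOpen h) := (Scheme.preimage_basicOpen i h).symm
  have hVi := H.isAffineOpen_preimage hV
  have h3 : Z.presheaf.map (homOfLE (Z.basicOpen_le (i.app V h))).op (i.app V (h ^ n) * c - i.app V a) = 0 := by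
    change ores _ _ = 0
    have := congrArg (ores h2.le) h1
    rw [ores_ores, map_zero] at this
    exact this
  obtain ⟨m, hm⟩ := exists_pow_mul_eq_zero_of_res_basicOpen_eq_zero_of_isCompact Z hVi.isCompact _ _ h3
  refine ⟨h ^ (m + n), K794.Lat.pow_notMem (notMem_qi.2 hvh) _, h ^ m * a, ?_⟩
  change i.app V (h ^ (m + n)) * c = i.app V (h ^ m * a)
  rw [mul_sub, sub_eq_zero, ← mul_assoc] at hm
  rw [pow_add, map_mul, map_mul, map_pow _ h m]
  exact hm

/-- functions on `i⁻¹ V` which extend near the generic points of `V(t)` extend -/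
theorem exists_app_eq {V : X.Opens} (c : Γ(Z, i ⁻¹ᵁ V))
    (hc : ∀ v, ξ v ∈ V → ∃ (T : X.Opens) (hT : T ≤ V), ξ v ∈ T ∧ ∃ g : Γ(X, T),
      i.app T g = ores (i.preimage_mono hT) c) : ∃ g : Γ(X, V), i.app V g = c := by
  have h1 : ∀ W : {W : X.Opens // IsAffineOpen W ∧ W ≤ V}, ∃ g : Γ(X, W.1),
      i.app W.1 g = ores (i.preimage_mono W.2.2) c := by
    intro W
    apply H.exists_app_eq_of_affine W.2.1
    intro v hv
    obtain ⟨T, hT, hvT, g, hg⟩ := hc v (W.2.2 hv)
    refine ⟨T ⊓ W.1, inf_le_right, ⟨hvT, hv⟩, ores inf_le_left g, ?_⟩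
    rw [app_ores, hg, ores_ores, ores_ores]
  choose g hg using h1
  obtain ⟨a, ha⟩ := ores_glue (V := V) (fun W : {W : X.Opens // IsAffineOpen W ∧ W ≤ V} => (W : X.Opens))
    (fun W => W.2.2) (iSup_affine V) g (by
      intro W W'
      apply H.app_injective
      rw [app_ores, app_ores, hg, hg, ores_ores, ores_ores])
  refine ⟨a, ?_⟩
  have hcov : i ⁻¹ᵁ V ≤ ⨆ W : {W : X.Opens // IsAffineOpen W ∧ W ≤ V}, i ⁻¹ᵁ (W : X.Opens) := by
    rw [← Scheme.Hom.preimage_iSup]
    exact i.preimage_mono (iSup_affine V)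
  refine ores_ext (fun W : {W : X.Opens // IsAffineOpen W ∧ W ≤ V} => i ⁻¹ᵁ (W : X.Opens))
    (fun W => i.preimage_mono W.2.2) hcov fun W => ?_
  rw [← app_ores W.2.2, ha, hg]

end Sit

end K794.Glob
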